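import Cfsg.Agent.HallJanko.Invol

/-!
Elements of order 5 in the centraliser of the central involution.
-/

set_option autoImplicit false

namespace Cfsg.Agent.HallJanko

namespace M

theorem five_trans : ∀ τ : Equiv.Perm (Fin 5), τ ^ 5 = 1 → τ ≠ 1 → ∀ i : Fin 5,
    ∃ k : Fin 5, (τ ^ k.val) 0 = i := by decide +kernel

theorem five_auto : ∀ σ τ : Equiv.Perm (Fin 5), τ ^ 5 = 1 → τ ≠ 1 → Equiv.Perm.sign σ = 1 →
    ∀ j : Fin 5, σ * τ * σ⁻¹ = τ ^ j.val → j = 1 ∨ j = 4 := by decide +kernel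

theorem five_cent {τ σ : Equiv.Perm (Fin 5)} (h5 : τ ^ 5 = 1) (h1 : τ ≠ 1) (hc : σ * τ = τ * σ) :
    ∃ k : Fin 5, σ = τ ^ k.val := by
  obtain ⟨k, hk⟩ := five_trans τ h5 h1 (σ 0)
  refine ⟨k, Equiv.ext fun i => ?_⟩
  obtain ⟨m, rfl⟩ := five_trans τ h5 h1 i
  have e1 : σ * τ ^ m.val = τ ^ m.val * σ := ((show Commute σ τ from hc).pow_right m.val).eq
  calc σ ((τ ^ m.val) 0) = (τ ^ m.val) (σ 0) := Equiv.Perm.congr_fun e1 0
    _ = (τ ^ k.val) ((τ ^ m.val) 0) := by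
        rw [← hk, ← Equiv.Perm.mul_apply, ← Equiv.Perm.mul_apply, ← pow_add, ← pow_add, Nat.add_comm]

end M

variable {G : Type*} [Group G] [Finite G] {z : G} {Q : Subgroup G}

namespace HJ

variable (h : HJ z Q)
include h

theorem five_notMem {y : G} (hy : orderOf y = 5) : y ∉ Q := fun hm => by
  haveI : Fact (Nat.Prime 5) := ⟨by norm_num⟩
  have := Subgroup.orderOf_dvd_natCard Q hm
  rw [hy, h.card] at this
  norm_num at this

theorem five_π (F : Frame z Q) {y : G} (hyz : y * z = z * y) (hy : orderOf y = 5) :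
    (F.π h y) ^ 5 = 1 ∧ F.π h y ≠ 1 :=
  ⟨by rw [← F.π_pow h hyz, show y ^ 5 = 1 by rw [← hy, pow_orderOf_eq_one], F.π_one h],
    fun e => h.five_notMem hy ((F.π_eq_one_iff h hyz).1 e)⟩

theorem five_pow_comm {y : G} (hyz : y * z = z * y) (n : ℕ) : y ^ n * z = z * y ^ n :=
  ((show Commute y z from hyz).pow_left n).eq

/-- The centraliser of an element of order 5 inside `C(z)`. -/
theorem five_cent {y : G} (hyz : y * z = z * y) (hy : orderOf y = 5) {c : G} (hc : c * z = z * c)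
    (hcy : c * y = y * c) : ∃ k : Fin 5, c = y ^ k.val ∨ c = z * y ^ k.val := by
  obtain ⟨F⟩ := h.exists_frame
  obtain ⟨h5, h1⟩ := h.five_π F hyz hy
  obtain ⟨k, hk⟩ := M.five_cent h5 h1 (by rw [← F.π_mul h hc hyz, ← F.π_mul h hyz hc, hcy])
  have hkz := h.five_pow_comm hyz k.val
  have hqz : c * (y ^ k.val)⁻¹ * z = z * (c * (y ^ k.val)⁻¹) :=
    ((show Commute c z from hc).mul_left (h.commute_inv hkz)).eq
  have hqQ : c * (y ^ k.val)⁻¹ ∈ Q := (F.π_eq_one_iff h hqz).1 (by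
    rw [F.π_mul h hc (h.commute_inv hkz), F.π_inv h hkz, F.π_pow h hyz, hk, mul_inv_cancel])
  have hcomm : y * (c * (y ^ k.val)⁻¹) = c * (y ^ k.val)⁻¹ * y :=
    (((show Commute c y from hcy).symm).mul_right ((Commute.refl y).pow_right k.val).inv_right).eq
  refine ⟨k, ?_⟩
  rcases h.fix_five hyz hy hqQ hcomm with e | e
  · exact Or.inl (mul_inv_eq_one.1 e)
  · exact Or.inr (mul_inv_eq_iff_eq_mul.1 e)

theorem five_norm {y : G} (hyz : y * z = z * y) (hy : orderOf y = 5) {c : G} (hc : c * z = z * c)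
    (hcy : c * y * c⁻¹ ∈ Subgroup.zpowers y) : c * y * c⁻¹ = y ∨ c * y * c⁻¹ = y⁻¹ := by
  obtain ⟨F⟩ := h.exists_frame
  obtain ⟨h5, h1⟩ := h.five_π F hyz hy
  obtain ⟨n, hn⟩ := Submonoid.mem_powers_iff _ _ |>.1 (mem_powers_iff_mem_zpowers.2 hcy)
  have hn' : c * y * c⁻¹ = y ^ (⟨n % 5, Nat.mod_lt _ (by norm_num)⟩ : Fin 5).val := by
    rw [← hn, ← pow_mod_orderOf y n, hy]
  rcases M.five_auto _ _ h5 h1 (F.π_sign h hc) _ (by
    rw [← F.π_conj h hc hyz, hn', F.π_pow h hyz]) with e | e <;> rw [e] at hn'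
  · exact Or.inl (by rw [hn']; simp)
  · refine Or.inr (hn'.trans (eq_inv_of_mul_eq_one_left ?_))
    rw [← pow_succ]
    show y ^ 5 = 1
    rw [← hy, pow_orderOf_eq_one]

/-- An element of order 5 inverted by an outer involution. -/
theorem exists_five_inverted : ∃ y t : G, orderOf y = 5 ∧ y * z = z * y ∧ Outer z Q t ∧
    t * y * t = y⁻¹ := by
  haveI : Fact (Nat.Prime 5) := ⟨by norm_num⟩
  obtain ⟨t, ht, -⟩ := h.exists_outer
  obtain ⟨F, A⟩ := h.exists_adapted ht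
  let σ : Equiv.Perm (Fin 5) := Equiv.swap 1 2 * Equiv.swap 3 4
  obtain ⟨g, hg, hgσ⟩ := M.τ0_conj σ (by decide +kernel) (by decide +kernel) (by decide +kernel)
  obtain ⟨c, hc, hcπ⟩ := F.π_surj h hg
  have htt := Invol.mul_self_eq_one ht.ord
  set t1 := c * t * c⁻¹ with ht1
  have ht1z : t1 * z = z * t1 :=
    (((show Commute c z from hc).mul_left ht.comm).mul_left (h.commute_inv hc)).eq
  have ht1π : F.π h t1 = σ := by rw [ht1, F.π_conj h hc ht.comm, hcπ, A.π_eq, hgσ]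
  have ht11 : t1 * t1 = 1 := by
    rw [ht1, show c * t * c⁻¹ * (c * t * c⁻¹) = c * (t * t) * c⁻¹ by group, htt]; group
  set x := t * t1 with hx
  have hxz : x * z = z * x := ((show Commute t z from ht.comm).mul_left ht1z).eq
  have hxπ : F.π h x = M.τ0 * σ := by rw [hx, F.π_mul h ht.comm ht1z, A.π_eq, ht1π]
  have hx5 : x ^ 5 ∈ Q := (F.π_eq_one_iff h (h.five_pow_comm hxz 5)).1 (by
    rw [F.π_pow h hxz, hxπ]; decide +kernel)
  have hQ4 : ∀ m : M, (m * m) * (m * m) = 1 := by decide +kernel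
  have hx20 : x ^ 20 = 1 := by
    obtain ⟨m, hm⟩ := F.ι_surj h hx5
    calc x ^ 20 = (x ^ 5 * x ^ 5) * (x ^ 5 * x ^ 5) := by group
      _ = 1 := by rw [← hm, ← map_mul, ← map_mul, hQ4, map_one]
  have hy1 : x ^ 4 ≠ 1 := fun e => by
    have := congrArg (F.π h) e
    rw [F.π_pow h hxz, hxπ, F.π_one h] at this
    exact absurd this (by decide +kernel)
  have hxinv : t * x * t⁻¹ = x⁻¹ := by
    rw [hx, mul_inv_rev, inv_eq_of_mul_eq_one_right htt, inv_eq_of_mul_eq_one_right ht11, ← mul_assoc,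
      htt, one_mul]
  refine ⟨x ^ 4, t, orderOf_eq_prime (by rw [← pow_mul]; exact hx20) hy1, h.five_pow_comm hxz 4, ht, ?_⟩
  calc t * x ^ 4 * t = t * x ^ 4 * t⁻¹ := by rw [inv_eq_of_mul_eq_one_right htt]
    _ = (t * x * t⁻¹) ^ 4 := conj_pow.symm
    _ = (x ^ 4)⁻¹ := by rw [hxinv, inv_pow]

/-- A normalising element of `⟨y⟩` fixes or inverts `y`. -/
theorem five_frattini {y : G} (hyz : y * z = z * y) (hy : orderOf y = 5) {n : G}
    (hn : n * y * n⁻¹ ∈ Subgroup.zpowers y) : n * y * n⁻¹ = y ∨ n * y * n⁻¹ = y⁻¹ := by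
  classical
  haveI : Fact (Nat.Prime 2) := ⟨Nat.prime_two⟩
  set Y := Subgroup.centralizer ({y} : Set G) with hY
  have hzY : z ∈ Y := mem_C.2 hyz.symm
  have hwy : n * z * n⁻¹ * y = y * (n * z * n⁻¹) := by
    obtain ⟨k, hk⟩ := Subgroup.mem_zpowers_iff.1 hn
    have hy' : Commute (n * y * n⁻¹) (n * z * n⁻¹) := by
      have := congrArg (fun a => n * a * n⁻¹) hyz
      simp only [Commute, SemiconjBy] at *
      calc n * y * n⁻¹ * (n * z * n⁻¹) = n * (y * z) * n⁻¹ := by group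
        _ = n * (z * y) * n⁻¹ := by rw [hyz]
        _ = _ := by group
    -- `y` is a power of its conjugate
    have hgen : y ∈ Subgroup.zpowers (n * y * n⁻¹) := by
      have heq : Subgroup.zpowers (n * y * n⁻¹) = Subgroup.zpowers y :=
        Subgroup.eq_of_le_of_card_ge (Subgroup.zpowers_le.2 hn)
          (by rw [Nat.card_zpowers, Nat.card_zpowers, Invol.orderOf_conj])
      exact heq ▸ Subgroup.mem_zpowers y
    obtain ⟨j, hj⟩ := Subgroup.mem_zpowers_iff.1 hgen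
    have h2 := hy'.zpow_left j
    rw [hj] at h2
    exact h2.eq.symm
  obtain ⟨S, hS⟩ := (IsPGroup.of_card (n := 1) (by
    rw [Nat.card_zpowers, ← Subgroup.orderOf_coe, h.hz]; norm_num) :
    IsPGroup 2 (Subgroup.zpowers (⟨z, hzY⟩ : Y))).exists_le_sylow
  obtain ⟨S', hS'⟩ := (IsPGroup.of_card (n := 1) (by
    rw [Nat.card_zpowers, ← Subgroup.orderOf_coe]; simp [Invol.orderOf_conj, h.hz]) :
    IsPGroup 2 (Subgroup.zpowers (⟨n * z * n⁻¹, mem_C.2 hwy⟩ : Y))).exists_le_sylow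
  -- the Sylow 2-subgroup of `C(y)` is `⟨z⟩`
  have hSz : ∀ w : Y, w ∈ (S : Subgroup Y) → (w : G) = 1 ∨ (w : G) = z := by
    haveI : Group.IsNilpotent (S : Subgroup Y) := S.2.isNilpotent
    have hC : ∀ w : Y, w ∈ (S : Subgroup Y) → (w : G) * z = z * (w : G) → (w : G) = 1 ∨ (w : G) = z := by
      intro w hw hwz
      obtain ⟨k, hk⟩ := h.five_cent hyz hy hwz (mem_C.1 w.2)
      obtain ⟨m, hm⟩ := (IsPGroup.iff_orderOf.1 S.2) ⟨w, hw⟩
      rw [Subgroup.orderOf_mk, ← Subgroup.orderOf_coe] at hm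
      have hpow : (w : G) ^ 2 ^ m = 1 := by rw [← hm, pow_orderOf_eq_one]
      have hy0 : (y ^ k.val) ^ 2 ^ (m + 1) = 1 := by
        rcases hk with e | e
        · rw [← e, pow_succ, pow_mul, hpow, one_pow]
        · have : Commute z (y ^ k.val) := (h.five_pow_comm hyz k.val).symm
          have e2 : (w : G) ^ 2 ^ (m + 1) = z ^ 2 ^ (m + 1) * (y ^ k.val) ^ 2 ^ (m + 1) := by
            rw [e, this.mul_pow]
          rw [pow_succ, pow_mul (w : G), hpow, one_pow, mul_comm (2 ^ m) 2, pow_mul z, pow_two, h.zsq,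
            one_pow, one_mul] at e2
          rw [pow_succ, mul_comm (2 ^ m) 2]; exact e2.symm
      rw [← pow_mul, ← orderOf_dvd_iff_pow_eq_one, hy] at hy0
      have hk0 : k.val = 0 := by
        rcases (Nat.Prime.dvd_mul (by norm_num : Nat.Prime 5)).1 hy0 with e | e
        · have := k.isLt
          rcases Nat.eq_zero_or_pos k.val with e0 | e0
          · exact e0
          · exact absurd (Nat.le_of_dvd e0 e) (by omega)
        · exact absurd (Nat.Prime.dvd_of_dvd_pow (by norm_num : Nat.Prime 5) e) (by norm_num)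
      rw [hk0, pow_zero, mul_one] at hk
      exact hk
    set Z := (Subgroup.zpowers (⟨z, hzY⟩ : Y)).subgroupOf (S : Subgroup Y)
    by_cases hZ : Z = ⊤
    · intro w hw
      refine hC w hw ?_
      have : (⟨w, hw⟩ : (S : Subgroup Y)) ∈ Z := hZ ▸ Subgroup.mem_top _
      obtain ⟨i, hi⟩ := Subgroup.mem_zpowers_iff.1 this
      have hi' : z ^ i = (w : G) := by simpa using congrArg (fun a : Y => (a : G)) hi
      rw [← hi']
      exact ((Commute.refl z).zpow_left i).eq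
    exfalso
    obtain ⟨x, hxN, hxZ⟩ := SetLike.exists_of_lt
      (Group.normalizerCondition_of_isNilpotent Z (lt_top_iff_ne_top.2 hZ))
    have hzS : (⟨z, hzY⟩ : Y) ∈ (S : Subgroup Y) := hS (Subgroup.mem_zpowers _)
    have hmem := (Subgroup.mem_normalizer_iff.1 hxN ⟨_, hzS⟩).1 (Subgroup.mem_zpowers _)
    obtain ⟨i, hi⟩ := Subgroup.mem_zpowers_iff.1 hmem
    have hi' : z ^ i = ((x : Y) : G) * z * ((x : Y) : G)⁻¹ := by simpa using congrArg (fun a : Y => (a : G)) hi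
    have hxz : ((x : Y) : G) * z = z * ((x : Y) : G) := by
      refine mul_inv_eq_iff_eq_mul.1 ?_
      rcases Int.even_or_odd' i with ⟨j, rfl | rfl⟩
      · rw [zpow_mul, zpow_two, h.zsq, one_zpow] at hi'
        exact absurd (conj_eq_one_iff.1 hi'.symm) h.zne
      · rw [zpow_add_one, zpow_mul, zpow_two, h.zsq, one_zpow, one_mul] at hi'
        exact hi'.symm
    apply hxZ
    rcases hC x x.2 hxz with e | e
    · show (x : Y) ∈ Subgroup.zpowers (⟨z, hzY⟩ : Y)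
      rw [show (x : Y) = 1 from Subtype.ext e]; exact one_mem _
    · show (x : Y) ∈ Subgroup.zpowers (⟨z, hzY⟩ : Y)
      rw [show (x : Y) = ⟨z, hzY⟩ from Subtype.ext e]; exact Subgroup.mem_zpowers _
  obtain ⟨c, hc⟩ := MulAction.exists_smul_eq Y S' S
  have hmem : c * ⟨n * z * n⁻¹, mem_C.2 hwy⟩ * c⁻¹ ∈ (S : Subgroup Y) := by
    rw [← hc]
    exact Subgroup.mem_map.2 ⟨_, hS' (Subgroup.mem_zpowers _), rfl⟩
  have hcy : (c : G) * y = y * (c : G) := mem_C.1 c.2
  set m := (c : G) * n with hm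
  have hmz : m * z = z * m := by
    refine mul_inv_eq_iff_eq_mul.1 ?_
    have := (hSz _ hmem).resolve_left (by
      intro e
      have e' : (c : G) * (n * z * n⁻¹) * (c : G)⁻¹ = 1 := e
      exact h.zne (conj_eq_one_iff.1 (conj_eq_one_iff.1 e')))
    calc m * z * m⁻¹ = (c : G) * (n * z * n⁻¹) * (c : G)⁻¹ := by rw [hm]; group
      _ = z := this
  have hmy : m * y * m⁻¹ = n * y * n⁻¹ := by
    obtain ⟨k, hk⟩ := Subgroup.mem_zpowers_iff.1 hn
    rw [hm, show (c : G) * n * y * ((c : G) * n)⁻¹ = (c : G) * (n * y * n⁻¹) * (c : G)⁻¹ by group, ← hk,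
      ((show Commute (c : G) y from hcy).zpow_right k).eq, mul_inv_cancel_right]
  rw [← hmy]
  exact h.five_norm hyz hy hmz (by rw [hmy]; exact hn)

end HJ

end Cfsg.Agent.HallJanko
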