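import Cfsg.Agent.HallJanko.Kernel
import Cfsg.Agent.HallJanko.FiveBase
import Cfsg.Agent.S1875
import Cfsg.Agent.Char.Ortho

/-!
The order of a group of Hall–Janko type.
-/

set_option autoImplicit false

namespace Cfsg.Agent.HallJanko

namespace M

theorem pair_product : ∀ x : M, x * x = 1 → φ x ≠ x → x ≠ 1 ∧ x ≠ zM ∧
    (x * φ x * (x * φ x) = zM ∨ x * φ x = zM) := by decide +kernel

end M

variable {G : Type*} [Group G] [Finite G] {z : G} {Q : Subgroup G}

namespace HJ

variable (h : HJ z Q)
include h

theorem card_outer {t : G} (ht : Outer z Q t) :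
    Nat.card {v : G // Outer z Q v} = 120 := by
  set C := Subgroup.centralizer ({z} : Set G) with hC
  set T : C := ⟨t, mem_C.2 ht.comm⟩
  have hset : Nat.card {v : G // Outer z Q v} = Nat.card {x : C // IsConj T x} := by
    refine Nat.card_congr
      { toFun := fun v => ⟨⟨v.1, mem_C.2 v.2.comm⟩, ?_⟩
        invFun := fun x => ⟨(x.1 : G), ?_⟩
        left_inv := fun v => rfl
        right_inv := fun x => rfl }
    · obtain ⟨c, hc, hct⟩ := h.outer_conj ht v.2
      exact isConj_iff.2 ⟨⟨c, mem_C.2 hc⟩, Subtype.ext hct⟩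
    · obtain ⟨c, hc⟩ := isConj_iff.1 x.2
      have hc' : (c : G) * t * (c : G)⁻¹ = (x.1 : G) := congrArg Subtype.val hc
      refine ⟨by rw [← hc', Invol.orderOf_conj, ht.ord], mem_C.1 x.1.2, fun hm => ht.notMem ?_⟩
      have := h.normal (c : G)⁻¹ (h.commute_inv (mem_C.1 c.2)) _ hm
      rw [inv_inv, ← hc'] at this
      convert this using 1
      group
  obtain ⟨F, A⟩ := h.exists_adapted ht
  have hcent : Nat.card (Subgroup.centralizer ({T} : Set C)) = 16 := by
    rw [← A.klein.2.2.2]
    exact Nat.card_congr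
      { toFun := fun x => ⟨((x : C) : G), (x : C).2, mem_C.2 (congrArg Subtype.val (mem_C.1 x.2))⟩
        invFun := fun x => ⟨⟨(x : G), x.2.1⟩, mem_C.2 (Subtype.ext (mem_C.1 x.2.2))⟩
        left_inv := fun x => rfl
        right_inv := fun x => rfl }
  have hi := (Subgroup.centralizer ({T} : Set C)).card_mul_index
  rw [hcent, h.cardC] at hi
  rw [hset, Char.card_isConj_eq_index]
  omega

theorem outer_of_conj {t v : G} (ht : Outer z Q t) (hv : IsConj t v) (hvz : v * z = z * v) :
    Outer z Q v := by
  have ho := Invol.orderOf_eq_two_of_isConj hv ht.ord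
  exact ⟨ho, hvz, fun hm => h.outer_not_conj ht ((h.isConj_of_mem hm ho).trans hv.symm)⟩

theorem card_rz {t : G} (ht : Outer z Q t) :
    Nat.card {q : G × G // IsConj z q.1 ∧ IsConj t q.2 ∧ z ∈ Subgroup.zpowers (q.1 * q.2)} = 960 := by
  classical
  have hzz := h.zsq
  have key : ∀ u v : G, (IsConj z u ∧ IsConj t v ∧ z ∈ Subgroup.zpowers (u * v)) ↔
      (Outer z Q v ∧ u ∈ Q ∧ orderOf u = 2 ∧ v * u ≠ u * v) := by
    intro u v
    constructor
    · rintro ⟨hu, hv, hm⟩
      have huo := Invol.orderOf_eq_two_of_isConj hu h.hz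
      have hvo := Invol.orderOf_eq_two_of_isConj hv ht.ord
      obtain ⟨hev, hz⟩ := Invol.eq_half_pow_of_mem_zpowers h.hz hm
      have c1 : z * u = u * z := hz ▸ (Invol.commute_central huo hvo hev).eq
      have c2 : z * v = v * z := hz ▸ (Invol.commute_central' huo hvo hev).eq
      have hvO := h.outer_of_conj ht hv c2.symm
      have huQ := (h.dich huo c1.symm).1 hu
      refine ⟨hvO, huQ, huo, fun hc => ?_⟩
      have h2 : (u * v) * (u * v) = 1 := by
        calc u * v * (u * v) = u * (v * u) * v := by group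
          _ = (u * u) * (v * v) := by rw [hc]; group
          _ = 1 := by rw [Invol.mul_self_eq_one huo, Invol.mul_self_eq_one hvo, one_mul]
      have h2o : orderOf (u * v) = 2 := orderOf_eq_prime (by rw [pow_two]; exact h2) (fun e => by
        have := inv_eq_of_mul_eq_one_right e
        rw [Invol.inv_eq_self huo] at this
        exact hvO.notMem (this ▸ huQ))
      rw [h2o, show 2 / 2 = 1 from rfl, pow_one] at hz
      refine hvO.notMem ?_
      have := mul_mem (inv_mem huQ) (hz ▸ h.zmem : u * v ∈ Q)
      rwa [inv_mul_cancel_left] at this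
    · rintro ⟨hv, huQ, huo, hne⟩
      obtain ⟨F, A⟩ := h.exists_adapted hv
      obtain ⟨m, rfl⟩ := F.ι_surj h huQ
      refine ⟨h.isConj_of_mem huQ huo, ?_, ?_⟩
      · exact h.isConj_of_not ht.ord hv.ord (h.outer_not_conj ht) (h.outer_not_conj hv)
      · have hm2 : m * m = 1 := F.ι_inj (by rw [map_mul, map_one]; exact Invol.mul_self_eq_one huo)
        obtain ⟨-, -, e⟩ := M.pair_product m hm2 (fun e => hne ((A.commute_iff m).2 e))
        have hsq : (F.ι m * v) * (F.ι m * v) = F.ι (m * M.φ m) := by
          rw [map_mul, ← A.conj]; group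
        have e' := e.imp (congrArg F.ι) (congrArg F.ι)
        rw [map_mul F.ι (m * M.φ m) (m * M.φ m), ← hsq, F.ι_zM] at e'
        rcases e' with e' | e'
        · exact Subgroup.mem_zpowers_iff.2 ⟨4, Eq.trans (by simp only [zpow_ofNat, pow_succ, pow_zero, one_mul, mul_assoc]) e'⟩
        · exact Subgroup.mem_zpowers_iff.2 ⟨2, Eq.trans (by simp only [zpow_ofNat, pow_succ, pow_zero, one_mul, mul_assoc]) e'⟩
  let e : {q : G × G // IsConj z q.1 ∧ IsConj t q.2 ∧ z ∈ Subgroup.zpowers (q.1 * q.2)} ≃
      Σ v : {v : G // Outer z Q v}, {u : G // u ∈ Q ∧ orderOf u = 2 ∧ v.1 * u ≠ u * v.1} :=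
    { toFun := fun q => ⟨⟨q.1.2, ((key _ _).1 q.2).1⟩, q.1.1, ((key _ _).1 q.2).2⟩
      invFun := fun p => ⟨(p.2.1, p.1.1), (key _ _).2 ⟨p.1.2, p.2.2⟩⟩
      left_inv := fun q => rfl
      right_inv := fun p => rfl }
  haveI : Fintype {v : G // Outer z Q v} := Fintype.ofFinite _
  have hfib : ∀ v : {v : G // Outer z Q v},
      Nat.card {u : G // u ∈ Q ∧ orderOf u = 2 ∧ v.1 * u ≠ u * v.1} = 8 := by
    rintro ⟨v, hv⟩
    obtain ⟨F, A⟩ := h.exists_adapted hv
    rw [← M.card_moved, ← Nat.card_eq_finsetCard]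
    refine (Nat.card_congr (Equiv.ofBijective (fun m : ↥(Finset.univ.filter fun x : M => x * x = 1 ∧ M.φ x ≠ x) =>
      (⟨F.ι m.1, F.ι_mem h _, ?_, fun e => (Finset.mem_filter.1 m.2).2.2 ((A.commute_iff _).1 e)⟩ :
        {u : G // u ∈ Q ∧ orderOf u = 2 ∧ v * u ≠ u * v})) ⟨?_, ?_⟩)).symm
    · obtain ⟨-, h1, h2⟩ := Finset.mem_filter.1 m.2
      exact Invol.orderOf_eq_two_iff.2 ⟨fun e => (M.pair_product m.1 h1 h2).1 (F.ι_inj (by rw [e, map_one])),
        by rw [← map_mul, h1, map_one]⟩
    · intro a b e
      exact Subtype.ext (F.ι_inj (congrArg Subtype.val e))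
    · rintro ⟨u, hu, huo, hne⟩
      obtain ⟨m, rfl⟩ := F.ι_surj h hu
      exact ⟨⟨m, Finset.mem_filter.2 ⟨Finset.mem_univ _,
        F.ι_inj (by rw [map_mul, map_one]; exact Invol.mul_self_eq_one huo),
        fun e => hne ((A.commute_iff m).2 e)⟩⟩, rfl⟩
  rw [Nat.card_congr e, Nat.card_sigma, Finset.sum_congr rfl (fun v _ => hfib v), Finset.sum_const,
    Finset.card_univ, ← Nat.card_eq_fintype_card, h.card_outer ht]
  rfl

end HJ

namespace CT

variable {t s g : G} {K : Subgroup G}

theorem Split.card_rt (c : Split z Q t g K) (d : CT z Q t s g) (h : HJ z Q) :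
    Nat.card {q : G × G // IsConj z q.1 ∧ IsConj t q.2 ∧ t ∈ Subgroup.zpowers (q.1 * q.2)} =
      Nat.card {u : K // orderOf (u : G) = 2} * (Nat.card {u : K // orderOf (u : G) = 2} - 2) := by
  classical
  have htt := Invol.mul_self_eq_one d.outer.ord
  have htnz := h.outer_not_conj d.outer
  have hodd : ∀ u k : G, u ∈ K → k ∈ K → orderOf u = 2 → orderOf k = 2 →
      (Odd (orderOf (u * k)) ↔ (k = u ∨ u * k ≠ k * u)) := by
    intro u k hu hk huo hko
    constructor
    · intro ho
      by_contra hne
      push Not at hne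
      have h2 : orderOf (u * k) = 2 := orderOf_eq_prime (by
          rw [pow_two, show u * k * (u * k) = u * (k * u) * k by group, ← hne.2]
          calc u * (u * k) * k = (u * u) * (k * k) := by group
            _ = 1 := by rw [Invol.mul_self_eq_one huo, Invol.mul_self_eq_one hko, one_mul]) (fun e => hne.1 (by
          rw [← Invol.inv_eq_self huo]; exact (inv_eq_of_mul_eq_one_right e).symm))
      rw [h2] at ho
      exact absurd ho (by decide)
    · rintro (rfl | hne)
      · rw [Invol.mul_self_eq_one huo, orderOf_one]; exact odd_one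
      · rw [← Nat.not_even_iff_odd]
        intro hev
        set w := (u * k) ^ (orderOf (u * k) / 2)
        have hwo : orderOf w = 2 := Invol.orderOf_central hev (orderOf_pos _)
        exact hne (c.cent_inv_comm d h hwo (pow_mem (mul_mem hu hk) _) hu hk
          (Invol.commute_central huo hko hev).eq.symm (Invol.commute_central' huo hko hev).eq.symm)
  have key : ∀ u v : G, (IsConj z u ∧ IsConj t v ∧ t ∈ Subgroup.zpowers (u * v)) ↔
      (u ∈ K ∧ orderOf u = 2 ∧ t * v ∈ K ∧ orderOf (t * v) = 2 ∧ (t * v = u ∨ u * (t * v) ≠ t * v * u)) := by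
    intro u v
    constructor
    · rintro ⟨hu, hv, hm⟩
      have huo := Invol.orderOf_eq_two_of_isConj hu h.hz
      have hvo := Invol.orderOf_eq_two_of_isConj hv d.outer.ord
      obtain ⟨hev, ht⟩ := Invol.eq_half_pow_of_mem_zpowers d.outer.ord hm
      have c1 : t * u = u * t := ht ▸ (Invol.commute_central huo hvo hev).eq
      have c2 : t * v = v * t := ht ▸ (Invol.commute_central' huo hvo hev).eq
      have huK := (c.conj_iff d h huo c1.symm).1 hu
      have hvK : v ∉ K := fun e => htnz (((c.conj_iff d h hvo c2.symm).2 e).trans hv.symm)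
      obtain ⟨f, hf, hvf⟩ := c.decomp v c2.symm
      set k := v * f with hk
      have hff := d.E_sq hf.1
      have hfk : f * k = k * f := c.F_cent d h hf hvf
      have hfu : f * u = u * f := c.F_cent d h hf huK
      have hvv := Invol.mul_self_eq_one hvo
      have hvfk : v = k * f := by rw [hk, mul_assoc, hff, mul_one]
      have hfv : f * v = v * f := by
        conv_lhs => rw [hvfk, ← mul_assoc, hfk, mul_assoc, hff, mul_one]
      have hk2 : k * k = 1 := by
        rw [hk, show v * f * (v * f) = v * (f * v) * f by group, hfv,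
          show v * (v * f) * f = (v * v) * (f * f) by group, hvv, hff, one_mul]
      have hf1 : f ≠ 1 := fun e => hvK (by rw [hvfk, e, mul_one]; exact hvf)
      set w := u * k with hw
      have huv : u * v = f * w := by
        calc u * v = u * (k * f) := congrArg (u * ·) hvfk
          _ = f * (u * k) := by rw [← hfk, ← mul_assoc, ← hfu, mul_assoc]
      have hfw : Commute f w := (show Commute f u from hfu).mul_right hfk
      by_cases hwodd : Odd (orderOf w)
      · have hmem : f ∈ Subgroup.zpowers (u * v) := by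
          rw [Subgroup.mem_zpowers_iff]
          obtain ⟨m, hm'⟩ := hwodd
          refine ⟨((orderOf w : ℕ) : ℤ), ?_⟩
          rw [zpow_natCast, huv, hfw.mul_pow, pow_orderOf_eq_one, mul_one, hm', pow_succ, pow_mul, pow_two,
            hff, one_pow, one_mul]
        have hft : t = f := ht.trans (Invol.eq_half_pow_of_mem_zpowers
          (Invol.orderOf_eq_two_iff.2 ⟨hf1, hff⟩) hmem).2.symm
        have htk : t * v = k := by rw [hft, hfv]
        have hk1 : k ≠ 1 := fun e => by
          rw [hw, e, mul_one, huo] at hwodd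
          exact absurd hwodd (by decide)
        have hko : orderOf k = 2 := Invol.orderOf_eq_two_iff.2 ⟨hk1, hk2⟩
        exact ⟨huK, huo, htk ▸ hvf, htk ▸ hko, htk ▸ (hodd u k huK hvf huo hko).1 hwodd⟩
      · exfalso
        have hw2 : w * w = 1 := by
          by_cases hk1 : k = 1
          · rw [hw, hk1, mul_one]; exact Invol.mul_self_eq_one huo
          · have hko : orderOf k = 2 := Invol.orderOf_eq_two_iff.2 ⟨hk1, hk2⟩
            have hc : u * k = k * u := by
              by_contra hne
              exact hwodd ((hodd u k huK hvf huo hko).2 (Or.inr hne))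
            rw [hw, show u * k * (u * k) = u * (k * u) * k by group, ← hc,
              show u * (u * k) * k = (u * u) * (k * k) by group, Invol.mul_self_eq_one huo, hk2, one_mul]
        have hw1 : w ≠ 1 := fun e => hwodd (by rw [e, orderOf_one]; exact odd_one)
        have ho2 : orderOf (f * w) = 2 := orderOf_eq_prime
          (by rw [hfw.mul_pow, pow_two, pow_two, hff, hw2, one_mul])
          (fun e => hw1 (by
            have hwK : w ∈ K := mul_mem huK hvf
            have e' : f = 1 := c.inf f hf (by rw [mul_eq_one_iff_eq_inv.1 e]; exact inv_mem hwK)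
            rwa [e', one_mul] at e))
        rw [huv, ho2, show 2 / 2 = 1 from rfl, pow_one] at ht
        refine hw1 ?_
        have hwK : w ∈ K := mul_mem huK hvf
        have : f * t ∈ TF z t g := mul_mem hf d.t_mem_F
        have e2 : f * t = w := by rw [ht, ← mul_assoc, hff, one_mul]
        rw [← e2]
        exact c.inf _ this (e2.symm ▸ hwK)
    · rintro ⟨huK, huo, hk, hko, hcond⟩
      have htk : t * (t * v) = (t * v) * t := c.F_cent d h d.t_mem_F hk
      have htu : t * u = u * t := (c.le u huK).symm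
      have hv : v = t * (t * v) := by rw [← mul_assoc, htt, one_mul]
      have hvo : orderOf v = 2 := by
        rw [hv]
        refine Invol.orderOf_eq_two_iff.2 ⟨fun e => t_notMem c d ?_, ?_⟩
        · rw [mul_eq_one_iff_eq_inv.1 e]; exact inv_mem hk
        · calc t * (t * v) * (t * (t * v)) = t * ((t * v) * t) * (t * v) := by group
            _ = (t * t) * ((t * v) * (t * v)) := by rw [← htk]; group
            _ = 1 := by rw [htt, Invol.mul_self_eq_one hko, one_mul]
      refine ⟨(c.conj_iff d h huo (c.le u huK)).2 huK, ?_, ?_⟩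
      · refine h.isConj_of_not d.outer.ord hvo htnz fun e => t_notMem c d ?_
        have hvt : v * t = t * v := by
          conv_lhs => rw [hv, mul_assoc, ← htk, ← mul_assoc t t, htt, one_mul]
        have hvK := (c.conj_iff d h hvo hvt).1 e
        have := mul_mem hk (inv_mem hvK)
        rwa [mul_inv_cancel_right] at this
      · have huv : u * v = t * (u * (t * v)) := by
          conv_lhs => rw [hv]
          rw [← mul_assoc u, ← mul_assoc t u, htu, mul_assoc u t]
        have ho := (hodd u (t * v) huK hk huo hko).2 hcond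
        rw [Subgroup.mem_zpowers_iff]
        refine ⟨((orderOf (u * (t * v)) : ℕ) : ℤ), ?_⟩
        obtain ⟨m, hm⟩ := ho
        rw [zpow_natCast, huv, ((show Commute t u from htu).mul_right htk).mul_pow, pow_orderOf_eq_one,
          mul_one, hm, pow_succ, pow_mul, pow_two, htt, one_pow, one_mul]
  let e : {q : G × G // IsConj z q.1 ∧ IsConj t q.2 ∧ t ∈ Subgroup.zpowers (q.1 * q.2)} ≃
      Σ u : {u : K // orderOf (u : G) = 2},
        {k : {u : K // orderOf (u : G) = 2} // (k.1 : G) = u.1 ∨ (u.1 : G) * k.1 ≠ k.1 * u.1} :=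
    { toFun := fun q => ⟨⟨⟨q.1.1, ((key _ _).1 q.2).1⟩, ((key _ _).1 q.2).2.1⟩,
        ⟨⟨⟨t * q.1.2, ((key _ _).1 q.2).2.2.1⟩, ((key _ _).1 q.2).2.2.2.1⟩, ((key _ _).1 q.2).2.2.2.2⟩⟩
      invFun := fun p => ⟨((p.1.1 : G), t * (p.2.1.1 : G)), (key _ _).2 (by
        simp only [← mul_assoc t t, htt, one_mul]
        exact ⟨p.1.1.2, p.1.2, p.2.1.1.2, p.2.1.2, p.2.2⟩)⟩
      left_inv := fun q => Subtype.ext (Prod.ext rfl (by simp [← mul_assoc, htt]))
      right_inv := fun p => by
        obtain ⟨u, ⟨⟨⟨k, hk⟩, hko⟩, hc⟩⟩ := p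
        simp [← mul_assoc, htt] }
  haveI : Fintype K := Fintype.ofFinite _
  have hfib : ∀ u : {u : K // orderOf (u : G) = 2},
      Nat.card {k : {u : K // orderOf (u : G) = 2} // (k.1 : G) = u.1 ∨ (u.1 : G) * k.1 ≠ k.1 * u.1} =
        Nat.card {u : K // orderOf (u : G) = 2} - 2 := by
    rintro ⟨u, huo⟩
    obtain ⟨hc4, hcsq⟩ := c.card_cent_inv d h huo u.2
    set T : Finset K := Finset.univ.filter fun a => (a : G) * u = u * (a : G)
    set I : Finset K := Finset.univ.filter fun a => orderOf (a : G) = 2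
    have hT : T.card = 4 := by rw [← hc4, Nat.card_eq_fintype_card, Fintype.card_subtype]
    have hI : Nat.card {u : K // orderOf (u : G) = 2} = I.card := by
      rw [Nat.card_eq_fintype_card, Fintype.card_subtype]
    have h1T : (1 : K) ∈ T := by simp [T]
    have huT : u ∈ T.erase 1 := by
      refine Finset.mem_erase.2 ⟨fun e => ?_, by simp [T]⟩
      have := congrArg (fun a : K => (a : G)) e
      exact Invol.ne_one huo this
    have hsub : (T.erase 1).erase u ⊆ I := by
      intro a ha
      simp only [Finset.mem_erase, T, Finset.mem_filter, Finset.mem_univ, true_and] at ha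
      simp only [I, Finset.mem_filter, Finset.mem_univ, true_and]
      exact Invol.orderOf_eq_two_iff.2 ⟨fun e => ha.2.1 (Subtype.ext e), hcsq a ha.2.2⟩
    have hbad : ((T.erase 1).erase u).card = 2 := by
      rw [Finset.card_erase_of_mem huT, Finset.card_erase_of_mem h1T, hT]
    rw [hI]
    conv_rhs => rw [← hbad]
    rw [← Finset.card_sdiff_of_subset hsub, ← Nat.card_eq_finsetCard]
    refine Nat.card_congr
      { toFun := fun k => ⟨k.1.1, ?_⟩
        invFun := fun a => ⟨⟨a.1, ?_⟩, ?_⟩
        left_inv := fun k => rfl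
        right_inv := fun a => rfl }
    · simp only [Finset.mem_sdiff, Finset.mem_erase, I, T, Finset.mem_filter, Finset.mem_univ, true_and]
      refine ⟨k.1.2, fun hk => ?_⟩
      rcases k.2 with e | e
      · exact hk.1 (Subtype.ext e)
      · exact e hk.2.2.symm
    · have := (Finset.mem_sdiff.1 a.2).1
      simpa [I] using this
    · obtain ⟨ha1, ha2⟩ := Finset.mem_sdiff.1 a.2
      have ha1' : orderOf ((a.1 : K) : G) = 2 := by simpa [I] using ha1
      by_cases e : (a.1 : K) = u
      · exact Or.inl (congrArg Subtype.val e)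
      · refine Or.inr fun hc => ha2 ?_
        simp only [Finset.mem_erase, T, Finset.mem_filter, Finset.mem_univ, true_and]
        exact ⟨e, fun e1 => Invol.ne_one ha1' (congrArg Subtype.val e1), hc.symm⟩
  rw [Nat.card_congr e, Nat.card_sigma, Finset.sum_congr rfl (fun u _ => hfib u), Finset.sum_const,
    Finset.card_univ, ← Nat.card_eq_fintype_card, smul_eq_mul]

theorem Split.order_formula (c : Split z Q t g K) (d : CT z Q t s g) (h : HJ z Q) :
    (Nat.card K = 12 ∧ Nat.card G = 51840) ∨ (Nat.card K = 60 ∧ Nat.card G = 604800) := by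
  classical
  have htnz := h.outer_not_conj d.outer
  have hne : z ≠ t := fun e => htnz (e ▸ IsConj.refl z)
  have hform := S1875.result z t h.hz d.outer.ord htnz {z, t}
    (fun w hw => by
      rcases Finset.mem_insert.1 hw with e | e
      · rw [e, h.hz]
      · rw [Finset.mem_singleton.1 e, d.outer.ord])
    (fun x hx => by
      by_cases hxz : IsConj z x
      · refine ⟨z, by simp, hxz.symm, fun w hw hxw => ?_⟩
        rcases Finset.mem_insert.1 hw with e | e
        · exact e
        · rw [Finset.mem_singleton.1 e] at hxw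
          exact absurd (hxz.trans hxw) htnz
      · have hxt := h.isConj_of_not d.outer.ord hx htnz hxz
        refine ⟨t, by simp, hxt.symm, fun w hw hxw => ?_⟩
        rcases Finset.mem_insert.1 hw with e | e
        · rw [e] at hxw; exact absurd hxw.symm hxz
        · exact Finset.mem_singleton.1 e)
  rw [Finset.sum_pair hne, h.cardC, h.card_rz d.outer, c.card_rt d h, c.cardL] at hform
  have hn := c.card_inv d h
  rcases c.card_cases d h with e | e
  · rw [e] at hn hform
    rw [show Nat.card {u : K // orderOf (u : G) = 2} = 3 by omega] at hform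
    norm_num at hform
    exact Or.inl ⟨e, by exact_mod_cast hform⟩
  · rw [e] at hn hform
    rw [show Nat.card {u : K // orderOf (u : G) = 2} = 15 by omega] at hform
    norm_num at hform
    exact Or.inr ⟨e, by exact_mod_cast hform⟩

end CT

namespace HJ

variable (h : HJ z Q)
include h

theorem exists_split_all {t : G} (ht : Outer z Q t) :
    ∃ s g K, CT z Q t s g ∧ CT.Split z Q t g K := by
  obtain ⟨s, g, d⟩ := h.exists_CT ht
  obtain ⟨K, c⟩ := d.exists_split h
  exact ⟨s, g, K, d, c⟩

/-- The smaller order is impossible. -/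
theorem not_small {t₀ s g : G} {K : Subgroup G} (d : CT z Q t₀ s g) (c : CT.Split z Q t₀ g K)
    (hG : Nat.card G = 51840) : False := by
  classical
  haveI : Fact (Nat.Prime 2) := ⟨Nat.prime_two⟩
  haveI : Fact (Nat.Prime 3) := ⟨Nat.prime_three⟩
  haveI : Fact (Nat.Prime 5) := ⟨by norm_num⟩
  have hK : Nat.card K = 12 := by
    rcases c.order_formula d h with e | e
    · exact e.1
    · rw [hG] at e; norm_num at e
  obtain ⟨y, t, hy, hyz, ht, hty⟩ := h.exists_five_inverted
  have hy5 : y ^ 5 = 1 := by rw [← hy, pow_orderOf_eq_one]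
  have htt := Invol.mul_self_eq_one ht.ord
  have htinv := Invol.inv_eq_self ht.ord
  set Y := Subgroup.centralizer ({y} : Set G) with hY
  have hzY : z ∈ Y := mem_C.2 hyz.symm
  -- the centraliser has order twice an odd number
  obtain ⟨P, hP⟩ := (IsPGroup.of_card (n := 1) (by
    rw [Nat.card_zpowers, ← Subgroup.orderOf_coe, h.hz]; norm_num) :
    IsPGroup 2 (Subgroup.zpowers (⟨z, hzY⟩ : Y))).exists_le_sylow
  have hcentP : ∀ w : Y, w ∈ (P : Subgroup Y) → ((w : G) * z = z * (w : G)) → (w : G) = 1 ∨ (w : G) = z := by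
    intro w hw hwz
    obtain ⟨k, hk⟩ := h.five_cent hyz hy hwz (mem_C.1 w.2)
    obtain ⟨m, hm⟩ := (IsPGroup.iff_orderOf.1 P.2) ⟨w, hw⟩
    rw [Subgroup.orderOf_mk, ← Subgroup.orderOf_coe] at hm
    have hk0 : k.val = 0 := by
      have h10 : orderOf ((w : G)) ∣ 10 → (w : G) ^ 2 = 1 := fun hd => by
        rw [hm] at hd
        have : 2 ^ m ∣ 2 := (Nat.Coprime.pow_left m (by norm_num : Nat.Coprime 2 5)).dvd_of_dvd_mul_right
          (by simpa using hd : 2 ^ m ∣ 2 * 5)
        exact orderOf_dvd_iff_pow_eq_one.1 (hm ▸ this)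
      have hzc : Commute z (y ^ k.val) := (h.five_pow_comm hyz k.val).symm
      have hw10 : (w : G) ^ 10 = 1 := by
        rcases hk with e | e <;> rw [e]
        · rw [← pow_mul, mul_comm, pow_mul, show y ^ 10 = 1 by rw [show 10 = 5 * 2 from rfl, pow_mul, hy5, one_pow], one_pow]
        · rw [hzc.mul_pow, show z ^ 10 = 1 by rw [show 10 = 2 * 5 from rfl, pow_mul, pow_two, h.zsq, one_pow],
            one_mul, ← pow_mul, mul_comm, pow_mul, show y ^ 10 = 1 by rw [show 10 = 5 * 2 from rfl, pow_mul, hy5, one_pow], one_pow]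
      have h2 := h10 (orderOf_dvd_iff_pow_eq_one.2 hw10)
      have hy2 : (y ^ k.val) ^ 2 = 1 := by
        rcases hk with e | e <;> rw [e] at h2
        · exact h2
        · rwa [hzc.mul_pow, pow_two z, h.zsq, one_mul] at h2
      rw [← pow_mul, ← orderOf_dvd_iff_pow_eq_one, hy] at hy2
      have := k.isLt
      omega
    rw [hk0, pow_zero, mul_one] at hk
    exact hk
  have hPcard : Nat.card (P : Subgroup Y) = 2 := by
    set Z := (Subgroup.zpowers (⟨z, hzY⟩ : Y)) with hZ
    suffices hPZ : (P : Subgroup Y) = Z by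
      rw [hPZ, hZ, Nat.card_zpowers, ← Subgroup.orderOf_coe, h.hz]
    refine le_antisymm ?_ hP
    haveI : Group.IsNilpotent (P : Subgroup Y) := P.2.isNilpotent
    by_contra hne
    have hlt : Z.subgroupOf (P : Subgroup Y) < ⊤ := lt_top_iff_ne_top.2 fun e => hne fun w hw => by
      have : (⟨w, hw⟩ : (P : Subgroup Y)) ∈ Z.subgroupOf (P : Subgroup Y) := e ▸ Subgroup.mem_top _
      exact this
    obtain ⟨x, hxN, hxZ⟩ := SetLike.exists_of_lt (Group.normalizerCondition_of_isNilpotent _ hlt)
    have hmem := (Subgroup.mem_normalizer_iff.1 hxN ⟨_, hP (Subgroup.mem_zpowers _)⟩).1 (Subgroup.mem_zpowers _)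
    obtain ⟨i, hi⟩ := Subgroup.mem_zpowers_iff.1 hmem
    have hi' : z ^ i = ((x : Y) : G) * z * ((x : Y) : G)⁻¹ := by simpa using congrArg (fun a : Y => (a : G)) hi
    have hxz : ((x : Y) : G) * z = z * ((x : Y) : G) := by
      refine mul_inv_eq_iff_eq_mul.1 ?_
      rcases Int.even_or_odd' i with ⟨j, rfl | rfl⟩
      · rw [zpow_mul, zpow_two, h.zsq, one_zpow] at hi'
        exact absurd (conj_eq_one_iff.1 hi'.symm) h.zne
      · rw [zpow_add_one, zpow_mul, zpow_two, h.zsq, one_zpow, one_mul] at hi'
        exact hi'.symm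
    apply hxZ
    rcases hcentP x x.2 hxz with e | e
    · show (x : Y) ∈ Z
      rw [show (x : Y) = 1 from Subtype.ext e]; exact one_mem _
    · show (x : Y) ∈ Z
      rw [show (x : Y) = ⟨z, hzY⟩ from Subtype.ext e]; exact Subgroup.mem_zpowers _
  obtain ⟨o, ho⟩ : ∃ o, Nat.card Y = 2 * o := hPcard ▸ Subgroup.card_subgroup_dvd_card (P : Subgroup Y)
  have hoo : ¬ 2 ∣ o := fun e => P.not_dvd_index (by
    have := (P : Subgroup Y).card_mul_index
    rw [hPcard, ho] at this
    rwa [show (P : Subgroup Y).index = o by omega])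
  -- the normaliser
  set N := Subgroup.normalizer (Subgroup.zpowers y : Set G) with hN
  have hYN : Y ≤ N := fun w hw => by
    refine Subgroup.mem_normalizer_iff.2 fun a => ?_
    have hc : ∀ b ∈ Subgroup.zpowers y, w * b = b * w := fun b hb => by
      obtain ⟨i, rfl⟩ := Subgroup.mem_zpowers_iff.1 hb
      exact ((show Commute w y from mem_C.1 hw).zpow_right i).eq
    constructor
    · intro ha
      rw [hc a ha, mul_inv_cancel_right]; exact ha
    · intro ha
      have e := hc _ ha
      have e' : w * a * w⁻¹ = a := by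
        calc w * a * w⁻¹ = w⁻¹ * (w * (w * a * w⁻¹)) := by group
          _ = a := by rw [e]; group
      rwa [e'] at ha
  have htN : t ∈ N := by
    refine Subgroup.mem_normalizer_iff.2 fun a => ?_
    have hconj : ∀ b ∈ Subgroup.zpowers y, t * b * t⁻¹ ∈ Subgroup.zpowers y := fun b hb => by
      obtain ⟨i, rfl⟩ := Subgroup.mem_zpowers_iff.1 hb
      rw [← conj_zpow, htinv, hty, inv_zpow]
      exact inv_mem (Subgroup.zpow_mem_zpowers y i)
    refine ⟨hconj a, fun ha => ?_⟩
    have := hconj _ ha
    convert this using 1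
    rw [htinv, ← mul_assoc, ← mul_assoc, htt, one_mul, mul_assoc, htt, mul_one]
  have htY : t ∉ Y := fun e => by
    have e' := mem_C.1 e
    rw [e', mul_assoc, htt, mul_one] at hty
    have : y * y = 1 := by nth_rw 2 [hty]; rw [mul_inv_cancel]
    have h2 := orderOf_dvd_iff_pow_eq_one.2 (show y ^ 2 = 1 by rw [pow_two]; exact this)
    rw [hy] at h2
    norm_num at h2
  have hNcard : Nat.card N = 2 * Nat.card Y := by
    let w : Bool × Y → N := fun p => ⟨(if p.1 then t else 1) * (p.2 : G),
      mul_mem (by split_ifs <;> [exact htN; exact one_mem _]) (hYN p.2.2)⟩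
    have hw : Function.Bijective w := by
      constructor
      · rintro ⟨a, u⟩ ⟨b, v⟩ e
        have e' : (if a then t else 1) * (u : G) = (if b then t else 1) * (v : G) := congrArg Subtype.val e
        have hbad : ∀ u v : Y, t * (u : G) ≠ (v : G) := fun u v e => htY (by
          have : t = (v : G) * (u : G)⁻¹ := eq_mul_inv_of_mul_eq e
          rw [this]; exact mul_mem v.2 (inv_mem u.2))
        cases a <;> cases b <;> simp only [if_true, Bool.false_eq_true, if_false, one_mul] at e'
        · rw [Subtype.ext e']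
        · exact absurd e'.symm (hbad _ _)
        · exact absurd e' (hbad _ _)
        · rw [Subtype.ext (mul_left_cancel e')]
      · rintro ⟨n, hn⟩
        rcases h.five_frattini hyz hy ((Subgroup.mem_normalizer_iff.1 hn y).1 (Subgroup.mem_zpowers y)) with e | e
        · exact ⟨(false, ⟨n, mem_C.2 (mul_inv_eq_iff_eq_mul.1 e)⟩), Subtype.ext (by simp [w])⟩
        · refine ⟨(true, ⟨t * n, mem_C.2 (mul_inv_eq_iff_eq_mul.1 ?_)⟩), Subtype.ext ?_⟩
          · rw [mul_inv_rev, htinv, show t * n * y * (n⁻¹ * t) = t * (n * y * n⁻¹) * t by group, e]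
            calc t * y⁻¹ * t = (t⁻¹ * y * t⁻¹)⁻¹ := by group
              _ = y := by rw [htinv, hty, inv_inv]
          · show t * (t * n) = n
            rw [← mul_assoc, htt, one_mul]
    rw [← Nat.card_eq_of_bijective w hw, Nat.card_prod, Nat.card_eq_fintype_card, Fintype.card_bool]
  obtain ⟨P5, hP5⟩ := (IsPGroup.of_card (n := 1) (by rw [Nat.card_zpowers, hy, pow_one]) :
    IsPGroup 5 (Subgroup.zpowers y)).exists_le_sylow
  have hP5e : Subgroup.zpowers y = (P5 : Subgroup G) := by
    refine Subgroup.eq_of_le_of_card_ge hP5 ?_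
    rw [Nat.card_zpowers, hy, P5.card_eq_multiplicity, hG, show 51840 = 5 ^ 1 * 10368 from rfl,
      Nat.factorization_mul (by norm_num) (by norm_num), Finsupp.add_apply,
      Nat.Prime.factorization_pow (by norm_num : Nat.Prime 5), Finsupp.single_eq_same,
      Nat.factorization_eq_zero_of_not_dvd (by norm_num : ¬ 5 ∣ 10368)]
    norm_num
  have hmod := card_sylow_modEq_one 5 G
  rw [Sylow.card_eq_index_normalizer P5] at hmod
  replace hmod : N.index ≡ 1 [MOD 5] := by rw [hN, hP5e]; exact hmod
  have hi := N.card_mul_index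
  rw [hNcard, ho, hG] at hi
  have h5o : 5 ∣ o := by
    have : orderOf (⟨y, mem_C.2 rfl⟩ : Y) ∣ Nat.card Y := orderOf_dvd_natCard _
    rw [← Subgroup.orderOf_coe, hy, ho] at this
    exact (Nat.Coprime.dvd_of_dvd_mul_left (by norm_num) this)
  obtain ⟨o', rfl⟩ := h5o
  have ho' : o' ∣ 2592 := ⟨N.index, by nlinarith⟩
  have hcop : Nat.Coprime o' 32 := by
    have : Nat.Coprime o' 2 := ((Nat.Prime.coprime_iff_not_dvd Nat.prime_two).2
      (fun e => hoo (dvd_mul_of_dvd_right e 5))).symm
    simpa using this.pow_right 5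
  have ho81 : o' ∣ 3 ^ 4 := hcop.dvd_of_dvd_mul_left (by simpa using ho')
  obtain ⟨a, ha, rfl⟩ := (Nat.dvd_prime_pow Nat.prime_three).1 ho81
  have ha3 : a = 3 := by
    have hidx : N.index % 5 = 1 := hmod
    interval_cases a <;> omega
  subst ha3
  have hYcard : Nat.card Y = 270 := by rw [ho]; norm_num
  -- the odd part
  have hmin : (Nat.card Y).minFac = 2 := by
    rw [hYcard, Nat.minFac_eq_two_iff]; norm_num
  have hPcyc : IsCyclic P := isCyclic_of_prime_card hPcard
  have hcompl := IsCyclic.isComplement' hmin hPcyc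
  set O := (MonoidHom.transferSylow P (hPcyc.normalizer_le_centralizer hmin)).ker with hO
  have hOcard : Nat.card O = 135 := by
    have := hcompl.card_mul
    rw [hPcard, hYcard] at this
    omega
  have hOn : O.Normal := MonoidHom.normal_ker _
  obtain ⟨A⟩ := (inferInstance : Nonempty (Sylow 3 O))
  have hAn : Nat.card (Sylow 3 O) = 1 := by
    have h1 := card_sylow_modEq_one 3 O
    have h2 := A.card_dvd_index
    have hA : Nat.card (A : Subgroup O) = 27 := by
      rw [A.card_eq_multiplicity, hOcard, show 135 = 3 ^ 3 * 5 from rfl,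
        Nat.factorization_mul (by norm_num) (by norm_num), Finsupp.add_apply,
        Nat.Prime.factorization_pow Nat.prime_three, Finsupp.single_eq_same,
        Nat.factorization_eq_zero_of_not_dvd (by norm_num : ¬ 3 ∣ 5)]
      norm_num
    have h3 := (A : Subgroup O).card_mul_index
    rw [hA, hOcard] at h3
    rw [show (A : Subgroup O).index = 5 by omega] at h2
    rw [Nat.ModEq] at h1
    rcases (Nat.dvd_prime (by norm_num : Nat.Prime 5)).1 h2 with e | e <;> omega
  have hA : Nat.card (A : Subgroup O) = 27 := by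
    rw [A.card_eq_multiplicity, hOcard, show 135 = 3 ^ 3 * 5 from rfl,
      Nat.factorization_mul (by norm_num) (by norm_num), Finsupp.add_apply,
      Nat.Prime.factorization_pow Nat.prime_three, Finsupp.single_eq_same,
      Nat.factorization_eq_zero_of_not_dvd (by norm_num : ¬ 3 ∣ 5)]
    norm_num
  -- elements of 3-power order of `C(y)` lie in `A`
  set A' := ((A : Subgroup O).map O.subtype).map Y.subtype with hA'
  have hA'card : Nat.card A' = 27 := by
    rw [hA', Nat.card_congr (Subgroup.equivMapOfInjective _ _ Y.subtype_injective).toEquiv.symm,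
      Nat.card_congr (Subgroup.equivMapOfInjective _ _ O.subtype_injective).toEquiv.symm, hA]
  have hmemA : ∀ x : G, x * y = y * x → x ^ 27 = 1 → x ∈ A' := by
    intro x hx h27
    set x' : Y := ⟨x, mem_C.2 hx⟩
    have hx'27 : x' ^ 27 = 1 := Subtype.ext h27
    have hxO : x' ∈ O := by
      have hidx : O.index = 2 := by
        have := O.card_mul_index
        rw [hOcard, hYcard] at this
        omega
      haveI := hOn
      have h2 : (x' : Y ⧸ O) ^ 2 = 1 := by
        rw [← hidx, Subgroup.index_eq_card]; exact pow_card_eq_one'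
      have h27' : (x' : Y ⧸ O) ^ 27 = 1 := by rw [← QuotientGroup.mk_pow, hx'27, QuotientGroup.mk_one]
      rw [show 27 = 2 * 13 + 1 from rfl, pow_succ, pow_mul, h2, one_pow, one_mul] at h27'
      exact (QuotientGroup.eq_one_iff _).1 h27'
    have hp : IsPGroup 3 (Subgroup.zpowers (⟨x', hxO⟩ : O)) := by
      obtain ⟨k, -, hk⟩ := (Nat.dvd_prime_pow Nat.prime_three (m := 3)).1
        (orderOf_dvd_iff_pow_eq_one.2 (Subtype.ext hx'27 : (⟨x', hxO⟩ : O) ^ (3 ^ 3) = 1))
      exact IsPGroup.of_card (n := k) (by rw [Nat.card_zpowers, hk])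
    obtain ⟨A1, hA1⟩ := hp.exists_le_sylow
    haveI : Subsingleton (Sylow 3 O) := (Nat.card_eq_one_iff_unique.1 hAn).1
    have := hA1 (Subgroup.mem_zpowers (⟨x', hxO⟩ : O))
    rw [Subsingleton.elim A1 A] at this
    exact Subgroup.mem_map.2 ⟨x', Subgroup.mem_map.2 ⟨_, this, rfl⟩, rfl⟩
  have hA'mem : ∀ x ∈ A', x * y = y * x ∧ x ^ 27 = 1 := by
    rintro x ⟨x', hx', rfl⟩
    refine ⟨mem_C.1 x'.2, ?_⟩
    obtain ⟨a, ha, rfl⟩ := hx'
    have := pow_card_eq_one' (x := (⟨a, ha⟩ : (A : Subgroup O)))
    rw [hA] at this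
    exact congrArg (fun b : (A : Subgroup O) => (((b : O) : Y) : G)) this
  -- z inverts A
  have hzconj : ∀ x ∈ A', z * x * z ∈ A' := fun x hx => by
    obtain ⟨h1, h2⟩ := hA'mem x hx
    refine hmemA _ (((show Commute z y from hyz.symm).mul_left h1).mul_left hyz.symm).eq ?_
    have : z * x * z = z * x * z⁻¹ := by rw [h.zinv]
    rw [this, conj_pow, h2]; group
  let ζ : A' →* A' := MonoidHom.mk' (fun x => ⟨z * x * z, hzconj x x.2⟩) fun a b => Subtype.ext (by
    show z * ((a : G) * b) * z = z * a * z * (z * b * z)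
    calc z * ((a : G) * b) * z = z * a * (z * z) * b * z := by rw [h.zsq]; group
      _ = _ := by group)
  have hfpf : MonoidHom.FixedPointFree (⇑ζ) := by
    intro a ha
    have hc : (a : G) * z = z * (a : G) := by
      have e : z * (a : G) * z = a := congrArg Subtype.val ha
      calc (a : G) * z = z * a * z * z := by rw [e]
        _ = z * a := by rw [mul_assoc (z * (a : G)), h.zsq, mul_one]
    obtain ⟨h1, h27⟩ := hA'mem _ a.2
    obtain ⟨k, hk⟩ := h.five_cent hyz hy hc h1
    have h10 : (a : G) ^ 10 = 1 := by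
      have hy10 : (y ^ k.val) ^ 10 = 1 := by
        rw [← pow_mul, mul_comm, pow_mul, show y ^ 10 = 1 by rw [show 10 = 5 * 2 from rfl, pow_mul, hy5, one_pow], one_pow]
      rcases hk with e | e <;> rw [e]
      · exact hy10
      · rw [(show Commute z (y ^ k.val) from (h.five_pow_comm hyz k.val).symm).mul_pow, hy10, mul_one,
          show z ^ 10 = 1 by rw [show 10 = 2 * 5 from rfl, pow_mul, pow_two, h.zsq, one_pow]]
    have hd := Nat.dvd_gcd (orderOf_dvd_iff_pow_eq_one.2 h10) (orderOf_dvd_iff_pow_eq_one.2 h27)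
    rw [show Nat.gcd 10 27 = 1 from rfl, Nat.dvd_one, orderOf_eq_one_iff] at hd
    exact Subtype.ext hd
  have hinvol : Function.Involutive ⇑ζ := fun a => Subtype.ext (by
    show z * (z * (a : G) * z) * z = a
    calc z * (z * (a : G) * z) * z = (z * z) * a * (z * z) := by group
      _ = a := by rw [h.zsq, one_mul, mul_one])
  have hzinv : ∀ a : A', z * (a : G) * z = (a : G)⁻¹ := fun a =>
    congrArg Subtype.val (congrFun (hfpf.coe_eq_inv_of_involutive hinvol) a)
  have hab : ∀ a b : A', a * b = b * a := fun a b => hfpf.commute_all_of_involutive hinvol a b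
  -- the map into the fixed points of t
  have htconj : ∀ x ∈ A', t * x * t ∈ A' := fun x hx => by
    obtain ⟨h1, h2⟩ := hA'mem x hx
    refine hmemA _ ?_ ?_
    · have hxy' : x * y⁻¹ = y⁻¹ * x := ((show Commute x y from h1).inv_right).eq
      have hyt : y = t * y⁻¹ * t := by
        calc y = (t * t) * y * (t * t) := by rw [htt]; group
          _ = t * (t * y * t) * t := by group
          _ = _ := by rw [hty]
      calc t * x * t * y = t * x * (t * y * t) * t := by
            rw [show t * x * (t * y * t) * t = t * x * t * y * (t * t) by group, htt, mul_one]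
        _ = t * (x * y⁻¹) * t := by rw [hty]; group
        _ = t * y⁻¹ * (t * t) * (x * t) := by rw [hxy', htt]; group
        _ = y * (t * x * t) := by nth_rw 2 [hyt]; group
    · have : t * x * t = t * x * t⁻¹ := by rw [htinv]
      rw [this, conj_pow, h2]; group
  let σ : A' →* A' := MonoidHom.mk' (fun x => ⟨t * x * t, htconj x x.2⟩) fun a b => Subtype.ext (by
    show t * ((a : G) * b) * t = t * a * t * (t * b * t)
    calc t * ((a : G) * b) * t = t * a * (t * t) * b * t := by rw [htt]; group
      _ = _ := by group)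
  let μ : A' →* A' := MonoidHom.mk' (fun a => a * σ a) fun a b => by
    show a * b * σ (a * b) = a * σ a * (b * σ b)
    rw [map_mul, mul_assoc, ← mul_assoc b, hab b (σ a)]
    simp only [mul_assoc]
  have hsmall : ∀ w : G, orderOf w = 2 → ¬ IsConj z w → ∀ H : Subgroup A',
      (∀ a ∈ H, (a : G) * w = w * (a : G)) → Nat.card H ≤ 3 := by
    intro w hw hwz H hH
    have hwt := h.isConj_of_not d.outer.ord hw (h.outer_not_conj d.outer) hwz
    obtain ⟨r, hr⟩ := isConj_iff.1 hwt
    have hcw : Nat.card (Subgroup.centralizer ({w} : Set G)) = 48 := by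
      rw [← hr, show (48 : ℕ) = Nat.card (Subgroup.centralizer ({t₀} : Set G)) by rw [c.cardL, hK]]
      refine Nat.card_congr
        { toFun := fun x => ⟨r⁻¹ * x * r, mem_C.2 ?_⟩
          invFun := fun x => ⟨r * x * r⁻¹, mem_C.2 ?_⟩
          left_inv := fun x => Subtype.ext (by group)
          right_inv := fun x => Subtype.ext (by group) }
      · calc r⁻¹ * (x : G) * r * t₀ = r⁻¹ * ((x : G) * (r * t₀ * r⁻¹)) * r := by group
          _ = r⁻¹ * ((r * t₀ * r⁻¹) * (x : G)) * r := by rw [mem_C.1 x.2]
          _ = _ := by group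
      · calc r * (x : G) * r⁻¹ * (r * t₀ * r⁻¹) = r * ((x : G) * t₀) * r⁻¹ := by group
          _ = r * (t₀ * (x : G)) * r⁻¹ := by rw [mem_C.1 x.2]
          _ = _ := by group
    have h1 : Nat.card H ∣ 27 := hA'card ▸ Subgroup.card_subgroup_dvd_card H
    have h2 : Nat.card H ∣ 48 := by
      rw [← hcw, Nat.card_congr (Subgroup.equivMapOfInjective H A'.subtype A'.subtype_injective).toEquiv]
      refine Subgroup.card_dvd_of_le ?_
      rintro _ ⟨a, ha, rfl⟩
      exact mem_C.2 (hH a ha)
    exact Nat.le_of_dvd (by norm_num) (by simpa using Nat.dvd_gcd h1 h2)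
  have hker : Nat.card μ.ker ≤ 3 := by
    have hzt : Outer z Q (z * t) := by
      refine ⟨Invol.orderOf_eq_two_iff.2 ⟨fun e => ht.notMem ?_, ?_⟩,
        ((Commute.refl z).mul_left ht.comm).eq, fun hm => ht.notMem ?_⟩
      · rw [← inv_eq_of_mul_eq_one_right e, h.zinv]; exact h.zmem
      · calc z * t * (z * t) = z * (t * z) * t := by group
          _ = z * z * (t * t) := by rw [ht.comm]; group
          _ = 1 := by rw [h.zsq, htt, one_mul]
      · have := mul_mem h.zmem hm
        rwa [← mul_assoc, h.zsq, one_mul] at this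
    refine hsmall (z * t) hzt.ord (h.outer_not_conj hzt) μ.ker fun a ha => ?_
    have e1 : (a : G) * (t * a * t) = 1 := congrArg Subtype.val (MonoidHom.mem_ker.1 ha)
    have e2 : t * (a : G) * t = z * a * z := by rw [hzinv a]; exact eq_inv_of_mul_eq_one_right e1
    calc (a : G) * (z * t) = z * z * ((a : G) * (z * t)) := by rw [h.zsq, one_mul]
      _ = z * (z * (a : G) * z) * t := by group
      _ = z * t * a * (t * t) := by rw [← e2]; group
      _ = z * t * a := by rw [htt, mul_one]
  have hrange : Nat.card μ.range ≤ 3 := by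
    refine hsmall t ht.ord (h.outer_not_conj ht) μ.range ?_
    rintro _ ⟨a, rfl⟩
    show (a : G) * (t * a * t) * t = t * ((a : G) * (t * a * t))
    have hc : (a : G) * (t * a * t) = t * a * t * a := congrArg Subtype.val (hab a (σ a))
    calc (a : G) * (t * a * t) * t = (a : G) * t * a * (t * t) := by group
      _ = t * (t * a * t * a) := by
          rw [htt, show t * (t * (a : G) * t * a) = (t * t) * (a * t * a) by group, htt]; group
      _ = _ := by rw [← hc]
  have hmul := Subgroup.card_eq_card_quotient_mul_card_subgroup μ.ker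
  rw [Nat.card_congr (QuotientGroup.quotientKerEquivRange μ).toEquiv, hA'card] at hmul
  have := Nat.mul_le_mul hrange hker
  omega

theorem card_all {t s g : G} {K : Subgroup G} (d : CT z Q t s g) (c : CT.Split z Q t g K) :
    Nat.card K = 60 ∧ Nat.card G = 604800 := by
  rcases c.order_formula d h with e | e
  · exact absurd e.2 (fun e' => h.not_small d c e')
  · exact e

theorem card_G : Nat.card G = 604800 := by
  obtain ⟨t, ht, -⟩ := h.exists_outer
  obtain ⟨s, g, K, d, c⟩ := h.exists_split_all ht
  exact (h.card_all d c).2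

end HJ

end Cfsg.Agent.HallJanko
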