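import Cfsg.Agent.HallJanko.Model
import Cfsg.Agent.Fg24.ExtraTwo
import Cfsg.Agent.Invol.Pair

/-!
The centre-of-involution setting: a four-element frame of anticommuting involutions in the extraspecial group.
-/

set_option autoImplicit false

namespace Cfsg.Agent.HallJanko

variable {G : Type*} [Group G]

/-- The data inside the centraliser of the central involution. -/
structure HJCore (z : G) (Q : Subgroup G) : Prop where
  hz : orderOf z = 2
  le : ∀ q ∈ Q, q * z = z * q
  normal : ∀ c : G, c * z = z * c → ∀ q ∈ Q, c * q * c⁻¹ ∈ Q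
  es : Cfsg.IsExtraspecial 2 Q
  card : Nat.card Q = 32
  zmem : z ∈ Q
  cQ : ∀ c : G, (∀ q ∈ Q, q * c = c * q) → c = 1 ∨ c = z
  cardC : Nat.card ↥(Subgroup.centralizer ({z} : Set G)) = 1920

/-- The data of the setting: the centraliser, a further conjugate of `z` in `Q`, two classes of involutions. -/
structure HJ (z : G) (Q : Subgroup G) : Prop extends HJCore z Q where
  nwc : ∃ g : G, g * z * g⁻¹ ∈ Q ∧ g * z * g⁻¹ ≠ z
  hcl : ∃ x y : G, orderOf x = 2 ∧ orderOf y = 2 ∧ ¬ IsConj x y

theorem mem_C {z c : G} : c ∈ Subgroup.centralizer ({z} : Set G) ↔ c * z = z * c :=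
  Subgroup.mem_centralizer_singleton_iff

/-- Forget the fusion hypotheses. -/
instance {z : G} {Q : Subgroup G} : Coe (HJ z Q) (HJCore z Q) := ⟨fun h => h.toHJCore⟩

namespace HJCore

variable {z : G} {Q : Subgroup G} (h : HJCore z Q)
include h

theorem zsq : z * z = 1 := Invol.mul_self_eq_one h.hz

theorem zne : z ≠ 1 := Invol.ne_one h.hz

theorem zinv : z⁻¹ = z := Invol.inv_eq_self h.hz

theorem exists_five [Finite G] : ∃ p : G, p * z = z * p ∧ orderOf p = 5 := by
  haveI : Fact (Nat.Prime 5) := ⟨by norm_num⟩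
  obtain ⟨⟨p, hp⟩, ho⟩ := exists_prime_orderOf_dvd_card' (G := ↥(Subgroup.centralizer ({z} : Set G))) 5
    (by rw [h.cardC]; norm_num)
  exact ⟨p, mem_C.1 hp, by simpa using ho⟩

/-- An element of order 5 fixes only the centre of `Q`. -/
theorem fix_five [Finite G] {p : G} (hp : p * z = z * p) (ho : orderOf p = 5) {q : G} (hq : q ∈ Q)
    (hqp : p * q = q * p) : q = 1 ∨ q = z := by
  classical
  haveI : Fact (Nat.Prime 5) := ⟨by norm_num⟩
  haveI : Fintype Q := Fintype.ofFinite _
  have hn : ∀ x ∈ Q, p * x * p⁻¹ ∈ Q := h.normal p hp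
  have hn' : ∀ x ∈ Q, p⁻¹ * x * p ∈ Q := fun x hx => by
    simpa using h.normal p⁻¹ ((show Commute p z from hp).inv_left.eq) x hx
  let σ : Equiv.Perm Q :=
    { toFun := fun x => ⟨p * x * p⁻¹, hn x x.2⟩
      invFun := fun x => ⟨p⁻¹ * x * p, hn' x x.2⟩
      left_inv := fun x => Subtype.ext (by group)
      right_inv := fun x => Subtype.ext (by group) }
  have hpow : ∀ (n : ℕ) (x : Q), ((σ ^ n) x : G) = p ^ n * x * (p ^ n)⁻¹ := by
    intro n
    induction n with
    | zero => simp
    | succ n ih =>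
      intro x
      rw [pow_succ' σ, Equiv.Perm.mul_apply]
      show p * _ * p⁻¹ = _
      rw [ih, pow_succ' p]
      group
  have hσ : σ ^ 5 ^ 1 = 1 := by
    refine Equiv.ext fun x => Subtype.ext ?_
    rw [pow_one, hpow, show p ^ 5 = 1 by rw [← ho, pow_orderOf_eq_one]]
    simp
  let H : Subgroup G := Q ⊓ Subgroup.centralizer ({p} : Set G)
  have hfix : σ.supportᶜ.card = Nat.card H := by
    rw [← Nat.card_eq_finsetCard]
    refine Nat.card_congr
      { toFun := fun x => ⟨(x.1 : G), x.1.2, mem_C.2 (by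
          have := x.2
          rw [Finset.mem_compl, Equiv.Perm.notMem_support] at this
          exact ((mul_inv_eq_iff_eq_mul).1 (congrArg Subtype.val this)).symm)⟩
        invFun := fun x => ⟨⟨x.1, x.2.1⟩, by
          rw [Finset.mem_compl, Equiv.Perm.notMem_support]
          exact Subtype.ext (mul_inv_eq_iff_eq_mul.2 (mem_C.1 x.2.2).symm)⟩
        left_inv := fun x => rfl
        right_inv := fun x => rfl }
  have hmod := Equiv.Perm.card_compl_support_modEq (p := 5) hσ
  rw [hfix, ← Nat.card_eq_fintype_card, h.card] at hmod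
  have hdvd : Nat.card H ∣ 32 := h.card ▸ Subgroup.card_dvd_of_le inf_le_left
  obtain ⟨k, hk, hkH⟩ := (Nat.dvd_prime_pow Nat.prime_two (m := 5)).1 hdvd
  have hk' : k = 1 ∨ k = 5 := by
    rw [hkH, Nat.ModEq] at hmod
    interval_cases k <;> first | omega | (norm_num at hmod)
  rcases hk' with rfl | rfl
  · have hzH : z ∈ H := ⟨h.zmem, mem_C.2 hp.symm⟩
    by_contra hne
    rw [not_or] at hne
    haveI : Fintype H := Fintype.ofFinite _
    have h3 : ({⟨1, one_mem H⟩, ⟨z, hzH⟩, ⟨q, hq, mem_C.2 hqp.symm⟩} : Finset H).card = 3 := by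
      rw [Finset.card_eq_three]
      exact ⟨_, _, _, fun e => h.zne (congrArg Subtype.val e).symm,
        fun e => hne.1 (congrArg Subtype.val e).symm, fun e => hne.2 (congrArg Subtype.val e).symm, rfl⟩
    have := Finset.card_le_univ ({⟨1, one_mem H⟩, ⟨z, hzH⟩, ⟨q, hq, mem_C.2 hqp.symm⟩} : Finset H)
    rw [h3, ← Nat.card_eq_fintype_card, hkH] at this
    norm_num at this
  · exfalso
    have hH : H = Q := Subgroup.eq_of_le_of_card_ge inf_le_left (by rw [hkH, h.card]; norm_num)
    rcases h.cQ p (fun x hx => mem_C.1 (show x ∈ H from hH.symm ▸ hx).2) with e | e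
    · rw [e, orderOf_one] at ho
      omega
    · rw [e, h.hz] at ho
      omega

theorem card_sq_one [Finite G] :
    Nat.card {x : Q // x ^ 2 = 1} = 12 ∨ Nat.card {x : Q // x ^ 2 = 1} = 20 := by
  obtain ⟨m, c, ⟨e⟩⟩ := Fg24.ExtraTwo.exists_equiv_heis h.es
  have hc : Nat.card (LargeExtra.Heis m c) = 32 := by rw [← Nat.card_congr e.toEquiv, h.card]
  rw [LargeExtra.Heis.card] at hc
  have hm : 2 * (m + 1) + 1 = 5 := Nat.pow_right_injective le_rfl (hc.trans (by norm_num : 32 = 2 ^ 5))
  obtain rfl : m = 1 := by omega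
  have hcongr : Nat.card {x : Q // x ^ 2 = 1} = Nat.card {x : LargeExtra.Heis 1 c // x ^ 2 = 1} :=
    Nat.card_congr (e.toEquiv.subtypeEquiv fun x => by simp [← map_pow])
  rw [hcongr]
  rcases Fg24.ExtraTwo.two_cases c with rfl | rfl
  · exact Or.inr (by rw [(Fg24.ExtraTwo.card_sq_eq_one 1).1]; norm_num)
  · exact Or.inl (by rw [(Fg24.ExtraTwo.card_sq_eq_one 1).2]; norm_num)

end HJCore

theorem five_relation : ∀ D : Fin 5 → Bool, D 0 = true → (∀ d, D (-d) = D d) →
    (∀ d, d ≠ 0 → D d = true → ∃ j, j ≠ 0 ∧ j ≠ d ∧ D j = true ∧ D (j - d) = true) →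
    (∀ d, D d = true) ∨ ∀ d, d ≠ 0 → D d = false := by
  decide +kernel

/-- A frame: four anticommuting involutions of `Q`. -/
structure Frame (z : G) (Q : Subgroup G) where
  /-- the four involutions -/
  s : Fin 4 → G
  base : IsBase z s
  mem : ∀ i, s i ∈ Q

/-- Existence of a frame. -/
theorem HJCore.exists_frame [Finite G] {z : G} {Q : Subgroup G} (h : HJCore z Q) :
    Nonempty (Frame z Q) := by
  classical
  obtain ⟨p, hp, ho⟩ := h.exists_five
  haveI : Fintype Q := Fintype.ofFinite _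
  have hp5 : p ^ 5 = 1 := by rw [← ho, pow_orderOf_eq_one]
  let T : Finset Q := Finset.univ.filter fun x => x ^ 2 = 1
  let S : Finset Q := T.filter fun x => (x : G) ≠ 1 ∧ (x : G) ≠ z
  have hSmem : ∀ x : Q, x ∈ S ↔ (x : G) * x = 1 ∧ (x : G) ≠ 1 ∧ (x : G) ≠ z := fun x => by
    simp only [S, T, Finset.mem_filter, Finset.mem_univ, true_and, Subtype.ext_iff, SubgroupClass.coe_pow,
      OneMemClass.coe_one, Subgroup.coe_mul, sq]
  have hzT : (⟨z, h.zmem⟩ : Q) ∈ T := by
    simp [T, Subtype.ext_iff, sq, h.zsq]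
  have hT : T.card = 12 ∨ T.card = 20 := by
    have hc := h.card_sq_one
    rwa [Nat.card_eq_fintype_card, Fintype.card_subtype] at hc
  have hTS : T.card = S.card + 2 := by
    have e : S = (T.erase 1).erase ⟨z, h.zmem⟩ := by
      ext x
      simp only [S, Finset.mem_filter, Finset.mem_erase, ne_eq, Subtype.ext_iff, OneMemClass.coe_one]
      tauto
    have hz' : (⟨z, h.zmem⟩ : Q) ∈ T.erase 1 :=
      Finset.mem_erase.2 ⟨fun e => h.zne (congrArg Subtype.val e), hzT⟩
    have h1 : (1 : Q) ∈ T := by simp [T]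
    rw [e, ← Finset.card_erase_add_one h1, ← Finset.card_erase_add_one hz']
  -- the permutation of the non-central involutions
  have hmap : ∀ (g : G) (hg : g * z = z * g), ∀ x : {x : Q // x ∈ S},
      (⟨g * (x.1 : G) * g⁻¹, h.normal g hg x.1 x.1.2⟩ : Q) ∈ S := by
    intro g hg x
    obtain ⟨h1, h2, h3⟩ := (hSmem x.1).1 x.2
    refine (hSmem _).2 ⟨?_, fun e => h2 (conj_eq_one_iff.1 e), fun e => h3 ?_⟩
    · show g * (x.1 : G) * g⁻¹ * (g * (x.1 : G) * g⁻¹) = 1
      calc g * (x.1 : G) * g⁻¹ * (g * (x.1 : G) * g⁻¹) = g * ((x.1 : G) * x.1) * g⁻¹ := by group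
        _ = 1 := by rw [h1]; group
    · have e' : g * (x.1 : G) * g⁻¹ = z := e
      calc (x.1 : G) = g⁻¹ * (g * (x.1 : G) * g⁻¹) * g := by group
        _ = g⁻¹ * z * g := by rw [e']
        _ = z := by rw [mul_assoc, ← hg]; group
  have hp' : p⁻¹ * z = z * p⁻¹ := (show Commute p z from hp).inv_left.eq
  let σ : Equiv.Perm {x : Q // x ∈ S} :=
    { toFun := fun x => ⟨_, hmap p hp x⟩
      invFun := fun x => ⟨_, hmap p⁻¹ hp' x⟩
      left_inv := fun x => Subtype.ext (Subtype.ext (by simp; group))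
      right_inv := fun x => Subtype.ext (Subtype.ext (by simp; group)) }
  have hpow : ∀ (n : ℕ) (x : {x : Q // x ∈ S}), ((σ ^ n) x).1.1 = p ^ n * x.1.1 * (p ^ n)⁻¹ := by
    intro n
    induction n with
    | zero => simp
    | succ n ih =>
      intro x
      rw [pow_succ' σ, Equiv.Perm.mul_apply]
      show p * _ * p⁻¹ = _
      rw [ih, pow_succ' p]
      group
  haveI : Fact (Nat.Prime 5) := ⟨by norm_num⟩
  have hσ : σ ^ 5 ^ 1 = 1 := by
    refine Equiv.ext fun x => Subtype.ext (Subtype.ext ?_)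
    rw [pow_one, hpow, hp5]
    simp
  have hsupp : σ.supportᶜ = ∅ := by
    refine Finset.eq_empty_of_forall_notMem fun x hx => ?_
    rw [Finset.mem_compl, Equiv.Perm.notMem_support] at hx
    obtain ⟨-, h2, h3⟩ := (hSmem x.1).1 x.2
    rcases h.fix_five hp ho x.1.2
      (mul_inv_eq_iff_eq_mul.1 (congrArg (fun y => y.1.1) hx)) with e | e
    · exact h2 e
    · exact h3 e
  have hS : S.card = 10 := by
    have hmod := Equiv.Perm.card_compl_support_modEq (p := 5) hσ
    rw [hsupp, Finset.card_empty, Fintype.card_coe, Nat.ModEq] at hmod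
    omega
  obtain ⟨s, hs⟩ : S.Nonempty := Finset.card_pos.1 (by omega)
  obtain ⟨hs2, hs1, hsz⟩ := (hSmem s).1 hs
  set s₀ : G := (s : G) with hs0
  let u : Fin 5 → G := fun i => p ^ i.val * s₀ * (p ^ i.val)⁻¹
  have hpz : ∀ n : ℕ, p ^ n * z = z * p ^ n := fun n => ((show Commute p z from hp).pow_left n).eq
  have huQ : ∀ i, u i ∈ Q := fun i => h.normal _ (hpz _) _ s.2
  have hzQ : ∀ {q : G}, q ∈ Q → z * q = q * z := fun {q} hq => (h.le q hq).symm
  have hu2 : ∀ i, u i * u i = 1 := fun i => by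
    show p ^ i.val * s₀ * (p ^ i.val)⁻¹ * (p ^ i.val * s₀ * (p ^ i.val)⁻¹) = 1
    calc _ = p ^ i.val * (s₀ * s₀) * (p ^ i.val)⁻¹ := by group
      _ = 1 := by rw [hs2]; group
  have hu1 : ∀ i, u i ≠ 1 ∧ u i ≠ z := fun i => by
    refine ⟨fun e => hs1 (conj_eq_one_iff.1 e), fun e => hsz ?_⟩
    calc s₀ = (p ^ i.val)⁻¹ * u i * p ^ i.val := by simp only [u]; group
      _ = z := by rw [e, mul_assoc, ← hpz]; group
  -- powers of `p` modulo 5
  have hpm : ∀ n : ℕ, p ^ n = p ^ (n % 5) := fun n => by rw [← pow_mod_orderOf p n, ho]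
  have hshift : ∀ i d : Fin 5, p ^ d.val * u i * (p ^ d.val)⁻¹ = u (i + d) := fun i d => by
    show p ^ d.val * (p ^ i.val * s₀ * (p ^ i.val)⁻¹) * (p ^ d.val)⁻¹ = _
    simp only [u]
    rw [Fin.val_add, ← hpm, add_comm, pow_add]
    group
  -- distinct classes
  have hdist : ∀ d : Fin 5, d ≠ 0 → u d ≠ s₀ ∧ u d ≠ z * s₀ := by
    intro d hd
    have hd5 : Nat.Coprime (orderOf p) d.val := by
      rw [ho]
      exact (by decide : ∀ e : Fin 5, e ≠ 0 → Nat.Coprime 5 e.val) d hd
    have ho' : ∀ k : ℕ, k = d.val ∨ k = 2 * d.val → orderOf (p ^ k) = 5 := by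
      rintro k (rfl | rfl)
      · rw [orderOf_pow, hd5.gcd_eq_one, Nat.div_one, ho]
      · rw [orderOf_pow, Nat.Coprime.gcd_eq_one (Nat.Coprime.mul_right (by rw [ho]; norm_num) hd5),
          Nat.div_one, ho]
    have hfalse : ∀ k : ℕ, k = d.val ∨ k = 2 * d.val → p ^ k * s₀ * (p ^ k)⁻¹ ≠ s₀ := fun k hk e => by
      rcases h.fix_five (hpz k) (ho' k hk) s.2 (mul_inv_eq_iff_eq_mul.1 e) with e' | e'
      · exact hs1 e'
      · exact hsz e'
    refine ⟨hfalse _ (Or.inl rfl), fun e => hfalse _ (Or.inr rfl) ?_⟩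
    have e' : p ^ d.val * s₀ * (p ^ d.val)⁻¹ = z * s₀ := e
    calc p ^ (2 * d.val) * s₀ * (p ^ (2 * d.val))⁻¹
        = p ^ d.val * (p ^ d.val * s₀ * (p ^ d.val)⁻¹) * (p ^ d.val)⁻¹ := by rw [two_mul, pow_add]; group
      _ = p ^ d.val * z * s₀ * (p ^ d.val)⁻¹ := by rw [e']; group
      _ = z * (p ^ d.val * s₀ * (p ^ d.val)⁻¹) := by rw [hpz]; group
      _ = s₀ := by rw [e', ← mul_assoc, h.zsq, one_mul]
  have hdist' : ∀ i j : Fin 5, i ≠ j → u i ≠ u j ∧ u i ≠ z * u j := by
    intro i j hij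
    obtain ⟨d, rfl⟩ : ∃ d, i = d + j := ⟨i - j, by abel⟩
    have hd : d ≠ 0 := fun e => hij (by rw [e, zero_add])
    obtain ⟨h1, h2⟩ := hdist d hd
    have hs0' : u 0 = s₀ := by simp [u]
    have key : ∀ x : G, p ^ j.val * u d * (p ^ j.val)⁻¹ = p ^ j.val * x * (p ^ j.val)⁻¹ → u d = x :=
      fun x e => mul_left_cancel (mul_right_cancel e)
    have hj : u j = p ^ j.val * s₀ * (p ^ j.val)⁻¹ := rfl
    rw [← hshift d j, hj]
    refine ⟨fun e => h1 (key _ e), fun e => h2 (key _ ?_)⟩
    rw [e, ← mul_assoc (p ^ j.val) z, hpz]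
    group
  let w : Fin 5 × Bool → Q := fun x =>
    if x.2 then ⟨z * u x.1, mul_mem h.zmem (huQ x.1)⟩ else ⟨u x.1, huQ x.1⟩
  have hw : Function.Injective w := by
    rintro ⟨i, a⟩ ⟨j, b⟩ e
    have hz1 : ∀ k, u k ≠ z * u k := fun k e' => h.zne (right_eq_mul.1 e')
    by_cases hij : i = j
    · subst hij
      cases a <;> cases b
      · rfl
      · exact absurd (congrArg Subtype.val e) (hz1 i)
      · exact absurd (congrArg Subtype.val e).symm (hz1 i)
      · rfl
    · obtain ⟨h1, h2⟩ := hdist' i j hij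
      obtain ⟨h3, h4⟩ := hdist' j i (Ne.symm hij)
      cases a <;> cases b
      · exact absurd (congrArg Subtype.val e) h1
      · exact absurd (congrArg Subtype.val e) h2
      · exact absurd (congrArg Subtype.val e).symm h4
      · exact absurd (mul_left_cancel (congrArg Subtype.val e : z * u i = z * u j)) h1
  have hwS : Finset.univ.image w = S := by
    refine Finset.eq_of_subset_of_card_le ?_ (by
      rw [hS, Finset.card_image_of_injective _ hw]; simp)
    intro x hx
    obtain ⟨⟨i, a⟩, -, rfl⟩ := Finset.mem_image.1 hx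
    rw [hSmem]
    obtain ⟨h1, h2⟩ := hu1 i
    cases a
    · exact ⟨hu2 i, h1, h2⟩
    · refine ⟨?_, fun e => h2 ?_, fun e => h1 ?_⟩
      · show z * u i * (z * u i) = 1
        rw [mul_assoc, ← mul_assoc (u i), ← hzQ (huQ i), mul_assoc z (u i), hu2, mul_one, h.zsq]
      · have e' : z * u i = 1 := e
        rw [← inv_eq_of_mul_eq_one_right e', h.zinv]
      · have e' : z * u i = z * 1 := by rw [mul_one]; exact e
        exact mul_left_cancel e'
  have hcover : ∀ x ∈ Q, x * x = 1 → x ≠ 1 → x ≠ z → ∃ i, x = u i ∨ x = z * u i := by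
    intro x hx h1 h2 h3
    have hmem : (⟨x, hx⟩ : Q) ∈ Finset.univ.image w := by rw [hwS, hSmem]; exact ⟨h1, h2, h3⟩
    obtain ⟨⟨i, a⟩, -, e⟩ := Finset.mem_image.1 hmem
    cases a
    · exact ⟨i, Or.inl (congrArg Subtype.val e).symm⟩
    · exact ⟨i, Or.inr (congrArg Subtype.val e).symm⟩
  -- the commuting pattern
  have hcomm_shift : ∀ i j d : Fin 5, u i * u j = u j * u i ↔ u (i + d) * u (j + d) = u (j + d) * u (i + d) := by
    intro i j d
    rw [← hshift i d, ← hshift j d]
    exact ⟨fun e => by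
        calc p ^ d.val * u i * (p ^ d.val)⁻¹ * (p ^ d.val * u j * (p ^ d.val)⁻¹)
            = p ^ d.val * (u i * u j) * (p ^ d.val)⁻¹ := by group
          _ = p ^ d.val * (u j * u i) * (p ^ d.val)⁻¹ := by rw [e]
          _ = _ := by group,
      fun e => by
        have e' : p ^ d.val * (u i * u j) * (p ^ d.val)⁻¹ = p ^ d.val * (u j * u i) * (p ^ d.val)⁻¹ :=
          Eq.trans (by group) (e.trans (by group))
        exact mul_left_cancel (mul_right_cancel e')⟩
  let D : Fin 5 → Bool := fun d => decide (u 0 * u d = u d * u 0)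
  have hD : ∀ d, D d = true ↔ u 0 * u d = u d * u 0 := fun d => by simp [D]
  have hsym : ∀ d, D (-d) = D d := fun d => by
    rw [Bool.eq_iff_iff, hD, hD, hcomm_shift 0 (-d) d, zero_add, neg_add_cancel]
    exact eq_comm
  have hclose : ∀ d, d ≠ 0 → D d = true → ∃ j, j ≠ 0 ∧ j ≠ d ∧ D j = true ∧ D (j - d) = true := by
    intro d hd hDd
    have hc := (hD d).1 hDd
    obtain ⟨h1, h2⟩ := hdist' 0 d (Ne.symm hd)
    have hinv0 : (u 0)⁻¹ = u 0 := inv_eq_of_mul_eq_one_right (hu2 0)
    have hxne1 : u 0 * u d ≠ 1 := fun e => h1 ((inv_eq_of_mul_eq_one_right e).symm.trans hinv0).symm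
    have hzd := hzQ (huQ d)
    have hxnez : u 0 * u d ≠ z := fun e => h2 (by
      calc u 0 = u 0 * u d * u d := by rw [mul_assoc, hu2, mul_one]
        _ = z * u d := by rw [e])
    have hx2 : u 0 * u d * (u 0 * u d) = 1 :=
      calc u 0 * u d * (u 0 * u d) = u 0 * (u d * u 0) * u d := by group
        _ = (u 0 * u 0) * (u d * u d) := by rw [← hc]; group
        _ = 1 := by rw [hu2, hu2, one_mul]
    obtain ⟨j, hj⟩ := hcover _ (mul_mem (huQ 0) (huQ d)) hx2 hxne1 hxnez
    have c0 : Commute (u 0 * u d) (u 0) := (Commute.refl (u 0)).mul_left (show Commute (u d) (u 0) from hc.symm)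
    have cd : Commute (u 0 * u d) (u d) := (show Commute (u 0) (u d) from hc).mul_left (Commute.refl _)
    have key : ∀ y, Commute (u 0 * u d) y → y ∈ Q → u j * y = y * u j := by
      intro y hy hyQ
      rcases hj with e | e
      · rw [e] at hy; exact hy.eq
      · rw [e] at hy
        have hzy : Commute z y := hzQ hyQ
        refine mul_left_cancel (a := z) ?_
        calc z * (u j * y) = z * u j * y := (mul_assoc _ _ _).symm
          _ = y * (z * u j) := hy.eq
          _ = z * (y * u j) := by rw [← mul_assoc, ← hzy.eq, mul_assoc]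
    refine ⟨j, ?_, ?_, ?_, ?_⟩
    · rintro rfl
      rcases hj with e | e
      · exact (hu1 d).1 (mul_left_cancel (e.trans (mul_one _).symm))
      · rw [hzQ (huQ 0)] at e
        exact (hu1 d).2 (mul_left_cancel e)
    · rintro rfl
      rcases hj with e | e
      · exact (hu1 0).1 (mul_right_cancel (e.trans (one_mul _).symm))
      · exact (hu1 0).2 (mul_right_cancel e)
    · exact (hD j).2 (key _ c0 (huQ 0)).symm
    · rw [hD, hcomm_shift 0 (j - d) d, zero_add, sub_add_cancel]
      exact (key _ cd (huQ d)).symm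
  have hall : ¬ ∀ d, D d = true := by
    intro hall
    have hcu : ∀ i j, Commute (u i) (u j) := fun i j => by
      have := (hcomm_shift 0 (j - i) i).1 ((hD _).1 (hall (j - i)))
      rwa [zero_add, sub_add_cancel] at this
    have hcz : ∀ i, Commute z (u i) := fun i => hzQ (huQ i)
    have hTcomm : ∀ x ∈ T, ∀ y ∈ T, x * y = y * x := by
      have hgen : ∀ x ∈ T, (x : G) = 1 ∨ (x : G) = z ∨ ∃ i, (x : G) = u i ∨ (x : G) = z * u i := by
        intro x hx
        by_cases h1 : (x : G) = 1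
        · exact Or.inl h1
        by_cases h2 : (x : G) = z
        · exact Or.inr (Or.inl h2)
        exact Or.inr (Or.inr (hcover x x.2 (by
          simpa [T, Subtype.ext_iff, sq] using hx) h1 h2))
      intro x hx y hy
      refine Subtype.ext (show Commute (x : G) (y : G) from ?_)
      rcases hgen x hx with ex | ex | ⟨i, ex | ex⟩ <;> rcases hgen y hy with ey | ey | ⟨j, ey | ey⟩ <;>
        rw [ex, ey]
      all_goals first
        | exact Commute.one_left _ | exact Commute.one_right _ | exact Commute.refl _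
        | exact hcz _ | exact (hcz _).symm | exact hcu _ _
        | exact (Commute.refl z).mul_right (hcz _)
        | exact ((Commute.refl z).mul_right (hcz _)).symm
        | exact (hcz _).symm.mul_right (hcu _ _)
        | exact ((hcz _).symm.mul_right (hcu _ _)).symm
        | exact ((Commute.refl z).mul_right (hcz _)).mul_left ((hcz _).symm.mul_right (hcu _ _))
    let A : Subgroup Q :=
      { carrier := {x | x ∈ T}
        one_mem' := by simp [T]
        mul_mem' := fun {x y} hx hy => by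
          have hx' : x ^ 2 = 1 := (Finset.mem_filter.1 hx).2
          have hy' : y ^ 2 = 1 := (Finset.mem_filter.1 hy).2
          refine Finset.mem_filter.2 ⟨Finset.mem_univ _, ?_⟩
          rw [(show Commute x y from hTcomm x hx y hy).mul_pow, hx', hy', one_mul]
        inv_mem' := fun {x} hx => by
          have hx' : x ^ 2 = 1 := (Finset.mem_filter.1 hx).2
          refine Finset.mem_filter.2 ⟨Finset.mem_univ _, ?_⟩
          rw [inv_pow, hx', inv_one] }
    have hA : Nat.card A = T.card := Nat.card_eq_finsetCard T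
    have hdvd := Subgroup.card_subgroup_dvd_card A
    rw [hA, h.card] at hdvd
    rcases hT with e | e <;> rw [e] at hdvd <;> norm_num at hdvd
  have hanti : ∀ d, d ≠ 0 → D d = false :=
    (five_relation D (by simp [D]) hsym hclose).resolve_left hall
  have hanti' : ∀ i j : Fin 5, i ≠ j → u i * u j = z * (u j * u i) := by
    intro i j hij
    have hne : u i * u j ≠ u j * u i := fun e => by
      have := (hcomm_shift i j (-i)).1 e
      rw [add_neg_cancel] at this
      exact absurd ((hD _).2 this) (by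
        rw [hanti (j + -i) (fun e' => hij (by rw [← sub_eq_add_neg, sub_eq_zero] at e'; exact e'.symm))]
        decide)
    have hdQ : u i * u j * (u j * u i)⁻¹ ∈ Q :=
      mul_mem (mul_mem (huQ i) (huQ j)) (inv_mem (mul_mem (huQ j) (huQ i)))
    have hc : Subgroup.center Q = Subgroup.zpowers (⟨z, h.zmem⟩ : Q) := by
      refine le_antisymm (fun x hx => ?_) (Subgroup.zpowers_le.2 ?_)
      · rcases h.cQ x (fun q hq => congrArg Subtype.val (Subgroup.mem_center_iff.1 hx ⟨q, hq⟩)) with e | e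
        · rw [show x = 1 from Subtype.ext e]; exact one_mem _
        · rw [show x = ⟨z, h.zmem⟩ from Subtype.ext e]; exact Subgroup.mem_zpowers _
      · exact Subgroup.mem_center_iff.2 fun q => Subtype.ext (h.le q q.2)
    haveI : Fact (Nat.Prime 2) := ⟨Nat.prime_two⟩
    have hmem := Fusion.es_commutator_mem h.es (⟨u i, huQ i⟩ : Q) ⟨u j, huQ j⟩
    rw [hc, Subgroup.mem_zpowers_iff] at hmem
    obtain ⟨k, hk⟩ := hmem
    have hk' : z ^ k = u i * u j * (u i)⁻¹ * (u j)⁻¹ := by
      simpa [commutatorElement_def] using congrArg Subtype.val hk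
    rcases Int.even_or_odd' k with ⟨m, rfl | rfl⟩
    · exfalso
      rw [zpow_mul, show z ^ (2 : ℤ) = 1 by rw [zpow_two, h.zsq], one_zpow] at hk'
      exact hne (by
        calc u i * u j = u i * u j * (u i)⁻¹ * (u j)⁻¹ * (u j * u i) := by group
          _ = u j * u i := by rw [← hk', one_mul])
    · rw [zpow_add_one, zpow_mul, show z ^ (2 : ℤ) = 1 by rw [zpow_two, h.zsq], one_zpow, one_mul] at hk'
      calc u i * u j = u i * u j * (u i)⁻¹ * (u j)⁻¹ * (u j * u i) := by group
        _ = z * (u j * u i) := by rw [← hk']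
  exact ⟨⟨fun i => u i.castSucc,
    ⟨fun i => hu2 _, h.zsq, h.zne, fun i => hzQ (huQ _),
      fun i j hij => hanti' _ _ (fun e => hij (Fin.castSucc_injective _ e))⟩,
    fun i => huQ _⟩⟩

end Cfsg.Agent.HallJanko
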