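import Cfsg.Agent.HallJanko.Setting
import Cfsg.Agent.LargeExtra.Quotient
import Cfsg.Agent.LargeExtra.SingularSubgroup
import Cfsg.Agent.Invol.Pair
import Cfsg.Agent.CharTwoInvol.OrthStd
import Cfsg.Agent.Classical.SymmTwo

/-!
The setting from the hypotheses of the statements.
-/

set_option autoImplicit false

namespace Cfsg.Agent.HallJanko

theorem card_omega :
    Nat.card ↥(Cfsg.Omega (ZMod 2) (Cfsg.quadFormMinus 1 (ZMod 2) 1 1)) = 60 := by
  obtain ⟨e⟩ := Classical.Symm2.equiv_five (F := ZMod 2) (ZMod.card 2)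
  have hmap : (commutator ↥(Cfsg.isometryGroup (ZMod 2) (Cfsg.quadFormMinus 1 (ZMod 2) 1 1))).map
      e.toMonoidHom = commutator (Equiv.Perm (Fin 5)) := by
    rw [commutator_def, commutator_def, Subgroup.map_commutator, Subgroup.map_top_of_surjective _ e.surjective]
  have h1 := Nat.card_congr ((e.subgroupMap
    (commutator ↥(Cfsg.isometryGroup (ZMod 2) (Cfsg.quadFormMinus 1 (ZMod 2) 1 1)))).trans
      (MulEquiv.subgroupCongr hmap)).toEquiv
  refine h1.trans ?_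
  rw [CharTwoInvol.Orth.commutator_perm_five]
  show Nat.card (alternatingGroup (Fin 5)) = 60
  rw [nat_card_alternatingGroup, Nat.card_fin]
  rfl

theorem HJ.mk' {G : Type*} [Group G] [Finite G] (z : G) (hz : orderOf z = 2)
    (Q : Subgroup (Subgroup.centralizer ({z} : Set G))) [Q.Normal]
    (hF : Cfsg.generalizedFittingSubgroup (Subgroup.centralizer ({z} : Set G)) = Q)
    (hQ : Cfsg.IsExtraspecial 2 Q) (hcard : Nat.card Q = 2 ^ 5)
    (e : (Subgroup.centralizer ({z} : Set G)) ⧸ Q ≃* Cfsg.Omega (ZMod 2) (Cfsg.quadFormMinus 1 (ZMod 2) 1 1))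
    (hnwc : ∃ g : G, (∃ hq : g * z * g⁻¹ ∈ Subgroup.centralizer ({z} : Set G),
      (⟨g * z * g⁻¹, hq⟩ : Subgroup.centralizer ({z} : Set G)) ∈ Q) ∧ g * z * g⁻¹ ≠ z)
    (hcl : ∃ x y : G, orderOf x = 2 ∧ orderOf y = 2 ∧ ¬ IsConj x y) :
    HJ z (Q.map (Subgroup.centralizer ({z} : Set G)).subtype) := by
  set Q' := Q.map (Subgroup.centralizer ({z} : Set G)).subtype with hQ'
  have hQle : Q' ≤ Subgroup.centralizer ({z} : Set G) := by rintro _ ⟨q, -, rfl⟩; exact q.2
  let eQ : Q ≃* Q' := Subgroup.equivMapOfInjective Q (Subgroup.centralizer ({z} : Set G)).subtype (Subgroup.centralizer ({z} : Set G)).subtype_injective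
  have hes : Cfsg.IsExtraspecial 2 Q' := LargeExtra.extraspecial_congr eQ hQ
  obtain ⟨hc1, hc2, -⟩ := LargeExtra.data_of_fitting hz hQle (by rw [hF]) hes
  rw [hc2] at hc1
  have hzQ : z ∈ Q' := by
    have hm : z ∈ (Subgroup.center Q').map Q'.subtype := hc2.symm ▸ Subgroup.mem_zpowers z
    obtain ⟨q, -, hq⟩ := hm
    exact hq ▸ q.2
  refine ⟨⟨hz, fun q hq => Subgroup.mem_centralizer_singleton_iff.1 (hQle hq), ?_, hes, ?_, hzQ, ?_, ?_⟩, ?_, hcl⟩
  · rintro c hc _ ⟨q, hq, rfl⟩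
    exact ⟨⟨c, Subgroup.mem_centralizer_singleton_iff.2 hc⟩ * q * ⟨c, Subgroup.mem_centralizer_singleton_iff.2 hc⟩⁻¹,
      Subgroup.Normal.conj_mem inferInstance q hq _, by simp⟩
  · rw [← Nat.card_congr eQ.toEquiv, hcard]; norm_num
  · intro c hc
    have hm : c ∈ Subgroup.centralizer (Q' : Set G) := Subgroup.mem_centralizer_iff.2 hc
    rw [hc1, Subgroup.mem_zpowers_iff] at hm
    obtain ⟨i, rfl⟩ := hm
    have hzz : z * z = 1 := Invol.mul_self_eq_one hz
    rcases Int.even_or_odd' i with ⟨j, rfl | rfl⟩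
    · left; rw [zpow_mul, zpow_two, hzz, one_zpow]
    · right; rw [zpow_add_one, zpow_mul, zpow_two, hzz, one_zpow, one_mul]
  · rw [Subgroup.card_eq_card_quotient_mul_card_subgroup Q, Nat.card_congr e.toEquiv, card_omega, hcard]
    norm_num
  · obtain ⟨g, ⟨hq, hm⟩, hne⟩ := hnwc
    exact ⟨g, ⟨_, hm, rfl⟩, hne⟩

end Cfsg.Agent.HallJanko
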