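import Cfsg.Agent.HallJanko.Order
import Cfsg.Agent.LargeExtra.SingularSubgroup

/-!
The normaliser of the fours group central in the centraliser of an outer involution.
-/

set_option autoImplicit false

namespace Cfsg.Agent.HallJanko

variable {G : Type*} [Group G] [Finite G] {z : G} {Q : Subgroup G}

/-- The setting transports along conjugation. -/
theorem HJ.conj (h : HJ z Q) (a : G) :
    HJ (a * z * a⁻¹) (Q.map (MulAut.conj a).toMonoidHom) := by
  have hmem : ∀ {x : G}, x ∈ Q → a * x * a⁻¹ ∈ Q.map (MulAut.conj a).toMonoidHom := fun {x} hx =>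
    Subgroup.mem_map.2 ⟨x, hx, rfl⟩
  have hback : ∀ {c : G}, c * (a * z * a⁻¹) = a * z * a⁻¹ * c →
      (a⁻¹ * c * a) * z = z * (a⁻¹ * c * a) := by
    intro c hc
    calc a⁻¹ * c * a * z = a⁻¹ * (c * (a * z * a⁻¹)) * a := by group
      _ = a⁻¹ * (a * z * a⁻¹ * c) * a := by rw [hc]
      _ = _ := by group
  refine ⟨⟨by rw [Invol.orderOf_conj, h.hz], ?_, ?_, ?_, ?_, hmem h.zmem, ?_, ?_⟩, ?_, h.hcl⟩
  · rintro _ ⟨q, hq, rfl⟩
    show a * q * a⁻¹ * (a * z * a⁻¹) = a * z * a⁻¹ * (a * q * a⁻¹)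
    calc a * q * a⁻¹ * (a * z * a⁻¹) = a * (q * z) * a⁻¹ := by group
      _ = a * (z * q) * a⁻¹ := by rw [h.le q hq]
      _ = _ := by group
  · rintro c hc _ ⟨q, hq, rfl⟩
    refine Subgroup.mem_map.2 ⟨_, h.normal _ (hback hc) q hq, ?_⟩
    show a * (a⁻¹ * c * a * q * (a⁻¹ * c * a)⁻¹) * a⁻¹ = c * (a * q * a⁻¹) * c⁻¹
    group
  · exact LargeExtra.extraspecial_congr
      (Subgroup.equivMapOfInjective Q (MulAut.conj a).toMonoidHom (MulAut.conj a).injective) h.es
  · rw [← h.card]
    exact Nat.card_congr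
      (Subgroup.equivMapOfInjective Q (MulAut.conj a).toMonoidHom (MulAut.conj a).injective).symm.toEquiv
  · intro c hc
    rcases h.cQ (a⁻¹ * c * a) (fun q hq => by
      have e := hc _ (hmem hq)
      calc q * (a⁻¹ * c * a) = a⁻¹ * (a * q * a⁻¹ * c) * a := by group
        _ = a⁻¹ * (c * (a * q * a⁻¹)) * a := by rw [e]
        _ = _ := by group) with e | e
    · left
      calc c = a * (a⁻¹ * c * a) * a⁻¹ := by group
        _ = 1 := by rw [e]; group
    · right
      calc c = a * (a⁻¹ * c * a) * a⁻¹ := by group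
        _ = a * z * a⁻¹ := by rw [e]
  · rw [← h.cardC]
    refine Nat.card_congr
      { toFun := fun x => ⟨a⁻¹ * x * a, mem_C.2 (hback (mem_C.1 x.2))⟩
        invFun := fun x => ⟨a * x * a⁻¹, mem_C.2 ?_⟩
        left_inv := fun x => Subtype.ext (by group)
        right_inv := fun x => Subtype.ext (by group) }
    calc a * (x : G) * a⁻¹ * (a * z * a⁻¹) = a * ((x : G) * z) * a⁻¹ := by group
      _ = a * (z * (x : G)) * a⁻¹ := by rw [mem_C.1 x.2]
      _ = _ := by group
  · obtain ⟨g, hg, hne⟩ := h.nwc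
    refine ⟨a * g * a⁻¹, ?_, fun e => hne ?_⟩
    · rw [show a * g * a⁻¹ * (a * z * a⁻¹) * (a * g * a⁻¹)⁻¹ = a * (g * z * g⁻¹) * a⁻¹ by group]
      exact hmem hg
    · rw [show a * g * a⁻¹ * (a * z * a⁻¹) * (a * g * a⁻¹)⁻¹ = a * (g * z * g⁻¹) * a⁻¹ by group] at e
      exact mul_left_cancel (mul_right_cancel e)

/-- Every involution outside the class of `z` is outer for some conjugate of `z`. -/
theorem HJ.exists_frame_at (h : HJ z Q) {t : G} (ht : orderOf t = 2) (htz : ¬ IsConj t z) :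
    ∃ (z' : G) (Q' : Subgroup G), HJ z' Q' ∧ Outer z' Q' t ∧ IsConj z z' := by
  obtain ⟨t₀, ht₀, ht₀z⟩ := h.exists_outer
  obtain ⟨a, ha⟩ := isConj_iff.1 (h.isConj_of_not ht₀.ord ht ht₀z (fun e => htz e.symm))
  refine ⟨a * z * a⁻¹, Q.map (MulAut.conj a).toMonoidHom, h.conj a, ⟨ht, ?_, ?_⟩, isConj_iff.2 ⟨a, rfl⟩⟩
  · rw [← ha]
    calc a * t₀ * a⁻¹ * (a * z * a⁻¹) = a * (t₀ * z) * a⁻¹ := by group
      _ = a * (z * t₀) * a⁻¹ := by rw [ht₀.comm]
      _ = _ := by group
  · rintro ⟨q, hq, e⟩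
    rw [← ha] at e
    have e' : q = t₀ := (MulAut.conj a).injective e
    exact ht₀.notMem (e' ▸ hq)

namespace CT

variable {t s g : G} {K : Subgroup G}

theorem TF_le_L : TF z t g ≤ Subgroup.centralizer ({t} : Set G) := fun _ hx => hx.1.2

theorem Split.L_eq (c : Split z Q t g K) (d : CT z Q t s g) {x : G} (hxt : x * t = t * x) :
    ∃ f ∈ TF z t g, ∃ k ∈ K, x = k * f := by
  obtain ⟨f, hf, hk⟩ := c.decomp x hxt
  exact ⟨f, hf, x * f, hk, by rw [mul_assoc, d.E_sq hf.1, mul_one]⟩

theorem Split.F_central (c : Split z Q t g K) (d : CT z Q t s g) (h : HJ z Q) {f x : G}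
    (hf : f ∈ TF z t g) (hxt : x * t = t * x) : x * f = f * x := by
  obtain ⟨f', hf', k, hk, rfl⟩ := c.L_eq d hxt
  exact (((show Commute f k from c.F_cent d h hf hk)).mul_right
    (show Commute f f' from d.E_comm hf.1 hf'.1)).eq.symm

theorem Split.K_central (c : Split z Q t g K) (d : CT z Q t s g) (h : HJ z Q) {k : G} (hk : k ∈ K)
    (hkz : k * z = z * k) (hkg : k * g = g * k) : k = 1 := by
  refine (c.cent_v d h (Or.inl rfl) hk hkz).resolve_right fun hv => (d.g_conj_V h hv).2 ?_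
  rw [← hkg, mul_inv_cancel_right]

/-- The fours group is the centre of `C(t)`. -/
theorem Split.center_L (c : Split z Q t g K) (d : CT z Q t s g) (h : HJ z Q) {x : G} :
    x ∈ TF z t g ↔ x * t = t * x ∧ ∀ y : G, y * t = t * y → x * y = y * x := by
  constructor
  · intro hx
    exact ⟨(mem_TE.1 hx.1).2, fun y hy => (c.F_central d h hx hy).symm⟩
  · rintro ⟨hxt, hall⟩
    obtain ⟨f, hf, k, hk, rfl⟩ := c.L_eq d hxt
    have hff := d.E_sq hf.1
    have hc : ∀ y : G, y * t = t * y → k * y = y * k := fun y hy => by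
      calc k * y = k * f * (f * y) := by rw [← mul_assoc, mul_assoc k f f, hff, mul_one]
        _ = k * f * (y * f) := by rw [c.F_central d h hf hy]
        _ = y * (k * f) * f := by rw [← hall y hy]; group
        _ = y * k := by rw [mul_assoc y, mul_assoc k f f, hff, mul_one]
    rw [c.K_central d h hk (hc z d.outer.comm.symm) (hc g d.gt), one_mul]
    exact hf

theorem Split.card_L (c : Split z Q t g K) (d : CT z Q t s g) (h : HJ z Q) :
    Nat.card ↥(Subgroup.centralizer ({t} : Set G)) = 240 := by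
  rw [c.cardL, (h.card_all d c).1]

theorem Split.cent_f (c : Split z Q t g K) (d : CT z Q t s g) (h : HJ z Q) {f : G} (hf : f ∈ TF z t g)
    (hf1 : f ≠ 1) : IsConj t f ∧ Subgroup.centralizer ({f} : Set G) = Subgroup.centralizer ({t} : Set G) := by
  have hfo : orderOf f = 2 := Invol.orderOf_eq_two_iff.2 ⟨hf1, d.E_sq hf.1⟩
  have hfz : ¬ IsConj z f := fun e => hf1 (c.inf f hf ((c.conj_iff d h hfo (mem_TE.1 hf.1).2).1 e))
  have hc := h.isConj_of_not d.outer.ord hfo (h.outer_not_conj d.outer) hfz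
  refine ⟨hc, (Subgroup.eq_of_le_of_card_ge (fun x hx => mem_C.2 (c.F_central d h hf (mem_C.1 hx))) ?_).symm⟩
  obtain ⟨a, rfl⟩ := isConj_iff.1 hc
  refine le_of_eq (Nat.card_congr
    { toFun := fun x => ⟨a⁻¹ * x * a, mem_C.2 ?_⟩
      invFun := fun x => ⟨a * x * a⁻¹, mem_C.2 ?_⟩
      left_inv := fun x => Subtype.ext (by group)
      right_inv := fun x => Subtype.ext (by group) })
  · calc a⁻¹ * (x : G) * a * t = a⁻¹ * ((x : G) * (a * t * a⁻¹)) * a := by group
      _ = a⁻¹ * ((a * t * a⁻¹) * (x : G)) * a := by rw [mem_C.1 x.2]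
      _ = _ := by group
  · calc a * (x : G) * a⁻¹ * (a * t * a⁻¹) = a * ((x : G) * t) * a⁻¹ := by group
      _ = a * (t * (x : G)) * a⁻¹ := by rw [mem_C.1 x.2]
      _ = _ := by group

theorem Split.centralizer_F (c : Split z Q t g K) (d : CT z Q t s g) (h : HJ z Q) :
    Subgroup.centralizer (TF z t g : Set G) = Subgroup.centralizer ({t} : Set G) := by
  refine le_antisymm (fun x hx => mem_C.2 (Subgroup.mem_centralizer_iff.1 hx t d.t_mem_F).symm) fun x hx => ?_
  exact Subgroup.mem_centralizer_iff.2 fun f hf => (c.F_central d h hf (mem_C.1 hx)).symm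

theorem Split.normalizer_F (c : Split z Q t g K) (d : CT z Q t s g) (h : HJ z Q) {x : G} :
    x ∈ Subgroup.normalizer (TF z t g : Set G) ↔ x * t * x⁻¹ ∈ TF z t g := by
  refine ⟨fun hx => (Subgroup.mem_normalizer_iff.1 hx t).1 d.t_mem_F, fun hx => ?_⟩
  have hne : x * t * x⁻¹ ≠ 1 := fun e => Invol.ne_one d.outer.ord (conj_eq_one_iff.1 e)
  have hcen := (c.cent_f d h hx hne).2
  have hiff : ∀ y : G, (x * y * x⁻¹) * t = t * (x * y * x⁻¹) ↔ y * t = t * y := fun y => by
    rw [← mem_C, ← hcen, mem_C, show x * y * x⁻¹ * (x * t * x⁻¹) = x * (y * t) * x⁻¹ by group,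
      show x * t * x⁻¹ * (x * y * x⁻¹) = x * (t * y) * x⁻¹ by group, mul_left_inj, mul_right_inj]
  refine Subgroup.mem_normalizer_iff.2 fun f => ?_
  rw [c.center_L d h, c.center_L d h]
  constructor
  · rintro ⟨h1, h2⟩
    refine ⟨(hiff f).2 h1, fun y hy => ?_⟩
    have hy' : (x⁻¹ * y * x) * t = t * (x⁻¹ * y * x) :=
      (hiff _).1 (by rw [show x * (x⁻¹ * y * x) * x⁻¹ = y by group]; exact hy)
    calc x * f * x⁻¹ * y = x * (f * (x⁻¹ * y * x)) * x⁻¹ := by group
      _ = x * ((x⁻¹ * y * x) * f) * x⁻¹ := by rw [h2 _ hy']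
      _ = _ := by group
  · rintro ⟨h1, h2⟩
    refine ⟨(hiff f).1 h1, fun y hy => ?_⟩
    have := h2 (x * y * x⁻¹) ((hiff y).2 hy)
    rw [show x * f * x⁻¹ * (x * y * x⁻¹) = x * (f * y) * x⁻¹ by group,
      show x * y * x⁻¹ * (x * f * x⁻¹) = x * (y * f) * x⁻¹ by group, mul_left_inj, mul_right_inj] at this
    exact this

theorem Split.L_le_N (c : Split z Q t g K) (d : CT z Q t s g) (h : HJ z Q) :
    Subgroup.centralizer ({t} : Set G) ≤ Subgroup.normalizer (TF z t g : Set G) := fun x hx => by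
  refine (c.normalizer_F d h).2 ?_
  rw [mem_C.1 hx, mul_inv_cancel_right]
  exact d.t_mem_F

theorem Split.card_N (c : Split z Q t g K) (d : CT z Q t s g) (h : HJ z Q) :
    Nat.card (Subgroup.normalizer (TF z t g : Set G)) = 720 := by
  classical
  set N := Subgroup.normalizer (TF z t g : Set G) with hN
  set T : N := ⟨t, c.L_le_N d h (mem_C.2 rfl)⟩
  have hset : Nat.card {x : N // IsConj T x} = 3 := by
    have h4 := d.card_TF h
    haveI : Fintype (TF z t g) := Fintype.ofFinite _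
    rw [show Nat.card {x : N // IsConj T x} = Nat.card {f : TF z t g // f ≠ 1} from Nat.card_congr
      (Equiv.ofBijective (fun x : {x : N // IsConj T x} =>
        (⟨⟨((x.1 : N) : G), by
          obtain ⟨a, ha⟩ := isConj_iff.1 x.2
          rw [← ha]
          exact (c.normalizer_F d h).1 a.2⟩, fun e => by
            obtain ⟨a, ha⟩ := isConj_iff.1 x.2
            have e' : ((x.1 : N) : G) = 1 := congrArg Subtype.val e
            rw [← ha] at e'
            exact Invol.ne_one d.outer.ord (conj_eq_one_iff.1 e')⟩ : {f : TF z t g // f ≠ 1}))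
        ⟨fun a b e => Subtype.ext (Subtype.ext (congrArg (fun w : {f : TF z t g // f ≠ 1} => (w.1 : G)) e)), by
          rintro ⟨⟨f, hf⟩, hf1⟩
          obtain ⟨a, ha⟩ := isConj_iff.1 (c.cent_f d h hf (fun e => hf1 (Subtype.ext e))).1
          have haN : a ∈ N := (c.normalizer_F d h).2 (by rw [ha]; exact hf)
          refine ⟨⟨⟨f, ?_⟩, isConj_iff.2 ⟨⟨a, haN⟩, Subtype.ext ha⟩⟩, rfl⟩
          exact c.L_le_N d h hf.1.2⟩)]
    rw [Nat.card_eq_fintype_card, Fintype.card_subtype_compl, Fintype.card_subtype_eq,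
      ← Nat.card_eq_fintype_card, h4]
  have hcent : Nat.card (Subgroup.centralizer ({T} : Set N)) = 240 := by
    rw [← c.card_L d h]
    exact Nat.card_congr
      { toFun := fun x => ⟨((x : N) : G), mem_C.2 (congrArg Subtype.val (mem_C.1 x.2))⟩
        invFun := fun x => ⟨⟨(x : G), c.L_le_N d h x.2⟩, mem_C.2 (Subtype.ext (mem_C.1 x.2))⟩
        left_inv := fun x => rfl
        right_inv := fun x => rfl }
  rw [← (Subgroup.centralizer ({T} : Set N)).card_mul_index, hcent, ← Char.card_isConj_eq_index, hset]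

theorem Split.K_simple (c : Split z Q t g K) (d : CT z Q t s g) (h : HJ z Q) (M : Subgroup K) [M.Normal] :
    M = ⊥ ∨ M = ⊤ := by
  obtain ⟨e⟩ := c.alt_five d h (h.card_all d c).1
  have hm : (M.map e.toMonoidHom).Normal := Subgroup.Normal.map inferInstance _ e.surjective
  rcases hm.eq_bot_or_eq_top with h1 | h1
  · exact Or.inl ((Subgroup.map_eq_bot_iff_of_injective _ e.injective).1 h1)
  · refine Or.inr ?_
    rw [← Subgroup.comap_map_eq_self_of_injective (f := e.toMonoidHom) e.injective M]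
    show Subgroup.comap e.toMonoidHom (M.map e.toMonoidHom) = ⊤
    rw [h1, Subgroup.comap_top]

theorem Split.norm_K (c : Split z Q t g K) (d : CT z Q t s g) (h : HJ z Q) {x : G}
    (hx : x ∈ Subgroup.normalizer (TF z t g : Set G)) {k : G} (hk : k ∈ K) : x * k * x⁻¹ ∈ K := by
  classical
  haveI : Fact (Nat.Prime 2) := ⟨Nat.prime_two⟩
  have hxF : ∀ f ∈ TF z t g, x * f * x⁻¹ ∈ TF z t g := fun f hf => (Subgroup.mem_normalizer_iff.1 hx f).1 hf
  have hconjL : ∀ y : G, y * t = t * y → x * y * x⁻¹ * t = t * (x * y * x⁻¹) := by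
    intro y hy
    have e1 := (c.normalizer_F d h).1 hx
    have hne : x * t * x⁻¹ ≠ 1 := fun e => Invol.ne_one d.outer.ord (conj_eq_one_iff.1 e)
    rw [← mem_C, ← (c.cent_f d h e1 hne).2, mem_C,
      show x * y * x⁻¹ * (x * t * x⁻¹) = x * (y * t) * x⁻¹ by group, hy]
    group
  have hp : ∀ y : K, ∃ f : TF z t g, x * (y : G) * x⁻¹ * f ∈ K := fun y => by
    obtain ⟨f, hf, hfK⟩ := c.decomp _ (hconjL _ (c.le y y.2))
    exact ⟨⟨f, hf⟩, hfK⟩
  choose p hp using hp
  have huniq : ∀ (y : G) (f₁ f₂ : TF z t g), y * f₁ ∈ K → y * f₂ ∈ K → f₁ = f₂ := by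
    intro y f₁ f₂ h1 h2
    have := c.inf ((f₁ : G)⁻¹ * f₂) (mul_mem (inv_mem f₁.2) f₂.2) (by
      have := mul_mem (inv_mem h1) h2
      convert this using 1
      group)
    exact Subtype.ext (inv_mul_eq_one.1 this)
  let φ : K →* TF z t g := MonoidHom.mk' p fun a b => by
    refine huniq (x * ((a * b : K) : G) * x⁻¹) _ _ (hp _) ?_
    have := mul_mem (hp a) (hp b)
    convert this using 1
    push_cast
    have hcen := c.F_central d h (p a).2 (hconjL _ (c.le _ b.2))
    calc x * ((a : G) * b) * x⁻¹ * ((p a : G) * (p b : G))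
        = x * (a : G) * x⁻¹ * ((x * (b : G) * x⁻¹) * (p a : G)) * (p b : G) := by group
      _ = x * (a : G) * x⁻¹ * ((p a : G) * (x * (b : G) * x⁻¹)) * (p b : G) := by rw [hcen]
      _ = _ := by group
  haveI : φ.ker.Normal := MonoidHom.normal_ker φ
  have hker : φ.ker = ⊤ := by
    refine (c.K_simple d h φ.ker).resolve_left fun e => ?_
    have := Nat.card_le_card_of_injective φ ((MonoidHom.ker_eq_bot_iff φ).1 e)
    rw [(h.card_all d c).1, d.card_TF h] at this
    omega
  have h1 : p ⟨k, hk⟩ = 1 := MonoidHom.mem_ker.1 (hker ▸ Subgroup.mem_top (⟨k, hk⟩ : K))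
  have := hp ⟨k, hk⟩
  rwa [h1, OneMemClass.coe_one, mul_one] at this

theorem Split.norm_K_iff (c : Split z Q t g K) (d : CT z Q t s g) (h : HJ z Q) {x : G}
    (hx : x ∈ Subgroup.normalizer (TF z t g : Set G)) (k : G) : x * k * x⁻¹ ∈ K ↔ k ∈ K := by
  refine ⟨fun hk => ?_, c.norm_K d h hx⟩
  have := c.norm_K d h (inv_mem hx) hk
  convert this using 1
  group

theorem Split.K_le_N (c : Split z Q t g K) (d : CT z Q t s g) (h : HJ z Q) :
    K ≤ Subgroup.normalizer (TF z t g : Set G) := c.le_cent.trans (c.L_le_N d h)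

theorem Split.exists_kernel (c : Split z Q t g K) (d : CT z Q t s g) (h : HJ z Q) :
    ∃ D : Subgroup ↥(Subgroup.normalizer (TF z t g : Set G)), Nat.card D = 12 ∧
      (∀ k : ↥(Subgroup.normalizer (TF z t g : Set G)), (k : G) ∈ K → k ∈ D → k = 1) ∧
      (∀ x : ↥(Subgroup.normalizer (TF z t g : Set G)), x ∈ D → ∀ k ∈ K, (x : G) * k = k * (x : G)) ∧
      (∀ f (hf : f ∈ TF z t g),
        (⟨f, c.L_le_N d h hf.1.2⟩ : ↥(Subgroup.normalizer (TF z t g : Set G))) ∈ D) ∧
      ∀ x : D, (∀ f ∈ TF z t g,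
        ((x : ↥(Subgroup.normalizer (TF z t g : Set G))) : G) * f =
          f * ((x : ↥(Subgroup.normalizer (TF z t g : Set G))) : G)) →
        ((x : ↥(Subgroup.normalizer (TF z t g : Set G))) : G) ∈ TF z t g := by
  classical
  haveI : Fact (Nat.Prime 2) := ⟨Nat.prime_two⟩
  haveI : Fact (Nat.Prime 3) := ⟨Nat.prime_three⟩
  set N := Subgroup.normalizer (TF z t g : Set G) with hN
  have h60 := (h.card_all d c).1
  -- the conjugates of the fours group
  let S := {W : Subgroup G // ∃ k ∈ K, W = (TV Q t).map (MulAut.conj k).toMonoidHom}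
  have hSyl : ∀ W : Subgroup G, W ≤ K → Nat.card W = 4 →
      ∃ k ∈ K, W = (TV Q t).map (MulAut.conj k).toMonoidHom := by
    intro W hW hWc
    have hfac : ∀ U : Subgroup G, U ≤ K → Nat.card U = 4 → ∃ P : Sylow 2 K, (P : Subgroup K) = U.subgroupOf K := by
      intro U hU hUc
      have hc : Nat.card (U.subgroupOf K) = 2 ^ 2 := by
        rw [Nat.card_congr (Subgroup.subgroupOfEquivOfLe hU).toEquiv, hUc]; norm_num
      refine ⟨Sylow.ofCard (U.subgroupOf K) ?_, rfl⟩
      rw [hc, h60, show 60 = 2 ^ 2 * 15 from rfl, Nat.factorization_mul (by norm_num) (by norm_num),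
        Finsupp.add_apply, Nat.Prime.factorization_pow Nat.prime_two, Finsupp.single_eq_same,
        Nat.factorization_eq_zero_of_not_dvd (by norm_num : ¬ 2 ∣ 15)]
    obtain ⟨P1, hP1⟩ := hfac W hW hWc
    obtain ⟨P0, hP0⟩ := hfac _ c.vle (d.card_TV h)
    obtain ⟨k, hk⟩ := MulAction.exists_smul_eq K P0 P1
    refine ⟨k, k.2, le_antisymm (fun w hw => ?_) ?_⟩
    · have hwP : (⟨w, hW hw⟩ : K) ∈ (P1 : Subgroup K) := by rw [hP1]; exact hw
      rw [← hk] at hwP
      obtain ⟨v, hv, hve⟩ := hwP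
      refine Subgroup.mem_map.2 ⟨(v : G), ?_, congrArg Subtype.val hve⟩
      have : v ∈ (P0 : Subgroup K) := hv
      rw [hP0] at this
      exact this
    · rintro _ ⟨v, hv, rfl⟩
      have hvP : (⟨v, c.vle hv⟩ : K) ∈ (P0 : Subgroup K) := by rw [hP0]; exact hv
      have : k * ⟨v, c.vle hv⟩ * k⁻¹ ∈ (P1 : Subgroup K) := by
        rw [← hk]; exact Subgroup.mem_map.2 ⟨_, hvP, rfl⟩
      rw [hP1] at this
      exact this
  have hact : ∀ (x : N) (W : S), ∃ k ∈ K,
      (W.1).map (MulAut.conj (x : G)).toMonoidHom = (TV Q t).map (MulAut.conj k).toMonoidHom := by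
    rintro x ⟨W, k, hk, rfl⟩
    refine hSyl _ ?_ ?_
    · rintro _ ⟨w, ⟨v, hv, rfl⟩, rfl⟩
      exact c.norm_K d h x.2 (mul_mem (mul_mem hk (c.vle hv)) (inv_mem hk))
    · rw [Nat.card_congr (Subgroup.equivMapOfInjective _ _ (MulAut.conj (x : G)).injective).toEquiv.symm,
        Nat.card_congr (Subgroup.equivMapOfInjective _ _ (MulAut.conj k).injective).toEquiv.symm, d.card_TV h]
  have hmapmul : ∀ (a b : G) (W : Subgroup G), W.map (MulAut.conj (a * b)).toMonoidHom =
      (W.map (MulAut.conj b).toMonoidHom).map (MulAut.conj a).toMonoidHom := fun a b W => by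
    rw [Subgroup.map_map]
    refine congrArg (fun f => W.map f) (MonoidHom.ext fun w => ?_)
    show a * b * w * (a * b)⁻¹ = a * (b * w * b⁻¹) * a⁻¹
    group
  have hmap1 : ∀ W : Subgroup G, W.map (MulAut.conj (1 : G)).toMonoidHom = W := fun W => by
    rw [show (MulAut.conj (1 : G)).toMonoidHom = MonoidHom.id G from MonoidHom.ext fun w => by simp,
      Subgroup.map_id]
  letI : MulAction N S :=
    { smul := fun x W => ⟨(W.1).map (MulAut.conj (x : G)).toMonoidHom, hact x W⟩
      one_smul := fun W => Subtype.ext (hmap1 W.1)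
      mul_smul := fun x y W => Subtype.ext (hmapmul x y W.1) }
  let ρ : N →* Equiv.Perm S := MulAction.toPermHom N S
  have hρ : ∀ (x : N) (W : S), ((ρ x W) : S).1 = (W.1).map (MulAut.conj (x : G)).toMonoidHom := fun x W => rfl
  have hfix : ∀ k : G, k ∈ K → (TV Q t).map (MulAut.conj k).toMonoidHom = TV Q t → k ∈ TN Q t K := by
    intro k hk e
    refine ⟨hk, Subgroup.mem_normalizer_iff.2 fun v => ⟨fun hv => ?_, fun hv => ?_⟩⟩
    · exact e.le (Subgroup.mem_map.2 ⟨v, hv, rfl⟩)
    · rw [← e] at hv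
      obtain ⟨v', hv', e'⟩ := hv
      rwa [show v = v' from (MulAut.conj k).injective e'.symm]
  -- the number of conjugates
  have hle : TN Q t K ≤ K := inf_le_left
  set N' := (TN Q t K).subgroupOf K with hN'
  have hidx : Nat.card (K ⧸ N') = 5 := by
    have := Subgroup.card_eq_card_quotient_mul_card_subgroup N'
    rw [h60, Nat.card_congr (Subgroup.subgroupOfEquivOfLe hle).toEquiv, c.card_TN d h] at this
    omega
  have hS5 : Nat.card S = 5 := by
    rw [← hidx]
    refine (Nat.card_congr (Equiv.ofBijective (Quotient.lift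
      (fun k : K => (⟨(TV Q t).map (MulAut.conj (k : G)).toMonoidHom, k, k.2, rfl⟩ : S)) ?_) ⟨?_, ?_⟩)).symm
    · intro a b hab
      have hab' := QuotientGroup.leftRel_apply.1 hab
      refine Subtype.ext ?_
      show (TV Q t).map _ = (TV Q t).map _
      have hmem : (a : G)⁻¹ * b ∈ TN Q t K := by
        have := hab'
        rw [hN', Subgroup.mem_subgroupOf] at this
        simpa using this
      have hV : (TV Q t).map (MulAut.conj ((a : G)⁻¹ * b)).toMonoidHom = TV Q t := by
        refine le_antisymm ?_ fun v hv => ?_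
        · rintro _ ⟨v, hv, rfl⟩
          exact (Subgroup.mem_normalizer_iff.1 hmem.2 v).1 hv
        · refine Subgroup.mem_map.2 ⟨((a : G)⁻¹ * b)⁻¹ * v * ((a : G)⁻¹ * b), ?_, ?_⟩
          · exact (Subgroup.mem_normalizer_iff''.1 hmem.2 v).1 hv
          · show (a : G)⁻¹ * b * (((a : G)⁻¹ * b)⁻¹ * v * ((a : G)⁻¹ * b)) * ((a : G)⁻¹ * b)⁻¹ = v
            group
      conv_rhs => rw [show (b : G) = (a : G) * ((a : G)⁻¹ * b) by group, hmapmul, hV]
    · intro q1 q2
      induction q1 using QuotientGroup.induction_on with | _ a => ?_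
      induction q2 using QuotientGroup.induction_on with | _ b => ?_
      intro e
      have e' : (TV Q t).map (MulAut.conj (a : G)).toMonoidHom = (TV Q t).map (MulAut.conj (b : G)).toMonoidHom :=
        congrArg Subtype.val e
      rw [QuotientGroup.eq, hN', Subgroup.mem_subgroupOf]
      have := hfix ((a : G)⁻¹ * b) (mul_mem (inv_mem a.2) b.2) (by
        rw [hmapmul, ← e', ← hmapmul, inv_mul_cancel, hmap1])
      simpa using this
    · rintro ⟨W, k, hk, rfl⟩
      exact ⟨QuotientGroup.mk ⟨k, hk⟩, rfl⟩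
  haveI : Fintype S := Fintype.ofFinite _
  -- the kernel of the action
  set D := ρ.ker with hD
  have hKD : ∀ k : N, (k : G) ∈ K → k ∈ D → k = 1 := by
    intro k hk hkD
    obtain ⟨x, hx, hxN⟩ := c.exists_notMem_TN d h h60
    refine Subtype.ext (c.core d h hx hxN (a := (k : G)) ?_ fun y hy => ?_)
    · refine hfix _ hk ?_
      have := congrArg Subtype.val (Equiv.ext_iff.1 (MonoidHom.mem_ker.1 hkD) ⟨TV Q t, 1, one_mem K, (hmap1 _).symm⟩)
      exact this
    · refine hfix _ (mul_mem (mul_mem (inv_mem hy) hk) hy) ?_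
      have := congrArg Subtype.val (Equiv.ext_iff.1 (MonoidHom.mem_ker.1 hkD) ⟨_, y, hy, rfl⟩)
      rw [hρ] at this
      rw [show y⁻¹ * (k : G) * y = y⁻¹ * ((k : G) * y) by group, hmapmul, hmapmul, this]
      show ((TV Q t).map (MulAut.conj y).toMonoidHom).map (MulAut.conj y⁻¹).toMonoidHom = _
      rw [← hmapmul, inv_mul_cancel, hmap1]
  have hDn : D.Normal := MonoidHom.normal_ker ρ
  have hcommK : ∀ x : N, x ∈ D → ∀ k ∈ K, (x : G) * k = k * (x : G) := by
    intro x hx k hk
    have hm : x * ⟨k, c.K_le_N d h hk⟩ * x⁻¹ * (⟨k, c.K_le_N d h hk⟩ : N)⁻¹ = 1 := by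
      refine hKD _ (mul_mem (c.norm_K d h x.2 hk) (inv_mem hk)) ?_
      have h1 := hDn.conj_mem _ (inv_mem hx) (⟨k, c.K_le_N d h hk⟩ : N)
      have := mul_mem hx h1
      convert this using 1
      group
    have e : (x : G) * k * (x : G)⁻¹ * k⁻¹ = 1 := congrArg Subtype.val hm
    exact mul_inv_eq_iff_eq_mul.1 (mul_inv_eq_one.1 e)
  have hFD : ∀ f (hf : f ∈ TF z t g), (⟨f, c.L_le_N d h hf.1.2⟩ : N) ∈ D := by
    intro f hf
    refine MonoidHom.mem_ker.2 (Equiv.ext ?_)
    rintro ⟨W, k, hk, rfl⟩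
    refine Subtype.ext ?_
    show ((TV Q t).map (MulAut.conj k).toMonoidHom).map (MulAut.conj f).toMonoidHom = (TV Q t).map (MulAut.conj k).toMonoidHom
    rw [← hmapmul]
    have hkf : ∀ v : TV Q t, f * k * (v : G) * (f * k)⁻¹ = k * (v : G) * k⁻¹ := fun v => by
      calc f * k * (v : G) * (f * k)⁻¹ = f * (k * (v : G) * k⁻¹) * f⁻¹ := by group
        _ = _ := by rw [c.F_cent d h hf (mul_mem (mul_mem hk (c.vle v.2)) (inv_mem hk)), mul_inv_cancel_right]
    refine le_antisymm ?_ ?_
    · rintro _ ⟨v, hv, rfl⟩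
      exact Subgroup.mem_map.2 ⟨v, hv, (hkf ⟨v, hv⟩).symm⟩
    · rintro _ ⟨v, hv, rfl⟩
      exact Subgroup.mem_map.2 ⟨v, hv, hkf ⟨v, hv⟩⟩
  -- the image
  let F' := (TF z t g).subgroupOf N
  have hF'le : F' ≤ D := fun x hx => hFD x hx
  have hF'card : Nat.card F' = 4 := by
    rw [Nat.card_congr (Subgroup.subgroupOfEquivOfLe (show TF z t g ≤ N from Subgroup.le_normalizer)).toEquiv,
      d.card_TF h]
  have hrange : Nat.card ρ.range ∣ 120 ∧ 60 ∣ Nat.card ρ.range := by
    constructor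
    · have := Subgroup.card_subgroup_dvd_card ρ.range
      rwa [Nat.card_perm, hS5] at this
    · let j : K →* ρ.range := ρ.rangeRestrict.comp (Subgroup.inclusion (c.K_le_N d h))
      have hj : Function.Injective j := by
        refine (injective_iff_map_eq_one j).2 fun k hk => Subtype.ext ?_
        have hk' : (Subgroup.inclusion (c.K_le_N d h) k : N) ∈ D := MonoidHom.mem_ker.2 (congrArg Subtype.val hk)
        exact congrArg (fun x : N => (x : G)) (hKD _ k.2 hk')
      rw [← h60]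
      exact Subgroup.card_dvd_of_injective j hj
  have hmul := Subgroup.card_eq_card_quotient_mul_card_subgroup D
  rw [Nat.card_congr (QuotientGroup.quotientKerEquivRange ρ).toEquiv, c.card_N d h] at hmul
  have hD12 : Nat.card D = 12 := by
    have h4 : 4 ∣ Nat.card D := hF'card ▸ Subgroup.card_dvd_of_le hF'le
    obtain ⟨u, hu⟩ := hrange.2
    have hu2 : u = 1 ∨ u = 2 := by
      obtain ⟨w, hw⟩ := hrange.1
      have : u ∣ 2 := ⟨w, by rw [hu] at hw; linarith⟩
      exact (Nat.dvd_prime Nat.prime_two).1 this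
    rcases hu2 with e | e <;> rw [e] at hu <;> rw [hu] at hmul <;> omega
  -- the fours group is self-centralising in the kernel
  have hDF : ∀ x : D, (∀ f ∈ TF z t g, ((x : N) : G) * f = f * ((x : N) : G)) → ((x : N) : G) ∈ TF z t g := by
    intro x hx
    have hxt := hx t d.t_mem_F
    obtain ⟨f, hf, k, hk, e⟩ := c.L_eq d hxt
    have hkD : (⟨k, c.K_le_N d h hk⟩ : N) ∈ D := by
      have := mul_mem x.2 (hFD f hf)
      convert this using 1
      refine Subtype.ext ?_
      show k = ((x : N) : G) * f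
      rw [e, mul_assoc, d.E_sq hf.1, mul_one]
    rw [e, show k = 1 from congrArg Subtype.val (hKD ⟨k, _⟩ hk hkD), one_mul]
    exact hf
  exact ⟨D, hD12, hKD, hcommK, hFD, hDF⟩

theorem Split.ex_equiv (c : Split z Q t g K) (d : CT z Q t s g) (h : HJ z Q) :
    Nonempty (↥(Subgroup.normalizer (TF z t g : Set G)) ≃* alternatingGroup (Fin 4) × alternatingGroup (Fin 5)) := by
  classical
  haveI : Fact (Nat.Prime 3) := ⟨Nat.prime_three⟩
  set N := Subgroup.normalizer (TF z t g : Set G) with hN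
  have h60 := (h.card_all d c).1
  obtain ⟨e5⟩ := c.alt_five d h h60
  obtain ⟨D, hD12, hKD, hcommK, hFD, hDF⟩ := c.exists_kernel d h
  obtain ⟨r, hr⟩ := exists_prime_orderOf_dvd_card' (G := D) 3 (by rw [hD12]; norm_num)
  set R := Subgroup.zpowers r with hR
  have hRc : Nat.card R = 3 := by rw [hR, Nat.card_zpowers, hr]
  have hRi : R.index = 4 := by
    have := R.card_mul_index
    rw [hRc, hD12] at this
    omega
  let er : D ⧸ R ≃ Fin 4 := Finite.equivFinOfCardEq (by rw [← Subgroup.index_eq_card]; exact hRi)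
  let f4 : D →* Equiv.Perm (Fin 4) := er.permCongrHom.toMonoidHom.comp (MulAction.toPermHom D (D ⧸ R))
  have hf4 : Function.Injective f4 := by
    refine er.permCongrHom.injective.comp ?_
    rw [← MonoidHom.ker_eq_bot_iff, ← Subgroup.normalCore_eq_ker]
    by_contra hne
    have hle' := Subgroup.normalCore_le R
    have heq : R.normalCore = R := by
      refine Subgroup.eq_of_le_of_card_ge hle' ?_
      have h1 := Subgroup.card_dvd_of_le hle'
      rw [hR, Nat.card_zpowers, hr] at h1 ⊢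
      rcases (Nat.dvd_prime Nat.prime_three).1 h1 with e | e
      · exact absurd (Subgroup.card_eq_one.1 e) hne
      · exact e.ge
    have hRn : R.Normal := heq ▸ Subgroup.normalCore_normal R
    have hcent : ∀ f ∈ TF z t g, (((r : D) : N) : G) * f = f * (((r : D) : N) : G) := by
      intro f hf
      set fD : D := ⟨⟨f, c.L_le_N d h hf.1.2⟩, hFD f hf⟩
      have hm : r * fD * r⁻¹ * fD⁻¹ ∈ R := by
        have h1 : r ∈ R := Subgroup.mem_zpowers r
        have := mul_mem h1 (hRn.conj_mem _ (inv_mem h1) fD)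
        convert this using 1
        group
      have hmF : (((r * fD * r⁻¹ * fD⁻¹ : D) : N) : G) ∈ TF z t g :=
        mul_mem ((Subgroup.mem_normalizer_iff.1 (r : N).2 f).1 hf) (inv_mem hf)
      have h3 : (r * fD * r⁻¹ * fD⁻¹) ^ 3 = 1 := by
        have := pow_card_eq_one' (x := (⟨_, hm⟩ : R))
        rw [hRc] at this
        exact congrArg Subtype.val this
      have h2 : (r * fD * r⁻¹ * fD⁻¹) * (r * fD * r⁻¹ * fD⁻¹) = 1 :=
        Subtype.ext (Subtype.ext (d.E_sq hmF.1))
      have h1 : r * fD * r⁻¹ * fD⁻¹ = 1 := by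
        rwa [pow_succ, pow_two, h2, one_mul] at h3
      have e : r * fD = fD * r := mul_inv_eq_iff_eq_mul.1 (mul_inv_eq_one.1 h1)
      exact congrArg (fun a : D => ((a : N) : G)) e
    have hrF := hDF r hcent
    have h2 : r ^ 2 = 1 := by
      rw [pow_two]; exact Subtype.ext (Subtype.ext (d.E_sq hrF.1))
    have := orderOf_dvd_iff_pow_eq_one.2 h2
    rw [hr] at this
    norm_num at this
  have hrange4 : f4.range = alternatingGroup (Fin 4) := by
    refine Equiv.Perm.eq_alternatingGroup_of_index_eq_two ?_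
    have hi := f4.range.card_mul_index
    rw [← Nat.card_congr (MonoidHom.ofInjective hf4).toEquiv, hD12, Nat.card_perm, Nat.card_fin,
      show Nat.factorial 4 = 24 from rfl] at hi
    omega
  let eD : D ≃* alternatingGroup (Fin 4) :=
    (MonoidHom.ofInjective hf4).trans (MulEquiv.subgroupCongr hrange4)
  let m : D × K →* N := MonoidHom.mk' (fun p => (p.1 : N) * ⟨(p.2 : G), c.K_le_N d h p.2.2⟩) fun p q => by
    refine Subtype.ext ?_
    show ((p.1 : N) : G) * ((q.1 : N) : G) * ((p.2 : G) * (q.2 : G)) =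
      ((p.1 : N) : G) * (p.2 : G) * (((q.1 : N) : G) * (q.2 : G))
    calc ((p.1 : N) : G) * ((q.1 : N) : G) * ((p.2 : G) * (q.2 : G))
        = ((p.1 : N) : G) * (((q.1 : N) : G) * (p.2 : G)) * (q.2 : G) := by group
      _ = _ := by rw [hcommK _ q.1.2 _ p.2.2]; group
  have hm : Function.Injective m := by
    refine (injective_iff_map_eq_one m).2 fun p hp => ?_
    have hp' : (p.1 : N) * ⟨(p.2 : G), c.K_le_N d h p.2.2⟩ = 1 := hp
    have hk : (⟨(p.2 : G), c.K_le_N d h p.2.2⟩ : N) ∈ D := by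
      rw [← inv_mul_cancel_left (p.1 : N) ⟨(p.2 : G), c.K_le_N d h p.2.2⟩, hp', mul_one]
      exact inv_mem p.1.2
    have hk1 := hKD _ p.2.2 hk
    rw [hk1, mul_one] at hp'
    exact Prod.ext (Subtype.ext hp') (Subtype.ext (congrArg (fun x : N => (x : G)) hk1))
  exact ⟨(MulEquiv.ofBijective m ((Nat.bijective_iff_injective_and_card m).2
    ⟨hm, by rw [Nat.card_prod, hD12, h60, c.card_N d h]⟩)).symm.trans (MulEquiv.prodCongr eD e5)⟩

theorem Split.pCore_L (c : Split z Q t g K) (d : CT z Q t s g) (h : HJ z Q) :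
    (Cfsg.pCore 2 ↥(Subgroup.centralizer ({t} : Set G))).map
      (Subgroup.centralizer ({t} : Set G)).subtype = TF z t g := by
  haveI : Fact (Nat.Prime 2) := ⟨Nat.prime_two⟩
  set L := Subgroup.centralizer ({t} : Set G) with hL
  refine le_antisymm ?_ ?_
  · rw [Subgroup.map_le_iff_le_comap, Cfsg.pCore]
    refine sSup_le ?_
    rintro P ⟨hPn, hPp⟩ x hx
    rw [Subgroup.mem_comap]
    obtain ⟨f, hf, k, hk, e⟩ := c.L_eq d (mem_C.1 x.2)
    set M := P.comap (Subgroup.inclusion c.le_cent) with hM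
    have hMn : M.Normal := hPn.comap _
    have hMbot : M = ⊥ := by
      refine (c.K_simple d h M).resolve_right fun htop => ?_
      have hp : IsPGroup 2 M := hPp.comap_of_injective _ (Subgroup.inclusion_injective _)
      rw [htop] at hp
      obtain ⟨n, hn⟩ := IsPGroup.iff_card.1 hp
      rw [Subgroup.card_top, (h.card_all d c).1] at hn
      have : 3 ∣ 2 ^ n := hn ▸ (by norm_num : 3 ∣ 60)
      exact absurd (Nat.prime_three.dvd_of_dvd_pow this) (by norm_num)
    have hk1 : k = 1 := by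
      have hcomm : ∀ y ∈ K, k * y = y * k := by
        intro y hy
        set yL : L := ⟨y, c.le_cent hy⟩
        have hmem : x * yL * x⁻¹ * yL⁻¹ ∈ P := by
          have := mul_mem hx (hPn.conj_mem _ (inv_mem hx) yL)
          convert this using 1
          group
        have hK' : (x : G) * y * (x : G)⁻¹ * y⁻¹ ∈ K := mul_mem (c.normal _ (mem_C.1 x.2) y hy) (inv_mem hy)
        have hin : (⟨_, hK'⟩ : K) ∈ M := by
          rw [hM, Subgroup.mem_comap]; exact hmem
        rw [hMbot, Subgroup.mem_bot] at hin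
        have e1 : (x : G) * y * (x : G)⁻¹ * y⁻¹ = 1 := congrArg Subtype.val hin
        have e2 : (x : G) * y = y * (x : G) := mul_inv_eq_iff_eq_mul.1 (mul_inv_eq_one.1 e1)
        rw [e] at e2
        calc k * y = k * y * (f * f) := by rw [d.E_sq hf.1, mul_one]
          _ = k * (y * f) * f := by group
          _ = (k * f * y) * f := by rw [c.F_central d h hf (c.le y hy)]; group
          _ = y * k * (f * f) := by rw [e2]; group
          _ = y * k := by rw [d.E_sq hf.1, mul_one]
      exact c.K_central d h hk (hcomm z (z_mem_K c d h)) (hcomm g c.g_mem)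
    show (x : G) ∈ TF z t g
    rw [e, hk1, one_mul]
    exact hf
  · intro f hf
    refine Subgroup.mem_map.2 ⟨⟨f, hf.1.2⟩, ?_, rfl⟩
    refine le_sSup (show (TF z t g).subgroupOf L ∈ {N : Subgroup L | N.Normal ∧ IsPGroup 2 N} from ⟨⟨?_⟩, ?_⟩) hf
    · intro a ha b
      rw [Subgroup.mem_subgroupOf] at ha ⊢
      push_cast
      rw [c.F_central d h ha (mem_C.1 b.2), mul_inv_cancel_right]
      exact ha
    · refine IsPGroup.of_card (n := 2) ?_
      rw [Nat.card_congr (Subgroup.subgroupOfEquivOfLe TF_le_L).toEquiv, d.card_TF h]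
      norm_num

theorem Split.F_equiv (d : CT z Q t s g) (h : HJ z Q) :
    Nonempty (↥(TF z t g) ≃* Multiplicative (ZMod 2) × Multiplicative (ZMod 2)) := by
  classical
  have h4 := d.card_TF h
  haveI : IsKleinFour ↥(TF z t g) := by
    refine ⟨h4, ?_⟩
    refine (Nat.dvd_prime Nat.prime_two).1 (Monoid.exponent_dvd_of_forall_pow_eq_one fun x => ?_)
      |>.resolve_left fun e => ?_
    · rw [pow_two]; exact Subtype.ext (d.E_sq x.2.1)
    · haveI := Monoid.exp_eq_one_iff.1 e
      rw [Nat.card_unique] at h4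
      norm_num at h4
  haveI : IsKleinFour (Multiplicative (ZMod 2) × Multiplicative (ZMod 2)) := by
    refine ⟨by simp [Nat.card_prod], ?_⟩
    refine (Nat.dvd_prime Nat.prime_two).1 (Monoid.exponent_dvd_of_forall_pow_eq_one fun x => ?_)
      |>.resolve_left fun e => ?_
    · revert x; decide
    · haveI := Monoid.exp_eq_one_iff.1 e
      exact absurd (Subsingleton.elim (Multiplicative.ofAdd (1 : ZMod 2), Multiplicative.ofAdd (0 : ZMod 2)) 1)
        (by decide)
  exact IsKleinFour.nonempty_mulEquiv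

end CT

end Cfsg.Agent.HallJanko
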