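import Cfsg.Agent.HallJanko.Klein
import Cfsg.Agent.Fusion.TransferTools
import Cfsg.Agent.Fg24.InvolD8.KleinOrder

/-!
The centraliser of an outer involution: a fours group times a group of order 12 or 60.
-/

set_option autoImplicit false

namespace Cfsg.Agent.HallJanko

variable {G : Type*} [Group G] {z : G} {Q : Subgroup G} {t s g : G}

/-- The Sylow 2-subgroup of `C(t)`. -/
def TE (z t : G) : Subgroup G :=
  Subgroup.centralizer ({z} : Set G) ⊓ Subgroup.centralizer ({t} : Set G)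

theorem mem_TE {x : G} : x ∈ TE z t ↔ x * z = z * x ∧ x * t = t * x :=
  ⟨fun hx => ⟨mem_C.1 hx.1, mem_C.1 hx.2⟩, fun hx => ⟨mem_C.2 hx.1, mem_C.2 hx.2⟩⟩

/-- The fixed points of `g` on the Sylow 2-subgroup. -/
def TF (z t g : G) : Subgroup G := TE z t ⊓ Subgroup.centralizer ({g} : Set G)

/-- The fours group `⟨z, s⟩`. -/
def TV (Q : Subgroup G) (t : G) : Subgroup G := Q ⊓ Subgroup.centralizer ({t} : Set G)

namespace CT

theorem E_sq (d : CT z Q t s g) {x : G} (hx : x ∈ TE z t) : x * x = 1 :=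
  d.sq x (mem_TE.1 hx).1 (mem_TE.1 hx).2

theorem E_inv (d : CT z Q t s g) {x : G} (hx : x ∈ TE z t) : x⁻¹ = x :=
  inv_eq_of_mul_eq_one_right (d.E_sq hx)

theorem E_comm (d : CT z Q t s g) {x y : G} (hx : x ∈ TE z t) (hy : y ∈ TE z t) : x * y = y * x :=
  d.comm x y (mem_TE.1 hx).1 (mem_TE.1 hx).2 (mem_TE.1 hy).1 (mem_TE.1 hy).2

theorem g_conj_zs (d : CT z Q t s g) (h : HJ z Q) : g * (z * s) * g⁻¹ = s := by
  calc g * (z * s) * g⁻¹ = (g * z * g⁻¹) * (g * s * g⁻¹) := by group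
    _ = z * (s * z) := by rw [d.gz, d.gs, mul_assoc]
    _ = s := by rw [d.sz, ← mul_assoc, h.zsq, one_mul]

theorem v_facts (d : CT z Q t s g) (h : HJ z Q) {v : G} (hv : IsV z s v) :
    v ∈ Q ∧ v ∈ TE z t ∧ orderOf v = 2 ∧ IsConj z v := by
  have htz : t * z = z * t := d.outer.comm
  have hzs : z * s ≠ 1 := fun e => d.sne (by
    calc s = z * z * s := by rw [h.zsq, one_mul]
      _ = z := by rw [mul_assoc, e, mul_one])
  rcases hv with rfl | rfl | rfl
  · exact ⟨h.zmem, mem_TE.2 ⟨rfl, htz.symm⟩, h.hz, IsConj.refl _⟩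
  · have hQ := d.sQ
    exact ⟨hQ, mem_TE.2 ⟨d.sz, d.st⟩, d.sord, (d.vchar v d.sz d.st d.sord).2 (Or.inr (Or.inl rfl))⟩
  · have hE : z * s ∈ TE z t := mul_mem (mem_TE.2 ⟨rfl, htz.symm⟩) (mem_TE.2 ⟨d.sz, d.st⟩)
    have ho : orderOf (z * s) = 2 := Invol.orderOf_eq_two_iff.2 ⟨hzs, d.E_sq hE⟩
    exact ⟨mul_mem h.zmem d.sQ, hE, ho,
      (d.vchar _ (mem_TE.1 hE).1 (mem_TE.1 hE).2 ho).2 (Or.inr (Or.inr rfl))⟩

theorem z_mem_E (d : CT z Q t s g) : z ∈ TE z t := mem_TE.2 ⟨rfl, d.outer.comm.symm⟩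

theorem mem_TV (d : CT z Q t s g) (h : HJ z Q) {x : G} : x ∈ TV Q t ↔ x = 1 ∨ IsV z s x := by
  constructor
  · intro hx
    exact d.vQ x hx.1 (mem_C.1 hx.2)
  · rintro (rfl | hv)
    · exact one_mem _
    · exact ⟨(d.v_facts h hv).1, (d.v_facts h hv).2.1.2⟩

theorem TV_le (d : CT z Q t s g) (h : HJ z Q) : TV Q t ≤ TE z t := fun x hx => by
  rcases (d.mem_TV h).1 hx with rfl | hv
  · exact one_mem _
  · exact (d.v_facts h hv).2.1

theorem card_TV (d : CT z Q t s g) (h : HJ z Q) : Nat.card (TV Q t) = 4 := by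
  classical
  have hset : ((TV Q t : Subgroup G) : Set G) = ↑({1, z, s, z * s} : Finset G) := by
    ext x
    simp [d.mem_TV h, IsV]
  rw [show Nat.card (TV Q t) = Nat.card ((TV Q t : Subgroup G) : Set G) from rfl, hset, Nat.card_coe_set_eq,
    Set.ncard_coe_finset]
  have h1 : (1 : G) ≠ z := h.zne.symm
  have h2 : (1 : G) ≠ s := (Invol.ne_one d.sord).symm
  have h3 : (1 : G) ≠ z * s := (Invol.ne_one (d.v_facts h (Or.inr (Or.inr rfl))).2.2.1).symm
  have h4 : z ≠ s := d.sne.symm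
  have h5 : z ≠ z * s := fun e => Invol.ne_one d.sord (mul_eq_left.1 e.symm)
  have h6 : s ≠ z * s := fun e => h.zne (right_eq_mul.1 e)
  simp [h1, h2, h3, h4, h5, h6]

theorem g_conj_V (d : CT z Q t s g) (h : HJ z Q) {v : G} (hv : IsV z s v) :
    IsV z s (g * v * g⁻¹) ∧ g * v * g⁻¹ ≠ v := by
  rcases hv with rfl | rfl | rfl
  · rw [d.gz]
    exact ⟨Or.inr (Or.inr rfl), fun e => Invol.ne_one d.sord (mul_eq_left.1 e)⟩
  · rw [d.gs]
    exact ⟨Or.inl rfl, fun e => d.sne e.symm⟩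
  · rw [d.g_conj_zs h]
    exact ⟨Or.inr (Or.inl rfl), fun e => h.zne (right_eq_mul.1 e)⟩

theorem cent_v [Finite G] (d : CT z Q t s g) (h : HJ z Q) {v x : G} (hv : IsV z s v)
    (hxt : x * t = t * x) (hxv : x * v = v * x) : x ∈ TE z t := by
  obtain ⟨-, hvE, -, hvz⟩ := d.v_facts h hv
  have hvt : v * t = t * v := (mem_TE.1 hvE).2
  have hc := h.card_pair hvz d.outer.ord (h.outer_not_conj d.outer) hvt
  have hle : TE z t ≤ Subgroup.centralizer ({v} : Set G) ⊓ Subgroup.centralizer ({t} : Set G) :=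
    fun y hy => ⟨mem_C.2 (d.E_comm hy hvE), hy.2⟩
  rw [Subgroup.eq_of_le_of_card_ge hle (by rw [hc]; exact d.card.ge)]
  exact ⟨mem_C.2 hxv, mem_C.2 hxt⟩

theorem g_norm [Finite G] (d : CT z Q t s g) (h : HJ z Q) {x : G} (hx : x ∈ TE z t) :
    g * x * g⁻¹ ∈ TE z t := by
  obtain ⟨hxz, hxt⟩ := mem_TE.1 hx
  refine d.cent_v h (v := z * s) (Or.inr (Or.inr rfl))
    (((show Commute g t from d.gt).mul_left hxt).mul_left (show Commute g t from d.gt).inv_left).eq ?_
  rw [← d.gz]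
  calc g * x * g⁻¹ * (g * z * g⁻¹) = g * (x * z) * g⁻¹ := by group
    _ = g * (z * x) * g⁻¹ := by rw [hxz]
    _ = _ := by group

theorem g_ne (d : CT z Q t s g) : g ≠ 1 := fun e => Invol.ne_one d.sord (by
  have := d.gz
  rw [e, one_mul, inv_one, mul_one] at this
  exact mul_eq_left.1 this.symm)

theorem g_order (d : CT z Q t s g) : orderOf g = 3 := orderOf_eq_prime d.g3 d.g_ne

theorem t_mem_F (d : CT z Q t s g) : t ∈ TF z t g :=
  ⟨mem_TE.2 ⟨d.outer.comm, rfl⟩, mem_C.2 d.gt.symm⟩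

theorem F_inf_V (d : CT z Q t s g) (h : HJ z Q) {x : G} (hx : x ∈ TF z t g) (hxV : x ∈ TV Q t) :
    x = 1 := by
  refine ((d.mem_TV h).1 hxV).resolve_right fun hv => (d.g_conj_V h hv).2 ?_
  rw [← mem_C.1 hx.2, mul_inv_cancel_right]

theorem card_TF [Finite G] (d : CT z Q t s g) (h : HJ z Q) : Nat.card (TF z t g) = 4 := by
  classical
  haveI : Fintype (TE z t) := Fintype.ofFinite _
  haveI : Fact (Nat.Prime 3) := ⟨Nat.prime_three⟩
  have hginv : ∀ x ∈ TE z t, g⁻¹ * x * g ∈ TE z t := fun x hx => by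
    have e : g⁻¹ = g * g := inv_eq_of_mul_eq_one_right (by rw [← pow_three]; exact d.g3)
    have := d.g_norm h (d.g_norm h hx)
    have e' : g * (g * x * g⁻¹) * g⁻¹ = g⁻¹ * x * g := by
      calc g * (g * x * g⁻¹) * g⁻¹ = (g * g) * x * (g * g)⁻¹ := by group
        _ = _ := by rw [← e, inv_inv]
    rwa [e'] at this
  let σ : Equiv.Perm (TE z t) :=
    { toFun := fun x => ⟨g * x * g⁻¹, d.g_norm h x.2⟩
      invFun := fun x => ⟨g⁻¹ * x * g, hginv x x.2⟩
      left_inv := fun x => Subtype.ext (by group)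
      right_inv := fun x => Subtype.ext (by group) }
  have hσ : σ ^ 3 ^ 1 = 1 := by
    refine Equiv.ext fun x => Subtype.ext ?_
    rw [pow_one, pow_three, Equiv.Perm.mul_apply, Equiv.Perm.mul_apply]
    show g * (g * (g * (x : G) * g⁻¹) * g⁻¹) * g⁻¹ = x
    calc g * (g * (g * (x : G) * g⁻¹) * g⁻¹) * g⁻¹ = g ^ 3 * x * (g ^ 3)⁻¹ := by rw [pow_three]; group
      _ = x := by rw [d.g3]; group
  have hfix : σ.supportᶜ.card = Nat.card (TF z t g) := by
    rw [← Nat.card_eq_finsetCard]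
    refine Nat.card_congr
      { toFun := fun x => ⟨(x.1 : G), x.1.2, mem_C.2 (by
          have := x.2
          rw [Finset.mem_compl, Equiv.Perm.notMem_support] at this
          exact ((mul_inv_eq_iff_eq_mul).1 (congrArg Subtype.val this)).symm)⟩
        invFun := fun x => ⟨⟨x.1, x.2.1⟩, by
          rw [Finset.mem_compl, Equiv.Perm.notMem_support]
          exact Subtype.ext (mul_inv_eq_iff_eq_mul.2 (mem_C.1 x.2.2).symm)⟩
        left_inv := fun x => rfl
        right_inv := fun x => rfl }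
  have hmod := Equiv.Perm.card_compl_support_modEq (p := 3) hσ
  rw [hfix, ← Nat.card_eq_fintype_card] at hmod
  rw [show Nat.card (TE z t) = 16 from d.card] at hmod
  have hdvd : Nat.card (TF z t g) ∣ 16 := by
    have := Subgroup.card_dvd_of_le (inf_le_left : TF z t g ≤ TE z t)
    rwa [show Nat.card (TE z t) = 16 from d.card] at this
  have h2 : 2 ≤ Nat.card (TF z t g) := by
    by_contra hlt
    have := Subgroup.card_eq_one.1 (show Nat.card (TF z t g) = 1 by
      have := Nat.card_pos (α := TF z t g); omega)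
    exact Invol.ne_one d.outer.ord (Subgroup.mem_bot.1 (this ▸ d.t_mem_F))
  have h16 : Nat.card (TF z t g) ≠ 16 := by
    intro e
    have hEF : TF z t g = TE z t := Subgroup.eq_of_le_of_card_ge inf_le_left (by rw [e]; exact d.card.le)
    have hzF : z ∈ TF z t g := hEF.symm ▸ d.z_mem_E
    exact h.zne (d.F_inf_V h hzF ((d.mem_TV h).2 (Or.inr (Or.inl rfl))))
  obtain ⟨k, hk, hkF⟩ := (Nat.dvd_prime_pow Nat.prime_two (m := 4)).1 hdvd
  rw [hkF, Nat.ModEq] at hmod
  rw [hkF] at h2 h16 ⊢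
  interval_cases k <;> simp_all

/-- The projection of the Sylow 2-subgroup onto the fixed points of `g`. -/
theorem exists_proj [Finite G] (d : CT z Q t s g) (h : HJ z Q) :
    ∃ p : TE z t →* TF z t g,
      (∀ x, (p x : G) * (x : G) ∈ TV Q t) ∧ (∀ (x : TE z t), (x : G) ∈ TF z t g → (p x : G) = x) ∧
      (∀ (x : TE z t), p x = 1 ↔ (x : G) ∈ TV Q t) := by
  have hP : ∀ x ∈ TE z t, g * x * g⁻¹ * (g * (g * x * g⁻¹) * g⁻¹) * x ∈ TF z t g := by
    intro x hx
    have h1 := d.g_norm h hx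
    have h2 := d.g_norm h h1
    refine ⟨mul_mem (mul_mem h1 h2) hx, mem_C.2 (mul_inv_eq_iff_eq_mul.1 ?_).symm⟩
    have h3 : g * (g * (g * x * g⁻¹) * g⁻¹) * g⁻¹ = x := by
      calc g * (g * (g * x * g⁻¹) * g⁻¹) * g⁻¹ = g ^ 3 * x * (g ^ 3)⁻¹ := by rw [pow_three]; group
        _ = x := by rw [d.g3]; group
    calc g * (g * x * g⁻¹ * (g * (g * x * g⁻¹) * g⁻¹) * x) * g⁻¹
        = (g * (g * x * g⁻¹) * g⁻¹) * (g * (g * (g * x * g⁻¹) * g⁻¹) * g⁻¹) * (g * x * g⁻¹) := by group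
      _ = _ := by rw [h3, d.E_comm (mul_mem h2 hx) h1, ← mul_assoc]
  let p : TE z t →* TF z t g :=
    MonoidHom.mk' (fun x => ⟨_, hP x x.2⟩) fun x y => Subtype.ext (by
      show g * ((x : G) * y) * g⁻¹ * (g * (g * ((x : G) * y) * g⁻¹) * g⁻¹) * ((x : G) * y) = _
      have a1 := d.g_norm h x.2
      have a2 := d.g_norm h a1
      have b1 := d.g_norm h y.2
      have b2 := d.g_norm h b1
      calc g * ((x : G) * y) * g⁻¹ * (g * (g * ((x : G) * y) * g⁻¹) * g⁻¹) * ((x : G) * y)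
          = g * x * g⁻¹ * (g * y * g⁻¹ * (g * (g * x * g⁻¹) * g⁻¹)) *
              ((g * (g * y * g⁻¹) * g⁻¹) * x) * y := by group
        _ = g * x * g⁻¹ * (g * (g * x * g⁻¹) * g⁻¹) *
              ((g * y * g⁻¹) * x) * ((g * (g * y * g⁻¹) * g⁻¹) * y) := by
            rw [d.E_comm b1 a2, d.E_comm b2 x.2]; group
        _ = g * x * g⁻¹ * (g * (g * x * g⁻¹) * g⁻¹) * x *
              (g * y * g⁻¹ * (g * (g * y * g⁻¹) * g⁻¹) * y) := by
            rw [d.E_comm b1 x.2]; group)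
  have hpF : ∀ x : TE z t, (x : G) ∈ TF z t g → (p x : G) = x := fun x hx => by
    show g * (x : G) * g⁻¹ * (g * (g * (x : G) * g⁻¹) * g⁻¹) * (x : G) = x
    have e : g * (x : G) * g⁻¹ = x := by rw [← mem_C.1 hx.2, mul_inv_cancel_right]
    rw [e, e, d.E_sq x.2, one_mul]
  have hpV : ∀ x : TE z t, (x : G) ∈ TV Q t → p x = 1 := fun x hx => by
    refine Subtype.ext ?_
    show g * (x : G) * g⁻¹ * (g * (g * (x : G) * g⁻¹) * g⁻¹) * (x : G) = 1
    have e0 := d.gs; have e1 := d.gz; have e2 := d.g_conj_zs h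
    rcases (d.mem_TV h).1 hx with e | e | e | e <;> rw [e]
    · simp
    · rw [e1, e2]
      calc z * s * s * z = z * (s * s) * z := by group
        _ = 1 := by rw [Invol.mul_self_eq_one d.sord, mul_one, h.zsq]
    · rw [e0, e1]
      calc z * (z * s) * s = (z * z) * (s * s) := by group
        _ = 1 := by rw [Invol.mul_self_eq_one d.sord, h.zsq, one_mul]
    · rw [e2, e0, ← mul_assoc (s * z), mul_assoc s z z, h.zsq, mul_one, Invol.mul_self_eq_one d.sord]
  have hker : (TV Q t).subgroupOf (TE z t) = p.ker := by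
    refine Subgroup.eq_of_le_of_card_ge (fun x hx => hpV x hx) ?_
    have hsurj : Function.Surjective p := fun f =>
      ⟨⟨f, f.2.1⟩, Subtype.ext (hpF ⟨f, f.2.1⟩ f.2)⟩
    have hc := Subgroup.card_eq_card_quotient_mul_card_subgroup p.ker
    rw [Nat.card_congr (QuotientGroup.quotientKerEquivOfSurjective p hsurj).toEquiv, d.card_TF h,
      show Nat.card (TE z t) = 16 from d.card] at hc
    rw [Nat.card_congr (Subgroup.subgroupOfEquivOfLe (d.TV_le h)).toEquiv, d.card_TV h]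
    omega
  have hiff : ∀ x : TE z t, p x = 1 ↔ (x : G) ∈ TV Q t := fun x => by
    rw [← Subgroup.mem_subgroupOf, hker, MonoidHom.mem_ker]
  refine ⟨p, fun x => ?_, hpF, hiff⟩
  refine (hiff ⟨(p x : G) * (x : G), mul_mem (p x).2.1 x.2⟩).1 ?_
  rw [show (⟨(p x : G) * (x : G), mul_mem (p x).2.1 x.2⟩ : TE z t) = ⟨(p x : G), (p x).2.1⟩ * x from rfl,
    map_mul, show p ⟨(p x : G), (p x).2.1⟩ = p x from Subtype.ext (hpF _ (p x).2)]
  exact Subtype.ext (d.E_sq (p x).2.1)

theorem norm_cases [Finite G] (d : CT z Q t s g) (h : HJ z Q) {x : G} (hxt : x * t = t * x)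
    (hx : ∀ e ∈ TE z t, x * e * x⁻¹ ∈ TE z t) :
    x ∈ TE z t ∨ g * x ∈ TE z t ∨ g * g * x ∈ TE z t := by
  obtain ⟨hvz, hvt⟩ := mem_TE.1 (hx z d.z_mem_E)
  have hv : IsV z s (x * z * x⁻¹) :=
    (d.vchar _ hvz hvt (by rw [Invol.orderOf_conj, h.hz])).1 (isConj_iff.2 ⟨x, rfl⟩)
  have key : ∀ y : G, y * t = t * y → y * z * y⁻¹ = z → y ∈ TE z t := fun y hy e =>
    mem_TE.2 ⟨mul_inv_eq_iff_eq_mul.1 e, hy⟩
  have hgx : (g * x) * t = t * (g * x) := ((show Commute g t from d.gt).mul_left hxt).eq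
  rcases hv with e | e | e
  · exact Or.inl (key x hxt e)
  · refine Or.inr (Or.inl (key _ hgx ?_))
    rw [show g * x * z * (g * x)⁻¹ = g * (x * z * x⁻¹) * g⁻¹ by group, e, d.gs]
  · refine Or.inr (Or.inr (key _ (((show Commute g t from d.gt).mul_left d.gt).mul_left hxt).eq ?_))
    rw [show g * g * x * z * (g * g * x)⁻¹ = g * (g * (x * z * x⁻¹) * g⁻¹) * g⁻¹ by group, e,
      d.g_conj_zs h, d.gs]

/-- The kernel of the transfer. -/
structure Split (z : G) (Q : Subgroup G) (t g : G) (K : Subgroup G) : Prop where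
  le : ∀ x ∈ K, x * t = t * x
  normal : ∀ x : G, x * t = t * x → ∀ k ∈ K, x * k * x⁻¹ ∈ K
  decomp : ∀ x : G, x * t = t * x → ∃ f ∈ TF z t g, x * f ∈ K
  inf : ∀ f ∈ TF z t g, f ∈ K → f = 1
  vle : TV Q t ≤ K
  g_mem : g ∈ K
  cardL : Nat.card ↥(Subgroup.centralizer ({t} : Set G)) = 4 * Nat.card K
  cardK : ∃ m, Odd m ∧ Nat.card K = 4 * m

set_option maxHeartbeats 1000000 in
theorem exists_split [Finite G] (d : CT z Q t s g) (h : HJ z Q) :
    ∃ K : Subgroup G, Split z Q t g K := by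
  classical
  haveI : Fact (Nat.Prime 2) := ⟨Nat.prime_two⟩
  obtain ⟨p, hp1, hp2, hp3⟩ := d.exists_proj h
  set L := Subgroup.centralizer ({t} : Set G) with hL
  set E' := (TE z t).subgroupOf L with hE'
  have hEle : TE z t ≤ L := inf_le_right
  have hE'card : Nat.card E' = 16 := by
    rw [Nat.card_congr (Subgroup.subgroupOfEquivOfLe hEle).toEquiv]
    exact d.card
  have hE'p : IsPGroup 2 E' := IsPGroup.of_card (n := 4) (by rw [hE'card]; norm_num)
  obtain ⟨S, hS⟩ := hE'p.exists_le_sylow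
  have hSE : (S : Subgroup L) = E' := by
    by_contra hne
    haveI : Group.IsNilpotent (S : Subgroup L) := S.2.isNilpotent
    set E'' := E'.subgroupOf (S : Subgroup L)
    have hlt : E'' < ⊤ := lt_top_iff_ne_top.2 fun e => hne (le_antisymm (fun x hx => by
      have : (⟨x, hx⟩ : (S : Subgroup L)) ∈ E'' := e ▸ Subgroup.mem_top _
      exact this) hS)
    obtain ⟨x, hxN, hxE⟩ := SetLike.exists_of_lt (Group.normalizerCondition_of_isNilpotent E'' hlt)
    have hxt : ((x : L) : G) * t = t * ((x : L) : G) := mem_C.1 (x : L).2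
    have hnorm : ∀ e ∈ TE z t, ((x : L) : G) * e * ((x : L) : G)⁻¹ ∈ TE z t := fun e he => by
      have he' : (⟨⟨e, hEle he⟩, hS (show (⟨e, hEle he⟩ : L) ∈ E' from he)⟩ : (S : Subgroup L)) ∈ E'' := he
      exact (Subgroup.mem_normalizer_iff.1 hxN _).1 he'
    have hgL : g ∈ L := mem_C.2 d.gt
    have h2g : ∀ w : L, w ∈ (S : Subgroup L) → ((w : G) = g ∨ (w : G) = g * g) → False := by
      intro w hw hwg
      obtain ⟨k, hk⟩ := (IsPGroup.iff_orderOf.1 S.2) ⟨w, hw⟩
      have ho : orderOf (w : G) = 3 := by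
        rcases hwg with e | e <;> rw [e]
        · exact d.g_order
        · refine orderOf_eq_prime ?_ fun e2 => d.g_ne ?_
          · rw [← pow_two, ← pow_mul, show 2 * 3 = 3 * 2 from rfl, pow_mul, d.g3, one_pow]
          · calc g = g ^ 3 * (g * g)⁻¹ := by rw [pow_three]; group
              _ = 1 := by rw [d.g3, e2, inv_one, mul_one]
      rw [Subgroup.orderOf_mk, ← Subgroup.orderOf_coe, ho] at hk
      rcases k with _ | k
      · norm_num at hk
      · exact absurd (hk.symm ▸ (dvd_pow_self 2 (Nat.succ_ne_zero k)) : 2 ∣ 3) (by norm_num)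
    rcases d.norm_cases h hxt hnorm with e | e | e
    · exact hxE e
    · have hm : (⟨g * ((x : L) : G), mul_mem hgL (x : L).2⟩ : L) ∈ (S : Subgroup L) := hS e
      exact h2g _ (mul_mem hm (inv_mem x.2)) (Or.inl (by simp))
    · have hm : (⟨g * g * ((x : L) : G), mul_mem (mul_mem hgL hgL) (x : L).2⟩ : L) ∈ (S : Subgroup L) := hS e
      exact h2g _ (mul_mem hm (inv_mem x.2)) (Or.inr (by simp))
  have hodd : Odd E'.index := by
    rw [← hSE]
    exact Nat.not_even_iff_odd.1 fun he => S.not_dvd_index (even_iff_two_dvd.1 he)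
  letI : CommGroup (TF z t g) :=
    { (inferInstance : Group (TF z t g)) with
      mul_comm := fun a b => Subtype.ext (d.E_comm a.2.1 b.2.1) }
  let ψ : E' →* TF z t g := p.comp (Subgroup.subgroupOfEquivOfLe hEle).toMonoidHom
  have hψ : ∀ e : E', ψ e = p ⟨((e : L) : G), e.2⟩ := fun e => rfl
  haveI : IsMulCommutative (S : Subgroup L) := ⟨⟨fun a b => Subtype.ext (Subtype.ext
    (d.E_comm (hSE.le a.2 : (a : L) ∈ E') (hSE.le b.2 : (b : L) ∈ E')))⟩⟩
  let T : L →* TF z t g := MonoidHom.transfer ψ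
  have hT : ∀ e : E', T (e : L) = ψ e := by
    intro e
    have key : ∀ (k : ℕ) (a : L) (hk : a * (e : L) ^ k * a⁻¹ ∈ E'),
        ψ ⟨a * (e : L) ^ k * a⁻¹, hk⟩ = ψ (e ^ k) := by
      intro k a hk
      obtain ⟨n, hn, hne⟩ := S.conj_eq_normalizer_conj_of_mem ((e : L) ^ k) a⁻¹
        (hSE.ge (pow_mem e.2 k)) (by rw [inv_inv]; exact hSE.ge hk)
      rw [inv_inv] at hne
      have hnt : ((n : L) : G) * t = t * ((n : L) : G) := mem_C.1 n.2
      have hnorm : ∀ x ∈ TE z t, (n : G) * x * (n : G)⁻¹ ∈ TE z t := fun x hx => by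
        have hxS : (⟨x, hEle hx⟩ : L) ∈ (S : Subgroup L) := hSE.ge hx
        exact hSE.le ((Subgroup.mem_normalizer_iff.1 hn _).1 hxS)
      have hinvar : ∀ (x : TE z t) (hx : (n : G) * x * (n : G)⁻¹ ∈ TE z t), p ⟨_, hx⟩ = p x := by
        have hEinv : ∀ a ∈ TE z t, ∀ (x : TE z t), a * (x : G) * a⁻¹ = x := fun a ha x => by
          rw [d.E_comm ha x.2, mul_inv_cancel_right]
        have hgd : ∀ x : TE z t, p ⟨g * x * g⁻¹, d.g_norm h x.2⟩ = p x := fun x => by
          refine Subtype.ext ?_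
          have e1 := hp1 x
          have e3 : g * ((p x : G) * (x : G)) * g⁻¹ ∈ TV Q t := by
            rcases (d.mem_TV h).1 e1 with e' | e'
            · rw [e']; simp
            · exact (d.mem_TV h).2 (Or.inr (d.g_conj_V h e').1)
          have e5 : (p x : G) * (g * (x : G) * g⁻¹) ∈ TV Q t := by
            convert e3 using 1
            have hc : g * (p x : G) * g⁻¹ = p x := by
              rw [← mem_C.1 (p x).2.2, mul_inv_cancel_right]
            calc (p x : G) * (g * (x : G) * g⁻¹) = (g * (p x : G) * g⁻¹) * (g * (x : G) * g⁻¹) := by rw [hc]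
              _ = _ := by group
          have e6 := (hp3 (⟨(p x : G), (p x).2.1⟩ * ⟨g * x * g⁻¹, d.g_norm h x.2⟩)).2 e5
          rw [map_mul, show p ⟨(p x : G), (p x).2.1⟩ = p x from Subtype.ext (hp2 _ (p x).2)] at e6
          rw [← inv_eq_of_mul_eq_one_right e6]
          exact d.E_inv (p x).2.1
        intro x hx
        rcases d.norm_cases h hnt hnorm with e' | e' | e'
        · exact congrArg p (Subtype.ext (hEinv _ e' x))
        · rw [← hgd ⟨_, hx⟩]
          refine congrArg p (Subtype.ext ?_)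
          show g * ((n : G) * x * (n : G)⁻¹) * g⁻¹ = x
          calc _ = g * (n : G) * x * (g * (n : G))⁻¹ := by group
            _ = x := hEinv _ e' x
        · rw [← hgd ⟨_, hx⟩, ← hgd ⟨_, d.g_norm h hx⟩]
          refine congrArg p (Subtype.ext ?_)
          show g * (g * ((n : G) * x * (n : G)⁻¹) * g⁻¹) * g⁻¹ = x
          calc _ = g * g * (n : G) * x * (g * g * (n : G))⁻¹ := by group
            _ = x := hEinv _ e' x
      rw [hψ, hψ]
      have hmem : (n : G) * ((a * (e : L) ^ k * a⁻¹ : L) : G) * (n : G)⁻¹ ∈ TE z t := hnorm _ hk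
      refine (hinvar ⟨_, hk⟩ hmem).symm.trans (congrArg p (Subtype.ext ?_))
      show (n : G) * ((a * (e : L) ^ k * a⁻¹ : L) : G) * (n : G)⁻¹ = (((e : L) ^ k : L) : G)
      have hne' := congrArg (fun w : L => (w : G)) hne
      push_cast at hne' ⊢
      rw [hne']
      group
    show MonoidHom.transfer ψ (e : L) = ψ e
    rw [Fusion.transfer_apply_eq_pow ψ e key]
    obtain ⟨m, hm⟩ := hodd
    rw [hm, pow_add, pow_mul, pow_one, pow_two, show ψ e * ψ e = 1 from Subtype.ext (d.E_sq (ψ e).2.1),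
      one_pow, one_mul]
  clear_value T
  have hTF : ∀ f : TF z t g, T ⟨f, hEle f.2.1⟩ = f := fun f => by
    rw [show (⟨(f : G), hEle f.2.1⟩ : L) = ((⟨⟨f, hEle f.2.1⟩, f.2.1⟩ : E') : L) from rfl, hT, hψ]
    exact Subtype.ext (hp2 _ f.2)
  have hcardL : Nat.card L = 4 * Nat.card T.ker := by
    have hsurj : Function.Surjective T := fun f => ⟨_, hTF f⟩
    rw [Subgroup.card_eq_card_quotient_mul_card_subgroup T.ker,
      Nat.card_congr (QuotientGroup.quotientKerEquivOfSurjective T hsurj).toEquiv, d.card_TF h]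
  have hKcard : Nat.card (T.ker.map L.subtype) = Nat.card T.ker :=
    (Nat.card_congr (Subgroup.equivMapOfInjective _ _ L.subtype_injective).toEquiv).symm
  have hmemK : ∀ {x : G} (hx : x ∈ L), x ∈ T.ker.map L.subtype ↔ T ⟨x, hx⟩ = 1 := by
    intro x hx
    exact ⟨fun ⟨y, hy, e⟩ => (show y = ⟨x, hx⟩ from Subtype.ext e) ▸ hy,
      fun e => Subgroup.mem_map.2 ⟨⟨x, hx⟩, e, rfl⟩⟩
  refine ⟨T.ker.map L.subtype, ?_, ?_, ?_, ?_, ?_, ?_, ?_, ?_⟩
  · rintro x ⟨y, -, rfl⟩; exact mem_C.1 y.2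
  · intro x hx k hk
    obtain ⟨y, hy, rfl⟩ := hk
    exact ⟨⟨x, mem_C.2 hx⟩ * y * ⟨x, mem_C.2 hx⟩⁻¹, (MonoidHom.normal_ker T).conj_mem y hy _, by simp⟩
  · intro x hx
    let f := T ⟨x, mem_C.2 hx⟩
    refine ⟨f, f.2, (hmemK (mul_mem (mem_C.2 hx) (hEle f.2.1))).2 ?_⟩
    rw [show (⟨x * (f : G), mul_mem (mem_C.2 hx) (hEle f.2.1)⟩ : L) = ⟨x, mem_C.2 hx⟩ * ⟨f, hEle f.2.1⟩ from rfl,
      map_mul, hTF]
    exact Subtype.ext (d.E_sq f.2.1)
  · intro f hf hfK
    have := (hmemK (hEle hf.1)).1 hfK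
    rw [show (⟨f, hEle hf.1⟩ : L) = ⟨((⟨f, hf⟩ : TF z t g) : G), hEle hf.1⟩ from rfl, hTF ⟨f, hf⟩] at this
    exact congrArg Subtype.val this
  · intro x hx
    refine (hmemK (hEle (d.TV_le h hx))).2 ?_
    rw [show (⟨x, hEle (d.TV_le h hx)⟩ : L) = ((⟨⟨x, hEle (d.TV_le h hx)⟩, d.TV_le h hx⟩ : E') : L) from rfl, hT, hψ]
    exact (hp3 ⟨x, _⟩).2 hx
  · refine (hmemK (mem_C.2 d.gt)).2 ?_
    have h3 : T ⟨g, mem_C.2 d.gt⟩ ^ 3 = 1 := by
      rw [← map_pow, show (⟨g, mem_C.2 d.gt⟩ : L) ^ 3 = 1 from Subtype.ext d.g3, map_one]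
    rw [pow_three, show T ⟨g, mem_C.2 d.gt⟩ * T ⟨g, mem_C.2 d.gt⟩ = 1 from
      Subtype.ext (d.E_sq (T ⟨g, mem_C.2 d.gt⟩).2.1), mul_one] at h3
    exact h3
  · rw [hcardL, hKcard]
  · have hi := E'.card_mul_index
    rw [hE'card, hcardL] at hi
    exact ⟨E'.index, hodd, by rw [hKcard]; omega⟩

theorem Split.cent_v [Finite G] {K : Subgroup G} (c : Split z Q t g K) (d : CT z Q t s g) (h : HJ z Q)
    {v x : G} (hv : IsV z s v) (hx : x ∈ K) (hxv : x * v = v * x) : x = 1 ∨ IsV z s x := by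
  have hxE := d.cent_v h hv (c.le x hx) hxv
  obtain ⟨p, hp1, -, -⟩ := d.exists_proj h
  have e1 := hp1 ⟨x, hxE⟩
  have hpK : (p ⟨x, hxE⟩ : G) ∈ K := by
    have := mul_mem (c.vle e1) (inv_mem hx)
    rwa [mul_inv_cancel_right] at this
  rw [c.inf _ (p ⟨x, hxE⟩).2 hpK, one_mul] at e1
  exact (d.mem_TV h).1 e1

theorem Split.card_cases [Finite G] {K : Subgroup G} (c : Split z Q t g K) (d : CT z Q t s g)
    (h : HJ z Q) : Nat.card K = 12 ∨ Nat.card K = 60 := by
  haveI : Fact (Nat.Prime 2) := ⟨Nat.prime_two⟩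
  obtain ⟨m, hm, hK⟩ := c.cardK
  have hzK : z ∈ K := c.vle ((d.mem_TV h).2 (Or.inr (Or.inl rfl)))
  set J : K := ⟨z, hzK⟩
  have hJ2 : orderOf J = 2 := by rw [← h.hz, ← Subgroup.orderOf_coe]
  have hC : Nat.card (Subgroup.centralizer ({J} : Set K)) = 4 := by
    rw [show Subgroup.centralizer ({J} : Set K) = (TV Q t).subgroupOf K from ?_,
      Nat.card_congr (Subgroup.subgroupOfEquivOfLe c.vle).toEquiv, d.card_TV h]
    ext x
    rw [mem_C, Subgroup.mem_subgroupOf, d.mem_TV h]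
    constructor
    · exact fun hx => c.cent_v d h (Or.inl rfl) x.2 (congrArg Subtype.val hx)
    · rintro (e | e)
      · exact Subtype.ext (show (x : G) * z = z * (x : G) by rw [e]; simp)
      · exact Subtype.ext (mem_TE.1 (d.v_facts h e).2.1).1
  obtain ⟨P, hP⟩ := (IsPGroup.of_card (n := 1) (by rw [Nat.card_zpowers, hJ2]; norm_num) :
    IsPGroup 2 (Subgroup.zpowers J)).exists_le_sylow
  have hnc : ¬ ∃ N : Subgroup K, N.Normal ∧ Nat.card N = m := by
    rintro ⟨N, hN, hNc⟩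
    have hind : N.index = 4 := by
      have := N.card_mul_index
      rw [hNc, hK, mul_comm 4 m] at this
      exact Nat.eq_of_mul_eq_mul_left hm.pos this
    haveI := hN
    set gK : K := ⟨g, c.g_mem⟩
    have hg3 : gK ^ 3 = 1 := Subtype.ext d.g3
    have h1 : (gK : K ⧸ N) ^ 4 = 1 := by
      rw [← hind, Subgroup.index_eq_card]
      exact pow_card_eq_one'
    have h2 : (gK : K ⧸ N) ^ 3 = 1 := by rw [← QuotientGroup.mk_pow, hg3, QuotientGroup.mk_one]
    rw [pow_succ, h2, one_mul, QuotientGroup.eq_one_iff] at h1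
    have h3 : gK * (J * gK⁻¹ * J⁻¹) ∈ N := mul_mem h1 (hN.conj_mem _ (inv_mem h1) J)
    have hv : g * z * g⁻¹ * z⁻¹ = s := by
      rw [d.gz, h.zinv, mul_assoc, d.sz, ← mul_assoc, h.zsq, one_mul]
    have hsK : s ∈ K := c.vle ((d.mem_TV h).2 (Or.inr (Or.inr (Or.inl rfl))))
    have hsN : (⟨s, hsK⟩ : K) ∈ N := by
      convert h3 using 1
      refine Subtype.ext ?_
      show s = g * (z * g⁻¹ * z⁻¹)
      rw [← hv]
      group
    have hdvd : orderOf (⟨s, hsK⟩ : K) ∣ Nat.card N := Subgroup.orderOf_dvd_natCard N hsN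
    rw [Subgroup.orderOf_mk, d.sord, hNc] at hdvd
    exact (Nat.not_even_iff_odd.2 hm) (even_iff_two_dvd.2 hdvd)
  rcases Fg24.InvolD8.card_klein_selfcentralizing m hm hK hnc P J (hP (Subgroup.mem_zpowers J)) hJ2 hC
    with e | e <;> [left; right] <;> rw [hK, e]

/-- The subgroup `V ⟨g⟩`. -/
def TA (Q : Subgroup G) (t g : G) : Set G :=
  {x | ∃ v ∈ TV Q t, x = v ∨ x = v * g ∨ x = v * (g * g)}

/-- The normaliser of `V` inside the kernel. -/
def TN (Q : Subgroup G) (t : G) (K : Subgroup G) : Subgroup G :=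
  K ⊓ Subgroup.normalizer (TV Q t : Set G)

theorem norm_V [Finite G] (d : CT z Q t s g) (h : HJ z Q) {x : G}
    (hx : x ∈ Subgroup.normalizer (TV Q t : Set G)) {v : G} (hv : IsV z s v) :
    IsV z s (x * v * x⁻¹) := by
  refine ((d.mem_TV h).1 ((Subgroup.mem_normalizer_iff.1 hx v).1 ((d.mem_TV h).2 (Or.inr hv)))).resolve_left ?_
  exact fun e => Invol.ne_one (d.v_facts h hv).2.2.1 (conj_eq_one_iff.1 e)

theorem g_mem_normalizer [Finite G] (d : CT z Q t s g) (h : HJ z Q) :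
    g ∈ Subgroup.normalizer (TV Q t : Set G) := by
  have hconj : ∀ x ∈ TV Q t, g * x * g⁻¹ ∈ TV Q t := fun x hx => by
    rcases (d.mem_TV h).1 hx with rfl | e
    · simp
    · exact (d.mem_TV h).2 (Or.inr (d.g_conj_V h e).1)
  refine Subgroup.mem_normalizer_iff.2 fun x => ⟨hconj x, fun hx => ?_⟩
  have := hconj _ (hconj _ hx)
  convert this using 1
  calc x = g ^ 3 * x * (g ^ 3)⁻¹ := by rw [d.g3]; group
    _ = _ := by rw [pow_three]; group

theorem Split.TN_cases [Finite G] {K : Subgroup G} (c : Split z Q t g K) (d : CT z Q t s g) (h : HJ z Q)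
    {x : G} (hx : x ∈ TN Q t K) : x ∈ TV Q t ∨ g * x ∈ TV Q t ∨ g * g * x ∈ TV Q t := by
  have hv := d.norm_V h hx.2 (v := z) (Or.inl rfl)
  have key : ∀ y ∈ K, y * z * y⁻¹ = z → y ∈ TV Q t := fun y hy e =>
    (d.mem_TV h).2 (c.cent_v d h (Or.inl rfl) hy (mul_inv_eq_iff_eq_mul.1 e))
  rcases hv with e | e | e
  · exact Or.inl (key x hx.1 e)
  · refine Or.inr (Or.inl (key _ (mul_mem c.g_mem hx.1) ?_))
    rw [show g * x * z * (g * x)⁻¹ = g * (x * z * x⁻¹) * g⁻¹ by group, e, d.gs]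
  · refine Or.inr (Or.inr (key _ (mul_mem (mul_mem c.g_mem c.g_mem) hx.1) ?_))
    rw [show g * g * x * z * (g * g * x)⁻¹ = g * (g * (x * z * x⁻¹) * g⁻¹) * g⁻¹ by group, e,
      d.g_conj_zs h, d.gs]

theorem Split.card_TN [Finite G] {K : Subgroup G} (c : Split z Q t g K) (d : CT z Q t s g) (h : HJ z Q) :
    Nat.card (TN Q t K) = 12 := by
  classical
  let w : Fin 3 × TV Q t → TN Q t K := fun p =>
    ⟨g ^ p.1.val * p.2, mul_mem (pow_mem c.g_mem _) (c.vle p.2.2),
      mul_mem (pow_mem (d.g_mem_normalizer h) _) (Subgroup.le_normalizer p.2.2)⟩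
  have hw : Function.Bijective w := by
    constructor
    · rintro ⟨i, a⟩ ⟨j, b⟩ e
      have e' : g ^ i.val * (a : G) = g ^ j.val * (b : G) := congrArg Subtype.val e
      have hE : ∀ v : TV Q t, (v : G) * z * (v : G)⁻¹ = z := fun v => by
        rw [mul_inv_eq_iff_eq_mul]
        exact (mem_TE.1 (d.TV_le h v.2)).1
      have hz' := congrArg (fun y => y * z * y⁻¹) e'
      simp only [mul_inv_rev] at hz'
      rw [show g ^ i.val * (a : G) * z * ((a : G)⁻¹ * (g ^ i.val)⁻¹) = g ^ i.val * ((a : G) * z * (a : G)⁻¹) * (g ^ i.val)⁻¹ by group,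
        show g ^ j.val * (b : G) * z * ((b : G)⁻¹ * (g ^ j.val)⁻¹) = g ^ j.val * ((b : G) * z * (b : G)⁻¹) * (g ^ j.val)⁻¹ by group,
        hE, hE] at hz'
      have h2 : g ^ 2 * z * (g ^ 2)⁻¹ = s := by
        rw [show g ^ 2 * z * (g ^ 2)⁻¹ = g * (g * z * g⁻¹) * g⁻¹ by rw [pow_two]; group, d.gz, d.g_conj_zs h]
      have n1 : z * s ≠ z := fun e => Invol.ne_one d.sord (mul_eq_left.1 e)
      have n2 : z * s ≠ s := fun e => h.zne (mul_eq_right.1 e)
      have hij : i = j := by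
        fin_cases i <;> fin_cases j <;> simp only [pow_zero, pow_one, one_mul, inv_one, mul_one, h2, d.gz] at hz'
        all_goals first
          | rfl
          | exact absurd hz' n1 | exact absurd hz'.symm n1 | exact absurd hz' n2 | exact absurd hz'.symm n2
          | exact absurd hz' d.sne | exact absurd hz'.symm d.sne
      subst hij
      rw [Subtype.ext (mul_left_cancel e')]
    · rintro ⟨x, hx⟩
      rcases c.TN_cases d h hx with e | e | e
      · exact ⟨(0, ⟨x, e⟩), Subtype.ext (by simp [w])⟩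
      · refine ⟨(2, ⟨_, e⟩), Subtype.ext ?_⟩
        show g ^ 2 * (g * x) = x
        rw [← mul_assoc, ← pow_succ, d.g3, one_mul]
      · refine ⟨(1, ⟨_, e⟩), Subtype.ext ?_⟩
        show g ^ 1 * (g * g * x) = x
        rw [pow_one, ← mul_assoc, ← pow_three, d.g3, one_mul]
  rw [← Nat.card_eq_of_bijective w hw, Nat.card_prod, Nat.card_fin, d.card_TV h]

theorem Split.free [Finite G] {K : Subgroup G} (c : Split z Q t g K) (d : CT z Q t s g) (h : HJ z Q)
    {x v : G} (hx : x ∈ K) (hv : v ∈ TV Q t) (hxv : x⁻¹ * v * x ∈ TN Q t K) :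
    v = 1 ∨ x ∈ TN Q t K := by
  rcases (d.mem_TV h).1 hv with e | e
  · exact Or.inl e
  refine Or.inr ⟨hx, ?_⟩
  have hvv : v * v = 1 := d.E_sq (d.TV_le h hv)
  set u := x⁻¹ * v * x with hu
  have huu : u * u = 1 := by
    rw [hu, show x⁻¹ * v * x * (x⁻¹ * v * x) = x⁻¹ * (v * v) * x by group, hvv]
    group
  have hu1 : u ≠ 1 := fun e' => Invol.ne_one (d.v_facts h e).2.2.1 (by
    calc v = x * u * x⁻¹ := by rw [hu]; group
      _ = 1 := by rw [e']; group)
  have huV : u ∈ TV Q t := by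
    rcases c.TN_cases d h hxv with e' | e' | e'
    · exact e'
    all_goals
      exfalso
      set k := g * u with hk
    · have hgN := d.g_mem_normalizer h
      have : u * k * u⁻¹ ∈ TV Q t := (Subgroup.mem_normalizer_iff.1 hxv.2 k).1 e'
      have hug : u * g ∈ TV Q t := by
        convert this using 1
        rw [hk, inv_eq_of_mul_eq_one_right huu]
        calc u * g = u * g * (u * u) := by rw [huu, mul_one]
          _ = _ := by group
      have hgg : g * g ∈ TV Q t := by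
        have := mul_mem e' hug
        rwa [hk, show g * u * (u * g) = g * (u * u) * g by group, huu, mul_one] at this
      have := d.E_sq (d.TV_le h hgg)
      rw [show g * g * (g * g) = g * (g * g) * g by group, ← pow_three, d.g3, one_mul] at this
      exact d.g_ne this
    · have : u * (g * g * u) * u⁻¹ ∈ TV Q t := (Subgroup.mem_normalizer_iff.1 hxv.2 _).1 e'
      have hug : u * (g * g) ∈ TV Q t := by
        convert this using 1
        group
      have hgg : g ^ 4 ∈ TV Q t := by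
        have := mul_mem e' hug
        rw [show g * g * u * (u * (g * g)) = g * g * (u * u) * (g * g) by group, huu] at this
        convert this using 1
        simp [pow_succ, mul_assoc]
      have := d.E_sq (d.TV_le h hgg)
      rw [← pow_add, show 4 + 4 = 3 * 2 + 2 from rfl, pow_add, pow_mul, d.g3, one_pow, one_mul] at this
      exact d.g_ne (by
        calc g = g ^ 3 * (g ^ 2)⁻¹ := by group
          _ = 1 := by rw [d.g3, this]; simp)
  have huv : IsV z s u := ((d.mem_TV h).1 huV).resolve_left hu1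
  have hconj : ∀ y ∈ TV Q t, x * y * x⁻¹ ∈ TV Q t := fun y hy => by
    refine (d.mem_TV h).2 (c.cent_v d h e (mul_mem (mul_mem hx (c.vle hy)) (inv_mem hx)) ?_)
    have hc : y * u = u * y := d.E_comm (d.TV_le h hy) (d.TV_le h huV)
    calc x * y * x⁻¹ * v = x * (y * u) * x⁻¹ := by rw [hu]; group
      _ = x * (u * y) * x⁻¹ := by rw [hc]
      _ = v * (x * y * x⁻¹) := by rw [hu]; group
  refine Subgroup.mem_normalizer_iff.2 fun y => ⟨hconj y, fun hy => ?_⟩
  have hmap : (TV Q t).map (MulAut.conj x).toMonoidHom = TV Q t :=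
    Subgroup.eq_of_le_of_card_ge (fun w ⟨y, hy, e⟩ => e ▸ hconj y hy)
      (by rw [← Nat.card_congr (Subgroup.equivMapOfInjective _ _ (MulAut.conj x).injective).toEquiv])
  rw [← hmap] at hy
  obtain ⟨y', hy', e'⟩ := hy
  rwa [show y = y' from (MulAut.conj x).injective e'.symm]

theorem Split.core [Finite G] {K : Subgroup G} (c : Split z Q t g K) (d : CT z Q t s g) (h : HJ z Q)
    {x a : G} (hx : x ∈ K) (hxN : x ∉ TN Q t K) (ha : a ∈ TN Q t K)
    (hconj : ∀ y ∈ K, y⁻¹ * a * y ∈ TN Q t K) : a = 1 := by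
  by_contra ha1
  obtain ⟨v, hv, hv1, hvc⟩ : ∃ v ∈ TV Q t, v ≠ 1 ∧ x⁻¹ * v * x ∈ TN Q t K := by
    by_cases haV : a ∈ TV Q t
    · exact ⟨a, haV, ha1, hconj x hx⟩
    · have hzV : z ∈ TV Q t := (d.mem_TV h).2 (Or.inr (Or.inl rfl))
      have hzK : z ∈ K := c.vle hzV
      refine ⟨a * z * a⁻¹ * z⁻¹, mul_mem ((Subgroup.mem_normalizer_iff.1 ha.2 z).1 hzV) (inv_mem hzV),
        fun e => haV ?_, ?_⟩
      · exact (d.mem_TV h).2 (c.cent_v d h (Or.inl rfl) ha.1
          (mul_inv_eq_iff_eq_mul.1 (mul_inv_eq_one.1 e)))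
      · have h1 := hconj x hx
        have h2 := hconj (z⁻¹ * x) (mul_mem (inv_mem hzK) hx)
        have := mul_mem h1 (inv_mem h2)
        convert this using 1
        group
  rcases c.free d h hx hv hvc with e | e
  · exact hv1 e
  · exact hxN e

theorem Split.F_cent [Finite G] {K : Subgroup G} (c : Split z Q t g K) (d : CT z Q t s g) (h : HJ z Q)
    {f x : G} (hf : f ∈ TF z t g) (hx : x ∈ K) : f * x = x * f := by
  classical
  have hff := d.E_sq hf.1
  have hfN : ∀ a ∈ TN Q t K, f * a * f = a := by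
    intro a ha
    have hfg : Commute f g := mem_C.1 hf.2
    have hfv : ∀ v ∈ TV Q t, Commute f v := fun v hv => d.E_comm hf.1 (d.TV_le h hv)
    have hcom : Commute f a := by
      rcases c.TN_cases d h ha with e | e | e
      · exact hfv a e
      · have := (hfg.inv_right).mul_right (hfv _ e)
        rwa [inv_mul_cancel_left] at this
      · have := ((hfg.mul_right hfg).inv_right).mul_right (hfv _ e)
        rwa [inv_mul_cancel_left] at this
    rw [hcom.eq, mul_assoc, hff, mul_one]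
  have hcK : ∀ y ∈ K, f * y * f ∈ K := fun y hy => by
    have := c.normal f (mem_TE.1 hf.1).2 y hy
    rwa [d.E_inv hf.1] at this
  have hmulf : ∀ a b, f * (a * b) * f = (f * a * f) * (f * b * f) := fun a b => by
    calc f * (a * b) * f = f * a * (f * f) * b * f := by rw [hff]; group
      _ = _ := by group
  by_cases hxN : x ∈ TN Q t K
  · calc f * x = f * x * (f * f) := by rw [hff, mul_one]
      _ = f * x * f * f := by group
      _ = x * f := by rw [hfN x hxN]
  have h60 : Nat.card K = 60 := by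
    refine (c.card_cases d h).resolve_left fun e => hxN ?_
    rw [Subgroup.eq_of_le_of_card_ge (show TN Q t K ≤ K from inf_le_left) (by rw [c.card_TN d h, e])]
    exact hx
  set N := (TN Q t K).subgroupOf K with hN
  have hidx : Nat.card (K ⧸ N) = 5 := by
    have := Subgroup.card_eq_card_quotient_mul_card_subgroup N
    rw [h60, Nat.card_congr (Subgroup.subgroupOfEquivOfLe (show TN Q t K ≤ K from inf_le_left)).toEquiv,
      c.card_TN d h] at this
    omega
  have key : ∀ y ∈ K, y⁻¹ * (f * y * f) ∈ TN Q t K := by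
    intro y hy
    by_cases hyN : y ∈ TN Q t K
    · rw [hfN y hyN, inv_mul_cancel]; exact one_mem _
    have hne : ∀ v : TV Q t, (↑(⟨(v : G) * y, mul_mem (c.vle v.2) hy⟩ : K) : K ⧸ N) ≠ ↑(1 : K) := fun v e => by
      rw [QuotientGroup.eq, hN, Subgroup.mem_subgroupOf] at e
      simp only [Subgroup.coe_mul, Subgroup.coe_inv, Subgroup.coe_one, mul_one] at e
      have hvN : (v : G) ∈ TN Q t K := ⟨c.vle v.2, Subgroup.le_normalizer v.2⟩
      have := mul_mem (inv_mem hvN) (inv_mem e)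
      rw [inv_inv, inv_mul_cancel_left] at this
      exact hyN this
    let w : TV Q t → {q : K ⧸ N // q ≠ ↑(1 : K)} := fun v =>
      ⟨↑(⟨(v : G) * y, mul_mem (c.vle v.2) hy⟩ : K), hne v⟩
    have hwinj : Function.Injective w := by
      intro a b e
      have e' := congrArg Subtype.val e
      simp only [w] at e'
      rw [QuotientGroup.eq, hN, Subgroup.mem_subgroupOf] at e'
      simp only [Subgroup.coe_mul, Subgroup.coe_inv] at e'
      have := c.free d h hy (mul_mem (inv_mem a.2) b.2) (by convert e' using 1; group)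
      exact Subtype.ext (inv_mul_eq_one.1 (this.resolve_right hyN))
    haveI : Fintype (K ⧸ N) := Fintype.ofFinite _
    have hwb : Function.Bijective w := by
      refine (Nat.bijective_iff_injective_and_card w).2 ⟨hwinj, ?_⟩
      rw [d.card_TV h, Nat.card_eq_fintype_card, Fintype.card_subtype_compl, Fintype.card_subtype_eq,
        ← Nat.card_eq_fintype_card, hidx]
    have hcover : ∀ y' ∈ K, y' ∉ TN Q t K → ∃ v ∈ TV Q t, (v * y)⁻¹ * y' ∈ TN Q t K := by
      intro y' hy' hy'N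
      obtain ⟨v, hv⟩ := hwb.2 ⟨↑(⟨y', hy'⟩ : K), fun e => hy'N (by
        rw [QuotientGroup.eq, hN, Subgroup.mem_subgroupOf] at e
        simpa using e)⟩
      have e' := congrArg Subtype.val hv
      simp only [w] at e'
      rw [QuotientGroup.eq, hN, Subgroup.mem_subgroupOf] at e'
      exact ⟨v, v.2, by simpa using e'⟩
    have hfy : f * y * f ∉ TN Q t K := fun e => hyN (by
      have := hfN _ e
      rw [show f * (f * y * f) * f = (f * f) * y * (f * f) by group, hff, one_mul, mul_one] at this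
      rwa [this])
    obtain ⟨v₀, hv₀, ha1⟩ := hcover _ (hcK y hy) hfy
    set a₁ := (v₀ * y)⁻¹ * (f * y * f) with ha₁
    have hgN : g ∈ TN Q t K := ⟨c.g_mem, d.g_mem_normalizer h⟩
    have hgy : g * y ∉ TN Q t K := fun e => hyN (by
      have := mul_mem (inv_mem hgN) e
      rwa [inv_mul_cancel_left] at this)
    obtain ⟨w₀, hw₀, ha2⟩ := hcover _ (mul_mem c.g_mem hy) hgy
    set a₂ := (w₀ * y)⁻¹ * (g * y) with ha₂
    have hw₀N : w₀ ∈ TN Q t K := ⟨c.vle hw₀, Subgroup.le_normalizer hw₀⟩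
    have e1 : f * (g * y) * f = g * v₀ * g⁻¹ * (w₀ * y) * a₂ * a₁ := by
      rw [hmulf, hfN g hgN, ha₁, ha₂]
      group
    have e2 : f * (g * y) * f = w₀ * v₀ * y * a₁ * a₂ := by
      rw [show g * y = w₀ * y * a₂ by rw [ha₂]; group, hmulf, hmulf, hfN _ hw₀N, hfN _ ha2, ha₁]
      group
    have hgv : g * v₀ * g⁻¹ ∈ TV Q t := (Subgroup.mem_normalizer_iff.1 (d.g_mem_normalizer h) v₀).1 hv₀
    have hcw : v₀ * w₀ = w₀ * v₀ := d.E_comm (d.TV_le h hv₀) (d.TV_le h hw₀)
    rw [e1] at e2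
    have hr := c.free d h hy (v := (g * v₀ * g⁻¹ * w₀)⁻¹ * (v₀ * w₀))
      (mul_mem (inv_mem (mul_mem hgv hw₀)) (mul_mem hv₀ hw₀)) (by
        have : y⁻¹ * ((g * v₀ * g⁻¹ * w₀)⁻¹ * (v₀ * w₀)) * y = a₂ * a₁ * (a₁ * a₂)⁻¹ := by
          calc y⁻¹ * ((g * v₀ * g⁻¹ * w₀)⁻¹ * (v₀ * w₀)) * y
              = y⁻¹ * (g * v₀ * g⁻¹ * w₀)⁻¹ * (w₀ * v₀ * y * a₁ * a₂) * (a₁ * a₂)⁻¹ := by rw [hcw]; group
            _ = _ := by rw [← e2]; group
        rw [this]
        exact mul_mem (mul_mem ha2 ha1) (inv_mem (mul_mem ha1 ha2)))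
    have heq := inv_mul_eq_one.1 (hr.resolve_right hyN)
    rw [mul_left_inj] at heq
    have hv0 : v₀ = 1 := ((d.mem_TV h).1 hv₀).resolve_right fun e => (d.g_conj_V h e).2 heq
    rw [ha₁, hv0, one_mul] at ha1
    exact ha1
  have hcore := c.core d h hx hxN (key x hx) (fun y hy => by
    have k1 := key (x * y) (mul_mem hx hy)
    have k2 := key y hy
    have := mul_mem k1 (inv_mem k2)
    convert this using 1
    rw [hmulf]
    group)
  calc f * x = f * x * f * f := by rw [mul_assoc _ f f, hff, mul_one]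
    _ = x * f := by rw [← inv_mul_eq_one.1 hcore]

end CT

end Cfsg.Agent.HallJanko
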