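import Cfsg.Agent.HallJanko.KElems

/-!
Elements and subgroups of order 5 in a group of Hall–Janko type.
-/

set_option autoImplicit false

namespace Cfsg.Agent.HallJanko

variable {G : Type*} [Group G] [Finite G] {z : G} {Q : Subgroup G} {t s g : G} {K : Subgroup G}

theorem mem_zpowers_norm {x n : G} (hn : n * x * n⁻¹ ∈ Subgroup.zpowers x) :
    n ∈ Subgroup.normalizer (Subgroup.zpowers x : Set G) := by
  refine conj_mem_normalizer_iff fun a ha => ?_
  obtain ⟨i, rfl⟩ := Subgroup.mem_zpowers_iff.1 ha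
  rw [← conj_zpow]
  exact zpow_mem hn i

namespace HJ

variable (h : HJ z Q)
include h

theorem involution_cent {a : G} (hao : orderOf a = 2) :
    Nat.card (Subgroup.centralizer ({a} : Set G)) = 1920 ∨
      Nat.card (Subgroup.centralizer ({a} : Set G)) = 240 := by
  by_cases haz : IsConj z a
  · exact Or.inl (by rw [card_cent_conj haz, h.cardC])
  · obtain ⟨t, ht, htz⟩ := h.exists_outer
    obtain ⟨s, g, K, d, c⟩ := h.exists_split_all ht
    exact Or.inr (by rw [card_cent_conj (h.isConj_of_not ht.ord hao htz haz), c.card_L d h])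

end HJ

namespace CT

theorem Split.F_inv (c : Split z Q t g K) (d : CT z Q t s g) (h : HJ z Q) {f : G} (hf : f ∈ TF z t g)
    (hf1 : f ≠ 1) : orderOf f = 2 ∧ Subgroup.centralizer ({f} : Set G) = Subgroup.centralizer ({t} : Set G) :=
  ⟨Invol.orderOf_eq_two_iff.2 ⟨hf1, d.E_sq hf.1⟩, (c.cent_f d h hf hf1).2⟩

theorem Split.x_facts (c : Split z Q t g K) (d : CT z Q t s g) (h : HJ z Q) {x : G} (hx : x ∈ K)
    (hxo : orderOf x = 5) :
    Nat.card ↥(Subgroup.centralizer ({x} : Set G) ⊓ Subgroup.centralizer ({t} : Set G)) = 20 ∧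
    (∀ a : G, a * x = x * a → a * t = t * a → a ^ 5 = 1 → a ∈ Subgroup.zpowers x) ∧
    Nat.card ↥(Subgroup.centralizer ({x} : Set G) ⊓ Subgroup.normalizer (TF z t g : Set G)) ∣ 60 ∧
    TF z t g ≤ Subgroup.centralizer ({x} : Set G) := by
  classical
  obtain ⟨hcentK, -, -⟩ := c.K_five d h hx hxo
  have hFx : TF z t g ≤ Subgroup.centralizer ({x} : Set G) := fun f hf => mem_C.2 (c.F_cent d h hf hx)
  have hxK : Subgroup.zpowers x ≤ K := Subgroup.zpowers_le.2 hx
  have hxx : ∀ k ∈ Subgroup.zpowers x, k * x = x * k := fun k hk => by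
    obtain ⟨i, rfl⟩ := Subgroup.mem_zpowers_iff.1 hk
    exact ((Commute.refl x).zpow_left i).eq
  have hdec : ∀ a : G, a * x = x * a → a * t = t * a →
      ∃ f ∈ TF z t g, ∃ k ∈ Subgroup.zpowers x, a = k * f := by
    intro a hax hat
    obtain ⟨f, hf, k, hk, rfl⟩ := c.L_eq d hat
    refine ⟨f, hf, k, hcentK k hk ?_, rfl⟩
    have hfx := c.F_cent d h hf hx
    calc k * x = k * x * (f * f) := by rw [d.E_sq hf.1, mul_one]
      _ = k * (x * f) * f := by group
      _ = (k * f * x) * f := by rw [← hfx]; group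
      _ = x * k * (f * f) := by rw [hax]; group
      _ = x * k := by rw [d.E_sq hf.1, mul_one]
  refine ⟨?_, ?_, ?_, hFx⟩
  · let w : TF z t g × Subgroup.zpowers x →
        ↥(Subgroup.centralizer ({x} : Set G) ⊓ Subgroup.centralizer ({t} : Set G)) := fun p =>
      ⟨(p.2 : G) * (p.1 : G), mul_mem (mem_C.2 (hxx _ p.2.2)) (hFx p.1.2),
        mul_mem (c.le_cent (hxK p.2.2)) (TF_le_L p.1.2)⟩
    have hw : Function.Bijective w := by
      constructor
      · rintro ⟨f1, k1⟩ ⟨f2, k2⟩ e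
        have e' : (k1 : G) * f1 = k2 * f2 := congrArg Subtype.val e
        have h1 : (f1 : G) * (f2 : G)⁻¹ = (k1 : G)⁻¹ * k2 :=
          mul_inv_eq_iff_eq_mul.2 (by rw [mul_assoc, ← e', inv_mul_cancel_left])
        have h2 := c.inf _ (mul_mem f1.2 (inv_mem f2.2)) (h1 ▸ mul_mem (inv_mem (hxK k1.2)) (hxK k2.2))
        have hf : f1 = f2 := Subtype.ext (mul_inv_eq_one.1 h2)
        subst hf
        rw [Subtype.ext (mul_right_cancel e')]
      · rintro ⟨a, ha⟩
        obtain ⟨f, hf, k, hk, rfl⟩ := hdec a (mem_C.1 ha.1) (mem_C.1 ha.2)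
        exact ⟨(⟨f, hf⟩, ⟨k, hk⟩), rfl⟩
    rw [← Nat.card_eq_of_bijective w hw, Nat.card_prod, d.card_TF h, Nat.card_zpowers, hxo]
  · intro a hax hat ha5
    obtain ⟨f, hf, k, hk, rfl⟩ := hdec a hax hat
    have hc : Commute k f := (c.F_cent d h hf (hxK hk)).symm
    rw [hc.mul_pow] at ha5
    have hfK : f ^ 5 ∈ K := by
      have e : f ^ 5 = (k ^ 5)⁻¹ := eq_inv_of_mul_eq_one_right ha5
      rw [e]
      exact inv_mem (pow_mem (hxK hk) 5)
    have hf5 : f ^ 5 = f := by
      rw [show f ^ 5 = (f * f) * (f * f) * f by simp only [pow_succ, pow_zero, one_mul, mul_assoc], d.E_sq hf.1]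
      simp
    rw [hf5] at hfK
    rw [c.inf f hf hfK, mul_one]
    exact hk
  · obtain ⟨A, hA, hAN, -, hcomm, hAK, -, hdecA⟩ := c.N_decomp d h
    let w : A × Subgroup.zpowers x →
        ↥(Subgroup.centralizer ({x} : Set G) ⊓ Subgroup.normalizer (TF z t g : Set G)) := fun p =>
      ⟨(p.1 : G) * (p.2 : G), mul_mem (mem_C.2 (hcomm _ p.1.2 x hx)) (mem_C.2 (hxx _ p.2.2)),
        mul_mem (hAN p.1.2) (c.K_le_N d h (hxK p.2.2))⟩
    have hw : Function.Bijective w := by
      constructor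
      · rintro ⟨a1, k1⟩ ⟨a2, k2⟩ e
        have e' : (a1 : G) * k1 = a2 * k2 := congrArg Subtype.val e
        have h1 : (a2 : G)⁻¹ * a1 = (k2 : G) * (k1 : G)⁻¹ :=
          eq_mul_inv_of_mul_eq (by rw [mul_assoc, e', inv_mul_cancel_left])
        have h2 := hAK _ (mul_mem (inv_mem a2.2) a1.2) (h1 ▸ mul_mem (hxK k2.2) (inv_mem (hxK k1.2)))
        have ha : a1 = a2 := Subtype.ext (inv_mul_eq_one.1 h2).symm
        subst ha
        rw [Subtype.ext (mul_left_cancel e')]
      · rintro ⟨y, hy⟩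
        obtain ⟨a, ha, k, hk, rfl⟩ := hdecA y hy.2
        have hk' : k * x = x * k := by
          have e := mem_C.1 hy.1
          refine mul_left_cancel (a := a) ?_
          calc a * (k * x) = a * k * x := (mul_assoc _ _ _).symm
            _ = x * (a * k) := e
            _ = a * (x * k) := by rw [← mul_assoc, ← hcomm a ha x hx, mul_assoc]
        exact ⟨(⟨a, ha⟩, ⟨k, hcentK k hk hk'⟩), rfl⟩
    rw [← Nat.card_eq_of_bijective w hw, Nat.card_prod, hA, Nat.card_zpowers, hxo]

theorem Split.card_cent_five (c : Split z Q t g K) (d : CT z Q t s g) (h : HJ z Q) {x : G} (hx : x ∈ K)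
    (hxo : orderOf x = 5) : Nat.card (Subgroup.centralizer ({x} : Set G)) = 300 := by
  classical
  haveI : Fact (Nat.Prime 2) := ⟨Nat.prime_two⟩
  haveI : Fact (Nat.Prime 5) := ⟨by norm_num⟩
  obtain ⟨h20, -, h60, hFx⟩ := c.x_facts d h hx hxo
  obtain ⟨w, hwo, hwN, hwK, hwt⟩ := c.exists_w d h
  set Y := Subgroup.centralizer ({x} : Set G) with hY
  set F' := (TF z t g).subgroupOf Y with hF'
  have hF'card : Nat.card F' = 4 := by
    rw [Nat.card_congr (Subgroup.subgroupOfEquivOfLe hFx).toEquiv, d.card_TF h]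
  obtain ⟨S, hS⟩ := (IsPGroup.of_card (n := 2) (by rw [hF'card]; norm_num) : IsPGroup 2 F').exists_le_sylow
  have hSF : (S : Subgroup Y) = F' := by
    by_contra hne
    haveI : Group.IsNilpotent (S : Subgroup Y) := S.2.isNilpotent
    set F'' := F'.subgroupOf (S : Subgroup Y)
    have hlt : F'' < ⊤ := lt_top_iff_ne_top.2 fun e => hne (le_antisymm (fun a ha => by
      have : (⟨a, ha⟩ : (S : Subgroup Y)) ∈ F'' := e ▸ Subgroup.mem_top _
      exact this) hS)
    obtain ⟨y, hyN, hyF⟩ := SetLike.exists_of_lt (Group.normalizerCondition_of_isNilpotent F'' hlt)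
    have hyn : ((y : Y) : G) ∈ Subgroup.normalizer (TF z t g : Set G) :=
      conj_mem_normalizer_iff fun f hf => by
        have hf' : (⟨⟨f, hFx hf⟩, hS (show (⟨f, hFx hf⟩ : Y) ∈ F' from hf)⟩ : (S : Subgroup Y)) ∈ F'' := hf
        exact (Subgroup.mem_normalizer_iff.1 hyN _).1 hf'
    set B := ((S : Subgroup Y).map Y.subtype) ⊓ Subgroup.normalizer (TF z t g : Set G) with hB
    have hBle : B ≤ Y ⊓ Subgroup.normalizer (TF z t g : Set G) :=
      inf_le_inf_right _ (Subgroup.map_subtype_le _)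
    have hd1 : Nat.card B ∣ 60 := (Subgroup.card_dvd_of_le hBle).trans h60
    obtain ⟨n, hn⟩ := IsPGroup.iff_card.1 ((S.2.map Y.subtype).to_le (inf_le_left : B ≤ _))
    have hFB : TF z t g ≤ B := fun f hf =>
      ⟨Subgroup.mem_map.2 ⟨⟨f, hFx hf⟩, hS (show (⟨f, hFx hf⟩ : Y) ∈ F' from hf), rfl⟩, Subgroup.le_normalizer hf⟩
    have hle4 : Nat.card B ≤ 4 := by
      have h4 : Nat.card B ∣ 2 ^ 2 * 15 := hd1
      rw [hn] at h4 ⊢
      have := ((Nat.Coprime.pow_left n (by norm_num : Nat.Coprime 2 15))).dvd_of_dvd_mul_right h4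
      exact Nat.le_of_dvd (by norm_num) this
    have hBF : TF z t g = B := Subgroup.eq_of_le_of_card_ge hFB (by rw [d.card_TF h]; exact hle4)
    exact hyF (show ((y : Y) : G) ∈ TF z t g from
      hBF.symm ▸ (⟨Subgroup.mem_map.2 ⟨(y : Y), y.2, rfl⟩, hyn⟩ : ((y : Y) : G) ∈ B))
  obtain ⟨m, hm⟩ : ∃ m, Nat.card Y = 4 * m := hF'card ▸ Subgroup.card_subgroup_dvd_card F'
  have hmo : ¬ 2 ∣ m := fun e => S.not_dvd_index (by
    have := (S : Subgroup Y).card_mul_index
    rw [hSF, hF'card, hm] at this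
    rwa [hSF, show F'.index = m by omega])
  -- the quotient by the cyclic central subgroup
  set x' : Y := ⟨x, mem_C.2 rfl⟩
  set R := Subgroup.zpowers x' with hR
  have hx'o : orderOf x' = 5 := by rw [← hxo, ← Subgroup.orderOf_coe]
  have hxc : ∀ a : Y, a * x' = x' * a := fun a => Subtype.ext (mem_C.1 a.2)
  haveI hRn : R.Normal := ⟨fun a ha b => by
    obtain ⟨i, rfl⟩ := Subgroup.mem_zpowers_iff.1 ha
    rw [((show Commute b x' from hxc b).zpow_right i).eq, mul_inv_cancel_right]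
    exact ha⟩
  have hR5 : Nat.card R = 5 := by rw [hR, Nat.card_zpowers, hx'o]
  have hXY := Subgroup.card_eq_card_quotient_mul_card_subgroup R
  rw [hR5] at hXY
  have h5m : 5 ∣ m := by
    have : 5 ∣ 4 * m := ⟨Nat.card (Y ⧸ R), by rw [← hm, hXY, mul_comm]⟩
    exact (Nat.Coprime.dvd_of_dvd_mul_left (by norm_num) this)
  obtain ⟨g₀, rfl⟩ := h5m
  have hg₀ : Odd g₀ := by
    rw [← Nat.not_even_iff_odd, even_iff_two_dvd]
    exact fun e => hmo (dvd_mul_of_dvd_right e 5)
  have hX : Nat.card (Y ⧸ R) = 4 * g₀ := by omega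
  have hRpow : ∀ a : Y, a ∈ R → a ^ 5 = 1 := fun a ha => by
    have := pow_card_eq_one' (x := (⟨a, ha⟩ : R))
    rw [hR5] at this
    exact congrArg Subtype.val this
  have htY : t ∈ Y := hFx d.t_mem_F
  set t' : Y := ⟨t, htY⟩
  set π := QuotientGroup.mk' R
  set J := π t' with hJ
  have hJ2 : orderOf J = 2 := by
    refine Invol.orderOf_eq_two_iff.2 ⟨fun e => ?_, ?_⟩
    · have h5 := hRpow t' ((QuotientGroup.eq_one_iff _).1 e)
      have ht' : t ^ 5 = 1 := congrArg Subtype.val h5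
      have := orderOf_dvd_iff_pow_eq_one.2 ht'
      rw [d.outer.ord] at this
      norm_num at this
    · rw [hJ, ← map_mul, show t' * t' = 1 from Subtype.ext (Invol.mul_self_eq_one d.outer.ord), map_one]
  set H0 := Subgroup.centralizer ({t'} : Set Y) with hH0
  have hH0card : Nat.card H0 = 20 := by
    rw [← h20]
    exact Nat.card_congr
      { toFun := fun a => ⟨((a : Y) : G), (a : Y).2, mem_C.2 (congrArg Subtype.val (mem_C.1 a.2))⟩
        invFun := fun a => ⟨⟨(a : G), a.2.1⟩, mem_C.2 (Subtype.ext (mem_C.1 a.2.2))⟩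
        left_inv := fun a => rfl
        right_inv := fun a => rfl }
  have hcentJ : Subgroup.centralizer ({J} : Set (Y ⧸ R)) = H0.map π := by
    ext q
    obtain ⟨a, rfl⟩ := QuotientGroup.mk'_surjective R q
    constructor
    · intro ha
      refine Subgroup.mem_map.2 ⟨a, mem_C.2 ?_, rfl⟩
      have e : π (a * t' * a⁻¹ * t'⁻¹) = 1 := by
        rw [map_mul, map_mul, map_mul, map_inv, map_inv, ← hJ, mem_C.1 ha, mul_inv_cancel_right, mul_inv_cancel]
      set u := a * t' * a⁻¹ * t'⁻¹ with hu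
      have huR : u ∈ R := (QuotientGroup.eq_one_iff _).1 e
      have hconj : a * t' * a⁻¹ = u * t' := by rw [hu]; group
      have hc : Commute u t' := by
        obtain ⟨i, hi⟩ := Subgroup.mem_zpowers_iff.1 huR
        rw [← hi]
        exact ((show Commute t' x' from hxc t').zpow_right i).symm
      have h2 : u ^ 2 = 1 := by
        have e1 : (a * t' * a⁻¹) ^ 2 = 1 := by
          rw [conj_pow, show t' ^ 2 = 1 from Subtype.ext (by
            rw [pow_two]; exact Invol.mul_self_eq_one d.outer.ord)]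
          group
        rwa [hconj, hc.mul_pow, show t' ^ 2 = 1 from Subtype.ext (by
          rw [pow_two]; exact Invol.mul_self_eq_one d.outer.ord), mul_one] at e1
      have h5 := hRpow u huR
      have h1 : u = 1 := by
        rw [show 5 = 2 * 2 + 1 from rfl, pow_succ, pow_mul, h2, one_pow, one_mul] at h5
        exact h5
      rw [h1, one_mul] at hconj
      exact mul_inv_eq_iff_eq_mul.1 hconj
    · rintro ⟨b, hb, hab⟩
      rw [← hab]
      exact mem_C.2 (by rw [hJ, ← map_mul, ← map_mul, mem_C.1 hb])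
  have hC4 : Nat.card (Subgroup.centralizer ({J} : Set (Y ⧸ R))) = 4 := by
    rw [hcentJ]
    have hRH : R ≤ H0 := fun a ha => by
      obtain ⟨i, rfl⟩ := Subgroup.mem_zpowers_iff.1 ha
      exact mem_C.2 (((show Commute t' x' from hxc t').zpow_right i).symm.eq)
    let φ : H0 →* H0.map π := π.subgroupMap H0
    have hsurj : Function.Surjective φ := π.subgroupMap_surjective H0
    have hk : Nat.card φ.ker = 5 := by
      rw [← hR5]
      refine Nat.card_congr
        { toFun := fun a => ⟨((a : H0) : Y), (QuotientGroup.eq_one_iff _).1 (congrArg Subtype.val (MonoidHom.mem_ker.1 a.2))⟩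
          invFun := fun a => ⟨⟨(a : Y), hRH a.2⟩, MonoidHom.mem_ker.2 (Subtype.ext ((QuotientGroup.eq_one_iff _).2 a.2))⟩
          left_inv := fun a => rfl
          right_inv := fun a => rfl }
    have := Subgroup.card_eq_card_quotient_mul_card_subgroup φ.ker
    rw [Nat.card_congr (QuotientGroup.quotientKerEquivOfSurjective φ hsurj).toEquiv, hk, hH0card] at this
    omega
  have hnc : ¬ ∃ N : Subgroup (Y ⧸ R), N.Normal ∧ Nat.card N = g₀ := by
    rintro ⟨N, hN, hNc⟩
    haveI := hN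
    have hind : N.index = 4 := by
      have := N.card_mul_index
      rw [hNc, hX, mul_comm 4 g₀] at this
      exact Nat.eq_of_mul_eq_mul_left hg₀.pos this
    set w' : Y := ⟨w, mem_C.2 (hwK x hx)⟩
    have hw3 : w' ^ 3 = 1 := Subtype.ext (orderOf_dvd_iff_pow_eq_one.1 hwo.dvd)
    have h1 : ((π w' : Y ⧸ R) : (Y ⧸ R) ⧸ N) ^ 4 = 1 := by
      rw [← hind, Subgroup.index_eq_card]; exact pow_card_eq_one'
    have h2 : ((π w' : Y ⧸ R) : (Y ⧸ R) ⧸ N) ^ 3 = 1 := by
      rw [← QuotientGroup.mk_pow, ← map_pow, hw3, map_one, QuotientGroup.mk_one]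
    rw [pow_succ, h2, one_mul, QuotientGroup.eq_one_iff] at h1
    set v := w' * t' * w'⁻¹ * t'⁻¹ with hv
    have hvN : π v ∈ N := by
      have := mul_mem h1 (hN.conj_mem _ (inv_mem h1) (π t'))
      convert this using 1
      simp only [hv, map_mul, map_inv]
      group
    have hvF : (v : G) ∈ TF z t g := by
      show w * t * w⁻¹ * t⁻¹ ∈ TF z t g
      exact mul_mem ((Subgroup.mem_normalizer_iff.1 hwN t).1 d.t_mem_F) (inv_mem d.t_mem_F)
    have hv2 : v ^ 2 = 1 := Subtype.ext (by push_cast; rw [pow_two]; exact d.E_sq hvF.1)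
    have hvne : π v ≠ 1 := fun e => by
      have h5 := hRpow v ((QuotientGroup.eq_one_iff _).1 e)
      rw [show 5 = 2 * 2 + 1 from rfl, pow_succ, pow_mul, hv2, one_pow, one_mul] at h5
      exact hwt (mul_inv_eq_one.1 (congrArg Subtype.val h5))
    have ho : orderOf (π v) = 2 := orderOf_eq_prime (by rw [← map_pow, hv2, map_one]) hvne
    have := Subgroup.orderOf_dvd_natCard N hvN
    rw [ho, hNc] at this
    exact (Nat.not_even_iff_odd.2 hg₀) (even_iff_two_dvd.2 this)
  obtain ⟨P2, hP2⟩ := (IsPGroup.of_card (n := 1) (by rw [Nat.card_zpowers, hJ2]; norm_num) :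
    IsPGroup 2 (Subgroup.zpowers J)).exists_le_sylow
  rcases Fg24.InvolD8.card_klein_selfcentralizing g₀ hg₀ hX hnc P2 J (hP2 (Subgroup.mem_zpowers J)) hJ2 hC4
    with e | e
  · exfalso
    obtain ⟨P, hP⟩ := (IsPGroup.of_card (n := 1) (by rw [Nat.card_zpowers, hxo, pow_one]) :
      IsPGroup 5 (Subgroup.zpowers x)).exists_le_sylow
    have hPc : Nat.card (P : Subgroup G) = 5 ^ 2 := by
      rw [P.card_eq_multiplicity, h.card_G, show 604800 = 5 ^ 2 * 24192 from rfl,
        Nat.factorization_mul (by norm_num) (by norm_num), Finsupp.add_apply,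
        Nat.Prime.factorization_pow (by norm_num : Nat.Prime 5), Finsupp.single_eq_same,
        Nat.factorization_eq_zero_of_not_dvd (by norm_num : ¬ 5 ∣ 24192)]
    have hPY : (P : Subgroup G) ≤ Y := fun a ha => mem_C.2 (congrArg Subtype.val
      (IsPGroup.commutative_of_card_eq_prime_sq hPc ⟨a, ha⟩ ⟨x, hP (Subgroup.mem_zpowers x)⟩))
    have := Subgroup.card_dvd_of_le hPY
    rw [hPc, hm, e] at this
    norm_num at this
  · rw [hm, e]

end CT

end Cfsg.Agent.HallJanko
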