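import Cfsg.Agent.HallJanko.Five

/-!
The Sylow 5-subgroup of a group of Hall–Janko type and the classes of subgroups of order 5.
-/

set_option autoImplicit false

namespace Cfsg.Agent.HallJanko

variable {G : Type*} [Group G] [Finite G] {z : G} {Q : Subgroup G} {t s g : G} {K : Subgroup G}

theorem mem_zpowers_of_card_five {W : Subgroup G} {p : G} (hW : Nat.card W = 5) (hp : p ∈ W) (hp1 : p ≠ 1) :
    Subgroup.zpowers p = W := by
  haveI : Fact (Nat.Prime 5) := ⟨by norm_num⟩
  refine Subgroup.eq_of_le_of_card_ge (Subgroup.zpowers_le.2 hp) ?_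
  have hd := hW ▸ Subgroup.orderOf_dvd_natCard W hp
  rcases (Nat.dvd_prime (by norm_num : Nat.Prime 5)).1 hd with e | e
  · exact absurd (orderOf_eq_one_iff.1 e) hp1
  · rw [Nat.card_zpowers, e, hW]

namespace HJ

theorem five_card_sylow (h : HJ z Q) (P : Sylow 5 G) : Nat.card (P : Subgroup G) = 25 := by
  haveI : Fact (Nat.Prime 5) := ⟨by norm_num⟩
  rw [P.card_eq_multiplicity, h.card_G, show 604800 = 5 ^ 2 * 24192 from rfl,
    Nat.factorization_mul (by norm_num) (by norm_num), Finsupp.add_apply,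
    Nat.Prime.factorization_pow (by norm_num : Nat.Prime 5), Finsupp.single_eq_same,
    Nat.factorization_eq_zero_of_not_dvd (by norm_num : ¬ 5 ∣ 24192)]
  norm_num

end HJ

namespace CT

/-- The setting around an element of order 5 centralised by involutions of the second class. -/
structure FiveData (z : G) (Q : Subgroup G) (t s g : G) (K : Subgroup G) (x : G) (P : Sylow 5 G) : Prop where
  mem : x ∈ K
  ord : orderOf x = 5
  sub : x ∈ (P : Subgroup G)

theorem exists_fiveData (h : HJ z Q) (d : CT z Q t s g) (c : Split z Q t g K) :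
    ∃ x P, FiveData z Q t s g K x P := by
  haveI : Fact (Nat.Prime 5) := ⟨by norm_num⟩
  obtain ⟨⟨x, hx⟩, hxo⟩ := exists_prime_orderOf_dvd_card' (G := K) 5 (by rw [(h.card_all d c).1]; norm_num)
  have hxo' : orderOf x = 5 := by rw [← hxo, Subgroup.orderOf_mk]
  obtain ⟨P, hP⟩ := (IsPGroup.of_card (n := 1) (by rw [Nat.card_zpowers, hxo', pow_one]) :
    IsPGroup 5 (Subgroup.zpowers x)).exists_le_sylow
  exact ⟨x, P, hx, hxo', hP (Subgroup.mem_zpowers x)⟩

variable {x : G} {P : Sylow 5 G}

theorem FiveData.comm (D : FiveData z Q t s g K x P) (h : HJ z Q) {a b : G} (ha : a ∈ (P : Subgroup G))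
    (hb : b ∈ (P : Subgroup G)) : a * b = b * a := by
  haveI : Fact (Nat.Prime 5) := ⟨by norm_num⟩
  exact congrArg Subtype.val (IsPGroup.commutative_of_card_eq_prime_sq
    (show Nat.card (P : Subgroup G) = 5 ^ 2 by rw [h.five_card_sylow P]; norm_num) ⟨a, ha⟩ ⟨b, hb⟩)

theorem FiveData.le_cent (D : FiveData z Q t s g K x P) (h : HJ z Q) :
    (P : Subgroup G) ≤ Subgroup.centralizer ({x} : Set G) := fun a ha => mem_C.2 (D.comm h ha D.sub)

/-- The fours group does not normalise a Sylow 5-subgroup through `x`. -/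
theorem FiveData.not_norm (D : FiveData z Q t s g K x P) (c : Split z Q t g K) (d : CT z Q t s g)
    (h : HJ z Q) : ¬ TF z t g ≤ Subgroup.normalizer ((P : Subgroup G) : Set G) := by
  intro hN
  obtain ⟨h20, hfive, -, -⟩ := c.x_facts d h D.mem D.ord
  obtain ⟨w, -, hwN, -, hwt⟩ := c.exists_w d h
  set u := w * t * w⁻¹ with hu
  have huF : u ∈ TF z t g := (Subgroup.mem_normalizer_iff.1 hwN t).1 d.t_mem_F
  have htF := d.t_mem_F (z := z) (Q := Q) (s := s)
  have hnf : ∀ f ∈ TF z t g, ∀ a ∈ (P : Subgroup G), f * a * f ∈ (P : Subgroup G) := fun f hf a ha => by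
    have := (Subgroup.mem_normalizer_iff.1 (hN hf) a).1 ha
    rwa [d.E_inv hf.1] at this
  have hcent : ∀ f ∈ TF z t g, f ≠ 1 → ∀ a ∈ (P : Subgroup G), a * f = f * a → a ∈ Subgroup.zpowers x := by
    intro f hf hf1 a ha haf
    have hat : a * t = t * a := by
      have : a ∈ Subgroup.centralizer ({f} : Set G) := mem_C.2 haf
      rw [(c.cent_f d h hf hf1).2] at this
      exact mem_C.1 this
    refine hfive a (D.comm h ha D.sub) hat (orderOf_dvd_iff_pow_eq_one.1 ?_)
    have h1 := Subgroup.orderOf_dvd_natCard _ ha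
    have h2 := Subgroup.orderOf_dvd_natCard
      (Subgroup.centralizer ({x} : Set G) ⊓ Subgroup.centralizer ({t} : Set G))
      (Subgroup.mem_inf.2 ⟨D.le_cent h ha, mem_C.2 hat⟩)
    rw [h.five_card_sylow P] at h1
    rw [h20] at h2
    simpa using Nat.dvd_gcd h1 h2
  have hle : ∀ p ∈ (P : Subgroup G), p ∈ Subgroup.zpowers x := by
    intro p hp
    have htu : t * u ≠ 1 := fun e => hwt
      ((inv_eq_of_mul_eq_one_right e).symm.trans (Invol.inv_eq_self d.outer.ord))
    have h2 : p * p ∈ Subgroup.zpowers x :=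
      four_fixed (P := (P : Subgroup G)) (fun a ha b hb => D.comm h ha hb) (Invol.mul_self_eq_one d.outer.ord)
        (d.E_sq huF.1) (d.E_comm d.t_mem_F.1 huF.1) (hnf t d.t_mem_F) (hnf u huF)
        (hcent t d.t_mem_F (Invol.ne_one d.outer.ord))
        (hcent u huF fun e => Invol.ne_one d.outer.ord (conj_eq_one_iff.1 e))
        (hcent _ (mul_mem d.t_mem_F huF) htu) hp
    have h25 : p ^ 25 = 1 := orderOf_dvd_iff_pow_eq_one.1 (by
      have := Subgroup.orderOf_dvd_natCard _ hp
      rwa [h.five_card_sylow P] at this)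
    have := pow_mem h2 13
    rwa [← pow_two, ← pow_mul, show 2 * 13 = 25 + 1 from rfl, pow_succ, h25, one_mul] at this
  have := Subgroup.card_le_of_le (show (P : Subgroup G) ≤ Subgroup.zpowers x from hle)
  rw [h.five_card_sylow P, Nat.card_zpowers, D.ord] at this
  omega

theorem FiveData.card_norm_x (D : FiveData z Q t s g K x P) (c : Split z Q t g K) (d : CT z Q t s g)
    (h : HJ z Q) : Nat.card (Subgroup.normalizer (Subgroup.zpowers x : Set G)) = 600 := by
  classical
  haveI : Fact (Nat.Prime 2) := ⟨Nat.prime_two⟩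
  obtain ⟨-, ⟨k, hk, hkx⟩, hauto⟩ := c.K_five d h D.mem D.ord
  obtain ⟨-, -, -, hFx⟩ := c.x_facts d h D.mem D.ord
  have hYc := c.card_cent_five d h D.mem D.ord
  set Y := Subgroup.centralizer ({x} : Set G) with hY
  set N0 := Subgroup.normalizer (Subgroup.zpowers x : Set G) with hN0
  have hYN : Y ≤ N0 := fun a ha => mem_zpowers_norm (by
    rw [mem_C.1 ha, mul_inv_cancel_right]; exact Subgroup.mem_zpowers x)
  have hkN : k ∈ N0 := mem_zpowers_norm (by rw [hkx]; exact inv_mem (Subgroup.mem_zpowers x))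
  have hkY : k ∉ Y := fun e => by
    rw [mul_inv_eq_iff_eq_mul.2 (mem_C.1 e)] at hkx
    have h2 := orderOf_dvd_iff_pow_eq_one.2 (show x ^ 2 = 1 by rw [pow_two]; exact mul_eq_one_iff_eq_inv.2 hkx)
    rw [D.ord] at h2
    norm_num at h2
  have hfrat : ∀ n ∈ N0, n * x * n⁻¹ = x ∨ n * x * n⁻¹ = x⁻¹ := by
    intro n hn
    have hnx : n * x * n⁻¹ ∈ Subgroup.zpowers x := (Subgroup.mem_normalizer_iff.1 hn x).1 (Subgroup.mem_zpowers x)
    have hnY : ∀ a ∈ Y, n * a * n⁻¹ ∈ Y := by
      intro a ha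
      have heq : Subgroup.zpowers (n * x * n⁻¹) = Subgroup.zpowers x :=
        Subgroup.eq_of_le_of_card_ge (Subgroup.zpowers_le.2 hnx)
          (by rw [Nat.card_zpowers, Nat.card_zpowers, Invol.orderOf_conj])
      obtain ⟨i, hi⟩ := Subgroup.mem_zpowers_iff.1 (heq.symm ▸ Subgroup.mem_zpowers x : x ∈ Subgroup.zpowers (n * x * n⁻¹))
      refine mem_C.2 ?_
      have hc : Commute (n * a * n⁻¹) (n * x * n⁻¹) :=
        calc n * a * n⁻¹ * (n * x * n⁻¹) = n * (a * x) * n⁻¹ := by group
          _ = n * (x * a) * n⁻¹ := by rw [mem_C.1 ha]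
          _ = _ := by group
      rw [← hi]
      exact (hc.zpow_right i).eq
    set F' := (TF z t g).subgroupOf Y
    have hF'card : Nat.card F' = 2 ^ 2 := by
      rw [Nat.card_congr (Subgroup.subgroupOfEquivOfLe hFx).toEquiv, d.card_TF h]; norm_num
    have hfac : Nat.card F' = 2 ^ (Nat.card Y).factorization 2 := by
      rw [hF'card, hYc, show 300 = 2 ^ 2 * 75 from rfl, Nat.factorization_mul (by norm_num) (by norm_num),
        Finsupp.add_apply, Nat.Prime.factorization_pow Nat.prime_two, Finsupp.single_eq_same,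
        Nat.factorization_eq_zero_of_not_dvd (by norm_num : ¬ 2 ∣ 75)]
    let f0 : F' →* Y := MonoidHom.mk' (fun a => ⟨n * ((a : Y) : G) * n⁻¹, hnY _ (a : Y).2⟩) fun a b =>
      Subtype.ext (by push_cast; group)
    have hf0 : Function.Injective f0 := fun a b e => Subtype.ext (Subtype.ext
      (mul_left_cancel (mul_right_cancel (congrArg Subtype.val e))))
    have hfac' : Nat.card f0.range = 2 ^ (Nat.card Y).factorization 2 := by
      rw [← Nat.card_congr (MonoidHom.ofInjective hf0).toEquiv, hfac]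
    let S0 := Sylow.ofCard F' hfac
    let S1 := Sylow.ofCard f0.range hfac'
    obtain ⟨a, ha⟩ := MulAction.exists_smul_eq Y S1 S0
    set n' := (a : G) * n with hn'
    have hn'F : n' ∈ Subgroup.normalizer (TF z t g : Set G) := by
      refine conj_mem_normalizer_iff fun f hf => ?_
      have hm : a * f0 ⟨⟨f, hFx hf⟩, hf⟩ * a⁻¹ ∈ (S0 : Subgroup Y) := by
        rw [← ha]
        exact Subgroup.mem_map.2 ⟨_, MonoidHom.mem_range.2 ⟨_, rfl⟩, rfl⟩
      have hm' : (a : G) * (n * f * n⁻¹) * (a : G)⁻¹ ∈ TF z t g := hm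
      convert hm' using 1
      rw [hn']
      group
    obtain ⟨A, -, -, -, hcomm, -, -, hdec⟩ := c.N_decomp d h
    obtain ⟨b, hb, k', hk', e⟩ := hdec n' hn'F
    have hax : n' * x * n'⁻¹ = n * x * n⁻¹ := by
      obtain ⟨i, hi⟩ := Subgroup.mem_zpowers_iff.1 hnx
      rw [hn', show (a : G) * n * x * ((a : G) * n)⁻¹ = (a : G) * (n * x * n⁻¹) * (a : G)⁻¹ by group, ← hi,
        ((show Commute (a : G) x from mem_C.1 a.2).zpow_right i).eq, mul_inv_cancel_right]
    have hbk : b * (k' * x * k'⁻¹) * b⁻¹ = k' * x * k'⁻¹ := by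
      rw [hcomm b hb _ (mul_mem (mul_mem hk' D.mem) (inv_mem hk')), mul_inv_cancel_right]
    rw [← hax, e, show b * k' * x * (b * k')⁻¹ = b * (k' * x * k'⁻¹) * b⁻¹ by group, hbk]
    refine hauto k' hk' ?_
    rw [← hbk, show b * (k' * x * k'⁻¹) * b⁻¹ = b * k' * x * (b * k')⁻¹ by group, ← e, hax]
    exact hnx
  let w : Bool × Y → N0 := fun p => ⟨(if p.1 then k else 1) * (p.2 : G),
    mul_mem (by split_ifs <;> [exact hkN; exact one_mem _]) (hYN p.2.2)⟩
  have hw : Function.Bijective w := by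
    constructor
    · rintro ⟨a, u⟩ ⟨b, v⟩ e
      have e' : (if a then k else 1) * (u : G) = (if b then k else 1) * (v : G) := congrArg Subtype.val e
      have hbad : ∀ u v : Y, k * (u : G) ≠ (v : G) := fun u v e => hkY (by
        have : k = (v : G) * (u : G)⁻¹ := eq_mul_inv_of_mul_eq e
        rw [this]; exact mul_mem v.2 (inv_mem u.2))
      cases a <;> cases b <;> simp only [if_true, Bool.false_eq_true, if_false, one_mul] at e'
      · rw [Subtype.ext e']
      · exact absurd e'.symm (hbad _ _)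
      · exact absurd e' (hbad _ _)
      · rw [Subtype.ext (mul_left_cancel e')]
    · rintro ⟨n, hn⟩
      rcases hfrat n hn with e | e
      · exact ⟨(false, ⟨n, mem_C.2 (mul_inv_eq_iff_eq_mul.1 e)⟩), Subtype.ext (by simp [w])⟩
      · refine ⟨(true, ⟨k⁻¹ * n, mem_C.2 (mul_inv_eq_iff_eq_mul.1 ?_)⟩), Subtype.ext ?_⟩
        · rw [show k⁻¹ * n * x * (k⁻¹ * n)⁻¹ = k⁻¹ * (n * x * n⁻¹) * k by group, e, ← hkx]
          group
        · show k * (k⁻¹ * n) = n
          rw [mul_inv_cancel_left]
  rw [← Nat.card_eq_of_bijective w hw, Nat.card_prod, Nat.card_eq_fintype_card, Fintype.card_bool, hYc]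

theorem FiveData.card_stab_x (D : FiveData z Q t s g K x P) (c : Split z Q t g K) (d : CT z Q t s g)
    (h : HJ z Q) : Nat.card ↥(Subgroup.normalizer (Subgroup.zpowers x : Set G) ⊓
      Subgroup.normalizer ((P : Subgroup G) : Set G)) = 100 := by
  haveI : Fact (Nat.Prime 5) := ⟨by norm_num⟩
  set N0 := Subgroup.normalizer (Subgroup.zpowers x : Set G) with hN0
  set NP := Subgroup.normalizer ((P : Subgroup G) : Set G) with hNP
  have hYN : Subgroup.centralizer ({x} : Set G) ≤ N0 := fun a ha => mem_zpowers_norm (by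
    rw [mem_C.1 ha, mul_inv_cancel_right]; exact Subgroup.mem_zpowers x)
  have hN0c : Nat.card N0 = 600 := D.card_norm_x c d h
  have hPN : (P : Subgroup G) ≤ N0 := (D.le_cent h).trans hYN
  let P' : Sylow 5 N0 := P.subtype hPN
  have hP'c : Nat.card (P' : Subgroup N0) = 25 := by
    rw [show (P' : Subgroup N0) = (P : Subgroup G).subgroupOf N0 from rfl,
      Nat.card_congr (Subgroup.subgroupOfEquivOfLe hPN).toEquiv, h.five_card_sylow P]
  have hmap : Nat.card (Subgroup.normalizer ((P' : Subgroup N0) : Set N0)) = Nat.card ↥(N0 ⊓ NP) := by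
    refine Nat.card_congr
      { toFun := fun a => ⟨((a : N0) : G), (a : N0).2, conj_mem_normalizer_iff fun b hb => ?_⟩
        invFun := fun a => ⟨⟨(a : G), a.2.1⟩, Subgroup.mem_normalizer_iff.2 fun b =>
          Subgroup.mem_normalizer_iff.1 a.2.2 (b : G)⟩
        left_inv := fun a => rfl
        right_inv := fun a => rfl }
    exact (Subgroup.mem_normalizer_iff.1 a.2 ⟨b, hPN hb⟩).1 hb
  have hi := (Subgroup.normalizer ((P' : Subgroup N0) : Set N0)).card_mul_index
  have hmod := card_sylow_modEq_one 5 N0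
  rw [Sylow.card_eq_index_normalizer P'] at hmod
  have h25 : 25 ∣ Nat.card (Subgroup.normalizer ((P' : Subgroup N0) : Set N0)) :=
    hP'c ▸ Subgroup.card_dvd_of_le Subgroup.le_normalizer
  obtain ⟨m, hm⟩ := h25
  rw [hN0c, hm] at hi
  have hdvd : (Subgroup.normalizer ((P' : Subgroup N0) : Set N0)).index ∣ 24 := ⟨m, by nlinarith⟩
  have hcase : (Subgroup.normalizer ((P' : Subgroup N0) : Set N0)).index = 1 ∨
      (Subgroup.normalizer ((P' : Subgroup N0) : Set N0)).index = 6 := by
    have hle := Nat.le_of_dvd (by norm_num) hdvd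
    generalize (Subgroup.normalizer ((P' : Subgroup N0) : Set N0)).index = n at hdvd hle hmod
    rw [Nat.ModEq] at hmod
    interval_cases n <;> first | omega | (norm_num at hdvd)
  rcases hcase with e | e
  · exfalso
    refine D.not_norm c d h fun f hf => ?_
    obtain ⟨-, -, -, hFx⟩ := c.x_facts d h D.mem D.ord
    have htop := Subgroup.index_eq_one.1 e
    refine conj_mem_normalizer_iff fun b hb => ?_
    exact (Subgroup.mem_normalizer_iff.1
      (htop.ge (Subgroup.mem_top (⟨f, hYN (hFx hf)⟩ : N0))) ⟨b, hPN hb⟩).1 hb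
  · rw [e] at hi
    rw [← hmap, hm]
    omega

theorem FiveData.centralizer_eq (D : FiveData z Q t s g K x P) (c : Split z Q t g K) (d : CT z Q t s g)
    (h : HJ z Q) : Subgroup.centralizer ((P : Subgroup G) : Set G) = (P : Subgroup G) := by
  haveI : Fact (Nat.Prime 2) := ⟨Nat.prime_two⟩
  have hP25 := h.five_card_sylow P
  set CP := Subgroup.centralizer ((P : Subgroup G) : Set G) with hCP
  have hle : (P : Subgroup G) ≤ CP := fun a ha => Subgroup.mem_centralizer_iff.2 fun b hb => D.comm h hb ha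
  have hd : Nat.card CP ∣ 100 := by
    rw [← D.card_stab_x c d h]
    refine Subgroup.card_dvd_of_le fun a ha => ⟨mem_zpowers_norm ?_, conj_mem_normalizer_iff fun b hb => ?_⟩
    · rw [← Subgroup.mem_centralizer_iff.1 ha x D.sub, mul_inv_cancel_right]; exact Subgroup.mem_zpowers x
    · rw [← Subgroup.mem_centralizer_iff.1 ha b hb, mul_inv_cancel_right]; exact hb
  have hodd : ¬ 2 ∣ Nat.card CP := fun e => by
    obtain ⟨⟨a, ha⟩, hao⟩ := exists_prime_orderOf_dvd_card' 2 e
    rw [Subgroup.orderOf_mk] at hao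
    have hsub : (P : Subgroup G) ≤ Subgroup.centralizer ({a} : Set G) := fun b hb =>
      mem_C.2 (Subgroup.mem_centralizer_iff.1 ha b hb)
    have := Subgroup.card_dvd_of_le hsub
    rw [hP25] at this
    rcases h.involution_cent hao with e' | e' <;> rw [e'] at this <;> norm_num at this
  refine (Subgroup.eq_of_le_of_card_ge hle ?_).symm
  rw [hP25]
  exact Nat.le_of_dvd (by norm_num)
    ((((Nat.prime_two.coprime_iff_not_dvd).2 hodd).symm.pow_right 2).dvd_of_dvd_mul_left
      (by simpa using hd : Nat.card CP ∣ 2 ^ 2 * 25))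

/-- The subgroups of order 5 of `P`. -/
abbrev Lines (P : Sylow 5 G) : Type _ := {W : Subgroup G // W ≤ (P : Subgroup G) ∧ Nat.card W = 5}

theorem FiveData.card_lines (D : FiveData z Q t s g K x P) (h : HJ z Q) : Nat.card (Lines P) ≤ 6 := by
  classical
  haveI : Fintype (Lines P) := Fintype.ofFinite _
  let f : (Σ W : Lines P, {a : W.1 // a ≠ 1}) → {a : (P : Subgroup G) // a ≠ 1} := fun q =>
    ⟨⟨(q.2.1 : G), q.1.2.1 q.2.1.2⟩, fun e => q.2.2 (Subtype.ext (congrArg Subtype.val e : (q.2.1 : G) = 1))⟩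
  have hf : Function.Injective f := by
    rintro ⟨W1, a1⟩ ⟨W2, a2⟩ e
    have e' : (a1.1 : G) = (a2.1 : G) := congrArg (fun q : {a : (P : Subgroup G) // a ≠ 1} => (q.1 : G)) e
    have h1 : (a1.1 : G) ≠ 1 := fun e1 => a1.2 (Subtype.ext e1)
    have hW : W1 = W2 := Subtype.ext (by
      have hmem : (a1.1 : G) ∈ W2.1 := by rw [e']; exact a2.1.2
      rw [← mem_zpowers_of_card_five W1.2.2 a1.1.2 h1, ← mem_zpowers_of_card_five W2.2.2 hmem h1])
    subst hW
    exact Sigma.ext rfl (heq_of_eq (Subtype.ext (Subtype.ext e')))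
  have hc := Nat.card_le_card_of_injective f hf
  have h4 : ∀ W : Lines P, Nat.card {a : W.1 // a ≠ 1} = 4 := fun W => by
    haveI : Fintype W.1 := Fintype.ofFinite _
    rw [Nat.card_eq_fintype_card, Fintype.card_subtype_compl, Fintype.card_subtype_eq,
      ← Nat.card_eq_fintype_card, W.2.2]
  have h24 : Nat.card {a : (P : Subgroup G) // a ≠ 1} = 24 := by
    haveI : Fintype (P : Subgroup G) := Fintype.ofFinite _
    rw [Nat.card_eq_fintype_card, Fintype.card_subtype_compl, Fintype.card_subtype_eq,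
      ← Nat.card_eq_fintype_card, h.five_card_sylow P]
  rw [Nat.card_sigma, h24, Finset.sum_congr rfl (fun W _ => h4 W), Finset.sum_const, Finset.card_univ,
    ← Nat.card_eq_fintype_card, smul_eq_mul] at hc
  omega

theorem FiveData.orbits_full (D : FiveData z Q t s g K x P) (c : Split z Q t g K) (d : CT z Q t s g)
    (h : HJ z Q) : Nat.card (Subgroup.normalizer ((P : Subgroup G) : Set G)) = 300 ∧
      ∃ q y : G, orderOf y = 5 ∧ y * z = z * y ∧
        (∀ a : G, (Subgroup.zpowers x).map (MulAut.conj a).toMonoidHom ≠ Subgroup.zpowers (q * y * q⁻¹)) ∧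
        ∀ W : Subgroup G, Nat.card W = 5 →
          ∃ a : G, W.map (MulAut.conj a).toMonoidHom = Subgroup.zpowers x ∨
            W.map (MulAut.conj a).toMonoidHom = Subgroup.zpowers (q * y * q⁻¹) := by
  classical
  haveI : Fact (Nat.Prime 5) := ⟨by norm_num⟩
  haveI : Fact (Nat.Prime 3) := ⟨Nat.prime_three⟩
  haveI : Fact (Nat.Prime 2) := ⟨Nat.prime_two⟩
  set M := Subgroup.normalizer ((P : Subgroup G) : Set G) with hM
  have hmapmul : ∀ (a b : G) (W : Subgroup G), W.map (MulAut.conj (a * b)).toMonoidHom =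
      (W.map (MulAut.conj b).toMonoidHom).map (MulAut.conj a).toMonoidHom := fun a b W => by
    rw [Subgroup.map_map]
    refine congrArg (fun f => W.map f) (MonoidHom.ext fun w => ?_)
    show a * b * w * (a * b)⁻¹ = a * (b * w * b⁻¹) * a⁻¹
    group
  have hmap1 : ∀ W : Subgroup G, W.map (MulAut.conj (1 : G)).toMonoidHom = W := fun W => by
    rw [show (MulAut.conj (1 : G)).toMonoidHom = MonoidHom.id G from MonoidHom.ext fun w => by simp,
      Subgroup.map_id]
  have hmapcard : ∀ (a : G) (W : Subgroup G), Nat.card (W.map (MulAut.conj a).toMonoidHom) = Nat.card W :=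
    fun a W => (Nat.card_congr (Subgroup.equivMapOfInjective _ _ (MulAut.conj a).injective).toEquiv).symm
  letI : MulAction M (Lines P) :=
    { smul := fun a W => ⟨(W.1).map (MulAut.conj (a : G)).toMonoidHom, by
        rintro _ ⟨b, hb, rfl⟩
        exact (Subgroup.mem_normalizer_iff.1 a.2 b).1 (W.2.1 hb), by rw [hmapcard, W.2.2]⟩
      one_smul := fun W => Subtype.ext (hmap1 W.1)
      mul_smul := fun a b W => Subtype.ext (hmapmul a b W.1) }
  have horb : ∀ W : Lines P, Nat.card (MulAction.orbit M W) * Nat.card (MulAction.stabilizer M W) = Nat.card M :=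
    fun W => by
      rw [Nat.card_congr (MulAction.orbitEquivQuotientStabilizer M W),
        ← Subgroup.card_eq_card_quotient_mul_card_subgroup]
  have hstab : ∀ (W : Lines P) (a : M), a ∈ MulAction.stabilizer M W →
      (a : G) ∈ Subgroup.normalizer (W.1 : Set G) := fun W a ha =>
    conj_mem_normalizer_iff fun b hb => by
      have e : (W.1).map (MulAut.conj (a : G)).toMonoidHom = W.1 :=
        congrArg Subtype.val (MulAction.mem_stabilizer_iff.1 ha)
      exact e.le (Subgroup.mem_map.2 ⟨b, hb, rfl⟩)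
  -- the first line
  let LX : Lines P := ⟨Subgroup.zpowers x, Subgroup.zpowers_le.2 D.sub, by rw [Nat.card_zpowers, D.ord]⟩
  have hsX : Nat.card (MulAction.stabilizer M LX) = 100 := by
    rw [← D.card_stab_x c d h]
    refine Nat.card_congr
      { toFun := fun a => ⟨((a : M) : G), hstab LX _ a.2, (a : M).2⟩
        invFun := fun a => ⟨⟨(a : G), a.2.2⟩, MulAction.mem_stabilizer_iff.2 (Subtype.ext ?_)⟩
        left_inv := fun a => rfl
        right_inv := fun a => rfl }
    refine Subgroup.eq_of_le_of_card_ge ?_ (hmapcard _ _).ge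
    rintro _ ⟨b, hb, rfl⟩
    exact (Subgroup.mem_normalizer_iff.1 a.2.1 b).1 hb
  set a := Nat.card (MulAction.orbit M LX) with ha
  have hMa : Nat.card M = a * 100 := by rw [← horb LX, hsX]
  have hl6 := D.card_lines h
  have ha6 : a ≤ Nat.card (Lines P) := Nat.card_le_card_of_injective _ Subtype.val_injective
  have ha3 : a = 3 := by
    have hi := M.card_mul_index
    rw [hMa, h.card_G] at hi
    have hmod := card_sylow_modEq_one 5 G
    rw [Sylow.card_eq_index_normalizer P] at hmod
    replace hmod : M.index % 5 = 1 := hmod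
    have ha7 : a ≤ 6 := ha6.trans hl6
    interval_cases a <;> omega
  have hM300 : Nat.card M = 300 := by rw [hMa, ha3]
  refine ⟨hM300, ?_⟩
  -- the second line
  obtain ⟨y, u, hy, hyz, -, -⟩ := h.exists_five_inverted
  obtain ⟨q, hq⟩ := exists_conj_mem P (n := 1) (by rw [hy, pow_one] : orderOf y = 5 ^ 1)
  set y' := q * y * q⁻¹ with hy'
  have hy'o : orderOf y' = 5 := by rw [hy', Invol.orderOf_conj, hy]
  have hnconj : ∀ b : G, (Subgroup.zpowers x).map (MulAut.conj b).toMonoidHom ≠ Subgroup.zpowers y' := by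
    intro b e
    -- the involution centralising the conjugate of `y`
    set z' := q * z * q⁻¹
    have hz'y : z' * y' = y' * z' := by
      calc q * z * q⁻¹ * (q * y * q⁻¹) = q * (z * y) * q⁻¹ := by group
        _ = q * (y * z) * q⁻¹ := by rw [hyz]
        _ = q * y * q⁻¹ * (q * z * q⁻¹) := by group
    have hxb : b * x * b⁻¹ ∈ Subgroup.zpowers y' := e.le (Subgroup.mem_map.2 ⟨x, Subgroup.mem_zpowers x, rfl⟩)
    obtain ⟨i, hi⟩ := Subgroup.mem_zpowers_iff.1 hxb
    set v := b⁻¹ * z' * b with hv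
    have hvx : v * x = x * v := by
      have hc : z' * (b * x * b⁻¹) = b * x * b⁻¹ * z' := by
        rw [← hi]; exact ((show Commute z' y' from hz'y).zpow_right i).eq
      calc b⁻¹ * z' * b * x = b⁻¹ * (z' * (b * x * b⁻¹)) * b := by group
        _ = b⁻¹ * (b * x * b⁻¹ * z') * b := by rw [hc]
        _ = x * (b⁻¹ * z' * b) := by group
    have hzv : IsConj z v := isConj_iff.2 ⟨b⁻¹ * q, by
      show b⁻¹ * q * z * (b⁻¹ * q)⁻¹ = b⁻¹ * (q * z * q⁻¹) * b
      group⟩
    obtain ⟨-, -, -, hFx⟩ := c.x_facts d h D.mem D.ord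
    set Y := Subgroup.centralizer ({x} : Set G)
    have hF'card : Nat.card ((TF z t g).subgroupOf Y) = 2 ^ (Nat.card Y).factorization 2 := by
      rw [Nat.card_congr (Subgroup.subgroupOfEquivOfLe hFx).toEquiv, d.card_TF h,
        c.card_cent_five d h D.mem D.ord, show 300 = 2 ^ 2 * 75 from rfl,
        Nat.factorization_mul (by norm_num) (by norm_num),
        Finsupp.add_apply, Nat.Prime.factorization_pow Nat.prime_two, Finsupp.single_eq_same,
        Nat.factorization_eq_zero_of_not_dvd (by norm_num : ¬ 2 ∣ 75)]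
      norm_num
    obtain ⟨l, hl⟩ := exists_conj_mem (Sylow.ofCard _ hF'card) (a := (⟨v, mem_C.2 hvx⟩ : Y)) (n := 1)
      (by rw [Subgroup.orderOf_mk, Invol.orderOf_eq_two_of_isConj hzv h.hz, pow_one])
    have hlF : (l : G) * v * (l : G)⁻¹ ∈ TF z t g := hl
    have hne : (l : G) * v * (l : G)⁻¹ ≠ 1 := fun e' =>
      Invol.ne_one (Invol.orderOf_eq_two_of_isConj hzv h.hz) (conj_eq_one_iff.1 e')
    exact h.outer_not_conj d.outer
      ((hzv.trans (isConj_iff.2 ⟨(l : G), rfl⟩)).trans (c.cent_f d h hlF hne).1.symm)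
  let LY : Lines P := ⟨Subgroup.zpowers y', Subgroup.zpowers_le.2 hq, by rw [Nat.card_zpowers, hy'o]⟩
  have hnot3 : ¬ 3 ∣ Nat.card (MulAction.stabilizer M LY) := fun e3 => by
    obtain ⟨e, he⟩ := exists_prime_orderOf_dvd_card' 3 e3
    have heo : orderOf ((e : M) : G) = 3 := by rwa [Subgroup.orderOf_coe, Subgroup.orderOf_coe]
    have he3 : ((e : M) : G) ^ 3 = 1 := orderOf_dvd_iff_pow_eq_one.1 heo.dvd
    have hfix := fixed_modEq (Subgroup.zpowers y') he3 fun b hb =>
      (Subgroup.mem_normalizer_iff.1 (hstab LY _ e.2) b).1 hb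
    rw [Nat.card_zpowers, hy'o] at hfix
    have hd5 := Subgroup.card_dvd_of_le
      (inf_le_left : Subgroup.zpowers y' ⊓ Subgroup.centralizer ({((e : M) : G)} : Set G) ≤ Subgroup.zpowers y')
    rw [Nat.card_zpowers, hy'o] at hd5
    have hall : Nat.card ↥(Subgroup.zpowers y' ⊓ Subgroup.centralizer ({((e : M) : G)} : Set G)) = 5 := by
      rcases (Nat.dvd_prime (by norm_num : Nat.Prime 5)).1 hd5 with e' | e'
      · rw [e'] at hfix; exact absurd hfix (by decide)
      · exact e'
    have hfixP := fixed_modEq (P : Subgroup G) he3 fun b hb =>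
      (Subgroup.mem_normalizer_iff.1 (e : M).2 b).1 hb
    rw [h.five_card_sylow P] at hfixP
    have hdP := Subgroup.card_dvd_of_le
      (inf_le_left : (P : Subgroup G) ⊓ Subgroup.centralizer ({((e : M) : G)} : Set G) ≤ (P : Subgroup G))
    rw [h.five_card_sylow P] at hdP
    have h5le : 5 ≤ Nat.card ↥((P : Subgroup G) ⊓ Subgroup.centralizer ({((e : M) : G)} : Set G)) :=
      hall.ge.trans (Subgroup.card_le_of_le (inf_le_inf_right _ (Subgroup.zpowers_le.2 hq)))
    have h25 : Nat.card ↥((P : Subgroup G) ⊓ Subgroup.centralizer ({((e : M) : G)} : Set G)) = 25 := by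
      obtain ⟨i, hi, e'⟩ := (Nat.dvd_prime_pow (by norm_num : Nat.Prime 5) (m := 2)).1 (hdP.trans (by norm_num))
      rw [e'] at h5le hfixP ⊢
      interval_cases i <;> first | (norm_num at h5le; done) | exact absurd hfixP (by decide) | norm_num
    have heq := Subgroup.eq_of_le_of_card_ge
      (inf_le_left : (P : Subgroup G) ⊓ Subgroup.centralizer ({((e : M) : G)} : Set G) ≤ (P : Subgroup G))
      (by rw [h25, h.five_card_sylow P])
    have heP : ((e : M) : G) ∈ (P : Subgroup G) := by
      rw [← D.centralizer_eq c d h]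
      exact Subgroup.mem_centralizer_iff.2 fun b hb => mem_C.1 (heq.ge hb).2
    have := Subgroup.orderOf_dvd_natCard _ heP
    rw [heo, h.five_card_sylow P] at this
    norm_num at this
  set b := Nat.card (MulAction.orbit M LY) with hb
  have hb3 : 3 ∣ b := by
    have : 3 ∣ b * Nat.card (MulAction.stabilizer M LY) := by rw [hb, horb LY, hM300]; norm_num
    exact (Nat.prime_three.dvd_mul.1 this).resolve_right hnot3
  have hdisj : Disjoint (MulAction.orbit M LX) (MulAction.orbit M LY) := by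
    rw [Set.disjoint_left]
    intro W hW1 hW2
    obtain ⟨m1, hm1⟩ := hW1
    obtain ⟨m2, hm2⟩ := hW2
    have e : (m2⁻¹ * m1) • LX = LY := by
      rw [mul_smul, show m1 • LX = W from hm1, ← show m2 • LY = W from hm2, inv_smul_smul]
    exact hnconj _ (congrArg Subtype.val e)
  have hsum : a + b ≤ Nat.card (Lines P) := by
    rw [ha, hb, Nat.card_coe_set_eq, Nat.card_coe_set_eq, ← Set.ncard_union_eq hdisj, ← Set.ncard_univ]
    exact Set.ncard_le_ncard (Set.subset_univ _)
  have hbpos : 0 < b := by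
    haveI : Nonempty (MulAction.orbit M LY) := ⟨⟨LY, MulAction.mem_orbit_self LY⟩⟩
    exact Nat.card_pos
  have hall : MulAction.orbit M LX ∪ MulAction.orbit M LY = Set.univ := by
    refine Set.eq_of_subset_of_ncard_le (Set.subset_univ _) ?_
    rw [Set.ncard_univ, Set.ncard_union_eq hdisj, ← Nat.card_coe_set_eq, ← Nat.card_coe_set_eq, ← ha, ← hb]
    obtain ⟨j, hj⟩ := hb3
    omega
  refine ⟨q, y, hy, hyz, hnconj, fun W hW => ?_⟩
  obtain ⟨P', hP'⟩ := (IsPGroup.of_card (n := 1) (by rw [hW, pow_one]) : IsPGroup 5 W).exists_le_sylow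
  obtain ⟨r, hr⟩ := MulAction.exists_smul_eq G P' P
  let LW : Lines P := ⟨W.map (MulAut.conj r).toMonoidHom, by
    rintro _ ⟨v, hv, rfl⟩
    rw [← hr]
    exact Subgroup.mem_map.2 ⟨v, hP' hv, rfl⟩, by rw [hmapcard, hW]⟩
  rcases (hall.ge (Set.mem_univ LW) : LW ∈ MulAction.orbit M LX ∪ MulAction.orbit M LY) with hL | hL
  all_goals
    obtain ⟨m, hm⟩ := hL
    refine ⟨(m : G)⁻¹ * r, ?_⟩
    have e := congrArg (fun V : Lines P => (V.1).map (MulAut.conj (m : G)⁻¹).toMonoidHom) hm
    have e' : ∀ V : Lines P, ((m • V).1).map (MulAut.conj (m : G)⁻¹).toMonoidHom = V.1 := fun V => by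
      show ((V.1).map (MulAut.conj (m : G)).toMonoidHom).map (MulAut.conj (m : G)⁻¹).toMonoidHom = V.1
      rw [← hmapmul, inv_mul_cancel, hmap1]
  · left
    rw [hmapmul]
    exact ((e' LX).symm.trans e).symm
  · right
    rw [hmapmul]
    exact ((e' LY).symm.trans e).symm

theorem FiveData.orbits (D : FiveData z Q t s g K x P) (c : Split z Q t g K) (d : CT z Q t s g)
    (h : HJ z Q) : Nat.card (Subgroup.normalizer ((P : Subgroup G) : Set G)) = 300 ∧
      ∃ X Y : Subgroup G, Nat.card X = 5 ∧ Nat.card Y = 5 ∧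
        (∀ a : G, X.map (MulAut.conj a).toMonoidHom ≠ Y) ∧
        ∀ W : Subgroup G, Nat.card W = 5 →
          ∃ a : G, W.map (MulAut.conj a).toMonoidHom = X ∨ W.map (MulAut.conj a).toMonoidHom = Y := by
  obtain ⟨hM, q, y, hy, -, hne, hall⟩ := D.orbits_full c d h
  exact ⟨hM, _, _, by rw [Nat.card_zpowers, D.ord], by rw [Nat.card_zpowers, Invol.orderOf_conj, hy], hne, hall⟩

end CT

end Cfsg.Agent.HallJanko
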