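import Cfsg.Agent.HallJanko.Setting

/-!
The action of the centraliser on the five classes of non-central involutions of the extraspecial group.
-/

set_option autoImplicit false

namespace Cfsg.Agent.HallJanko

variable {G : Type*} [Group G] {z : G} {Q : Subgroup G}

namespace Frame

variable (F : Frame z Q) (h : HJCore z Q)

/-- The embedding of the model. -/
def ι : M →* G := F.base.hom

theorem ι_zM : F.ι M.zM = z := F.base.hom_zM

theorem ι_zp (a : ZMod 2) : F.ι (M.zp a) = pw z a := F.base.hom_zp a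

theorem ι_e (i : Fin 4) : F.ι (M.e i.castSucc) = F.s i := F.base.hom_e i

theorem ι_inj : Function.Injective F.ι := F.base.hom_injective

include h

theorem ι_range [Finite G] : F.ι.range = Q := F.base.range_eq h.card h.zmem F.mem

theorem ι_mem [Finite G] (x : M) : F.ι x ∈ Q := (F.ι_range h).le (MonoidHom.mem_range.2 ⟨x, rfl⟩)

theorem ι_surj [Finite G] {q : G} (hq : q ∈ Q) : ∃ x, F.ι x = q :=
  MonoidHom.mem_range.1 (by rw [F.ι_range h]; exact hq)

theorem ι_comm [Finite G] (x : M) : F.ι x * z = z * F.ι x := h.le _ (F.ι_mem h x)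

theorem exists_class [Finite G] {c : G} (hc : c * z = z * c) (i : Fin 5) :
    ∃ j, ∃ a, c * F.ι (M.e i) * c⁻¹ = F.ι (M.zp a * M.e j) := by
  obtain ⟨x, hx⟩ := F.ι_surj h (h.normal c hc _ (F.ι_mem h (M.e i)))
  have hx2 : x * x = 1 := F.ι_inj (by
    rw [map_mul, map_one, hx]
    calc c * F.ι (M.e i) * c⁻¹ * (c * F.ι (M.e i) * c⁻¹) = c * (F.ι (M.e i) * F.ι (M.e i)) * c⁻¹ := by group
      _ = 1 := by rw [← map_mul, M.e_mul_self, map_one]; group)
  rcases M.inv_cases x hx2 with rfl | rfl | ⟨j, a, rfl⟩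
  · rw [map_one, eq_comm, conj_eq_one_iff, ← F.ι.map_one] at hx
    exact absurd (F.ι_inj hx) (M.e_ne i).1
  · rw [F.ι_zM] at hx
    have e : F.ι (M.e i) = F.ι M.zM := by
      rw [F.ι_zM]
      calc F.ι (M.e i) = c⁻¹ * (c * F.ι (M.e i) * c⁻¹) * c := by group
        _ = c⁻¹ * z * c := by rw [← hx]
        _ = z := by rw [mul_assoc, ← hc]; group
    exact absurd (F.ι_inj e) (M.e_ne i).2
  · exact ⟨j, a, hx.symm⟩

omit h in
theorem class_unique {i j : Fin 5} {a b : ZMod 2} (e : F.ι (M.zp a * M.e i) = F.ι (M.zp b * M.e j)) :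
    i = j :=
  (M.e_class i j a b (F.ι_inj e)).2

/-- The class of the image of the `i`-th class. -/
noncomputable def cls [Finite G] (c : ↥(Subgroup.centralizer ({z} : Set G))) (i : Fin 5) : Fin 5 :=
  (F.exists_class h (mem_C.1 c.2) i).choose

theorem cls_spec [Finite G] (c : ↥(Subgroup.centralizer ({z} : Set G))) (i : Fin 5) :
    ∃ a, (c : G) * F.ι (M.e i) * (c : G)⁻¹ = F.ι (M.zp a * M.e (F.cls h c i)) :=
  (F.exists_class h (mem_C.1 c.2) i).choose_spec

theorem cls_eq [Finite G] (c : ↥(Subgroup.centralizer ({z} : Set G))) {i j : Fin 5} {a : ZMod 2}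
    (e : (c : G) * F.ι (M.e i) * (c : G)⁻¹ = F.ι (M.zp a * M.e j)) : F.cls h c i = j := by
  obtain ⟨b, hb⟩ := F.cls_spec h c i
  exact F.class_unique (hb.symm.trans e)

theorem conj_zp [Finite G] {c : G} (hc : c * z = z * c) (a : ZMod 2) (x : M) :
    c * F.ι (M.zp a * x) * c⁻¹ = pw z a * (c * F.ι x * c⁻¹) := by
  rw [map_mul, F.ι_zp, ← mul_assoc c, ← pw_comm hc.symm]
  group

theorem cls_mul [Finite G] (c d : ↥(Subgroup.centralizer ({z} : Set G))) (i : Fin 5) :
    F.cls h (c * d) i = F.cls h c (F.cls h d i) := by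
  obtain ⟨a, ha⟩ := F.cls_spec h d i
  obtain ⟨b, hb⟩ := F.cls_spec h c (F.cls h d i)
  refine F.cls_eq h _ (a := a + b) ?_
  calc ((c * d : ↥(Subgroup.centralizer ({z} : Set G))) : G) * F.ι (M.e i) * ((c * d : ↥(Subgroup.centralizer ({z} : Set G))) : G)⁻¹
      = (c : G) * ((d : G) * F.ι (M.e i) * (d : G)⁻¹) * (c : G)⁻¹ := by push_cast; group
    _ = pw z a * F.ι (M.zp b * M.e (F.cls h c (F.cls h d i))) := by
        rw [ha, F.conj_zp h (mem_C.1 c.2), hb]
    _ = _ := by rw [map_mul, map_mul, F.ι_zp, F.ι_zp, pw_add h.zsq]; group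

theorem cls_one [Finite G] (i : Fin 5) : F.cls h 1 i = i :=
  F.cls_eq h 1 (a := 0) (by simp [M.zp_zero])

/-- The homomorphism to the permutations of the five classes. -/
noncomputable def ρ [Finite G] : ↥(Subgroup.centralizer ({z} : Set G)) →* Equiv.Perm (Fin 5) where
  toFun c :=
    { toFun := F.cls h c
      invFun := F.cls h c⁻¹
      left_inv := fun i => by rw [← F.cls_mul h, inv_mul_cancel, F.cls_one h]
      right_inv := fun i => by rw [← F.cls_mul h, mul_inv_cancel, F.cls_one h] }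
  map_one' := Equiv.ext fun i => F.cls_one h i
  map_mul' c d := Equiv.ext fun i => F.cls_mul h c d i

open scoped Classical in
/-- The permutation attached to an element commuting with `z`. -/
noncomputable def π [Finite G] (c : G) : Equiv.Perm (Fin 5) :=
  if hc : c ∈ Subgroup.centralizer ({z} : Set G) then F.ρ h ⟨c, hc⟩ else 1

theorem π_eq_ρ [Finite G] {c : G} (hc : c * z = z * c) : F.π h c = F.ρ h ⟨c, mem_C.2 hc⟩ := by
  simp [π, dif_pos (mem_C.2 hc : c ∈ Subgroup.centralizer ({z} : Set G))]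

theorem π_spec [Finite G] {c : G} (hc : c * z = z * c) (i : Fin 5) :
    ∃ a, c * F.ι (M.e i) * c⁻¹ = F.ι (M.zp a * M.e (F.π h c i)) := by
  rw [F.π_eq_ρ h hc]
  exact F.cls_spec h ⟨c, mem_C.2 hc⟩ i

theorem π_eq_of [Finite G] {c : G} (hc : c * z = z * c) {i j : Fin 5} {a : ZMod 2}
    (e : c * F.ι (M.e i) * c⁻¹ = F.ι (M.zp a * M.e j)) : F.π h c i = j := by
  rw [F.π_eq_ρ h hc]
  exact F.cls_eq h ⟨c, mem_C.2 hc⟩ e

theorem π_mul [Finite G] {c d : G} (hc : c * z = z * c) (hd : d * z = z * d) :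
    F.π h (c * d) = F.π h c * F.π h d := by
  rw [F.π_eq_ρ h hc, F.π_eq_ρ h hd, F.π_eq_ρ h ((show Commute c z from hc).mul_left hd).eq, ← map_mul]
  rfl

theorem π_one [Finite G] : F.π h (1 : G) = 1 := by
  rw [F.π_eq_ρ h (by simp)]
  exact map_one _

theorem π_inv [Finite G] {c : G} (hc : c * z = z * c) : F.π h c⁻¹ = (F.π h c)⁻¹ := by
  rw [F.π_eq_ρ h hc, F.π_eq_ρ h (show Commute c z from hc).inv_left.eq, ← map_inv]
  rfl

theorem π_pow [Finite G] {c : G} (hc : c * z = z * c) (n : ℕ) : F.π h (c ^ n) = F.π h c ^ n := by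
  rw [F.π_eq_ρ h hc, F.π_eq_ρ h ((show Commute c z from hc).pow_left n).eq, ← map_pow]
  rfl

theorem π_conj [Finite G] {c d : G} (hc : c * z = z * c) (hd : d * z = z * d) :
    F.π h (c * d * c⁻¹) = F.π h c * F.π h d * (F.π h c)⁻¹ := by
  rw [F.π_mul h ((show Commute c z from hc).mul_left hd).eq (show Commute c z from hc).inv_left.eq,
    F.π_mul h hc hd, F.π_inv h hc]

theorem π_eq_one_iff [Finite G] {c : G} (hc : c * z = z * c) : F.π h c = 1 ↔ c ∈ Q := by
  constructor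
  · intro e
    have hs : ∀ i : Fin 4, ∃ a, c * F.ι (M.e i.castSucc) * c⁻¹ = F.ι (M.zp a * M.e i.castSucc) := fun i => by
      obtain ⟨a, ha⟩ := F.π_spec h hc i.castSucc
      rw [e, Equiv.Perm.one_apply] at ha
      exact ⟨a, ha⟩
    choose a ha using hs
    obtain ⟨q, q0, q1, q2, q3⟩ := M.signs_inner (a 0) (a 1) (a 2) (a 3)
    have hcz : (F.ι q)⁻¹ * c * z = z * ((F.ι q)⁻¹ * c) :=
      (((show Commute (F.ι q) z from F.ι_comm h q).inv_left).mul_left hc).eq
    let f : M →* G := (MulAut.conj ((F.ι q)⁻¹ * c)).toMonoidHom.comp F.ι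
    have hfe : f = F.ι := by
      refine F.base.ext_base ?_ fun i => ?_
      · show (F.ι q)⁻¹ * c * F.ι M.zM * ((F.ι q)⁻¹ * c)⁻¹ = F.ι M.zM
        rw [F.ι_zM, hcz, mul_inv_cancel_right]
      · show (F.ι q)⁻¹ * c * F.ι (M.e i.castSucc) * ((F.ι q)⁻¹ * c)⁻¹ = F.ι (M.e i.castSucc)
        have hq : q * M.e i.castSucc * q⁻¹ = M.zp (a i) * M.e i.castSucc := by fin_cases i <;> assumption
        calc _ = (F.ι q)⁻¹ * (c * F.ι (M.e i.castSucc) * c⁻¹) * F.ι q := by group
          _ = (F.ι q)⁻¹ * (F.ι q * F.ι (M.e i.castSucc) * (F.ι q)⁻¹) * F.ι q := by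
              rw [ha i, ← hq, map_mul, map_mul, map_inv]
          _ = _ := by group
    have hmem : (F.ι q)⁻¹ * c ∈ Q := by
      rcases h.cQ ((F.ι q)⁻¹ * c) (fun x hx => by
        obtain ⟨m, rfl⟩ := F.ι_surj h hx
        have := DFunLike.congr_fun hfe m
        exact (mul_inv_eq_iff_eq_mul.1 this).symm) with e' | e' <;> rw [e']
      · exact one_mem _
      · exact h.zmem
    have := mul_mem (F.ι_mem h q) hmem
    rwa [mul_inv_cancel_left] at this
  · intro hcQ
    obtain ⟨q, rfl⟩ := F.ι_surj h hcQ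
    refine Equiv.ext fun i => ?_
    show F.π h (F.ι q) i = i
    obtain ⟨a, ha⟩ := M.e_conj q i
    exact F.π_eq_of h hc (a := a) (by rw [← map_inv, ← map_mul, ← map_mul, ha])

theorem ρ_range [Finite G] : (F.ρ h).range = alternatingGroup (Fin 5) := by
  have hker : (F.ρ h).ker = Q.subgroupOf (Subgroup.centralizer ({z} : Set G)) := by
    ext ⟨c, hc⟩
    rw [MonoidHom.mem_ker, Subgroup.mem_subgroupOf, ← F.π_eq_ρ h (mem_C.1 hc)]
    exact F.π_eq_one_iff h (mem_C.1 hc)
  have hQC : Q ≤ Subgroup.centralizer ({z} : Set G) := fun q hq => mem_C.2 (h.le q hq)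
  have hk : Nat.card (F.ρ h).ker = 32 := by
    rw [hker, Nat.card_congr (Subgroup.subgroupOfEquivOfLe hQC).toEquiv, h.card]
  have hcard := Subgroup.card_eq_card_quotient_mul_card_subgroup (F.ρ h).ker
  rw [Nat.card_congr (QuotientGroup.quotientKerEquivRange (F.ρ h)).toEquiv, hk, h.cardC] at hcard
  refine Equiv.Perm.eq_alternatingGroup_of_index_eq_two ?_
  have hi := (F.ρ h).range.card_mul_index
  rw [Nat.card_perm, Nat.card_fin, show Nat.factorial 5 = 120 from rfl] at hi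
  nlinarith

theorem π_sign [Finite G] {c : G} (hc : c * z = z * c) : Equiv.Perm.sign (F.π h c) = 1 := by
  rw [F.π_eq_ρ h hc]
  have : F.ρ h ⟨c, mem_C.2 hc⟩ ∈ alternatingGroup (Fin 5) := F.ρ_range h ▸ MonoidHom.mem_range.2 ⟨_, rfl⟩
  exact this

theorem π_surj [Finite G] {σ : Equiv.Perm (Fin 5)} (hσ : Equiv.Perm.sign σ = 1) :
    ∃ c : G, c * z = z * c ∧ F.π h c = σ := by
  have : σ ∈ (F.ρ h).range := by rw [F.ρ_range h]; exact hσ
  obtain ⟨⟨c, hc⟩, rfl⟩ := this
  exact ⟨c, mem_C.1 hc, F.π_eq_ρ h (mem_C.1 hc)⟩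

/-- A non-central involution of `Q` lies in one of the classes. -/
theorem exists_eq [Finite G] {x : G} (hx : x ∈ Q) (hxo : orderOf x = 2) (hxz : x ≠ z) :
    ∃ i a, x = F.ι (M.zp a * M.e i) := by
  obtain ⟨m, rfl⟩ := F.ι_surj h hx
  have hm : m * m = 1 := F.ι_inj (by rw [map_mul, map_one, Invol.mul_self_eq_one hxo])
  rcases M.inv_cases m hm with rfl | rfl | ⟨i, a, rfl⟩
  · exact absurd (map_one _) (Invol.ne_one hxo)
  · exact absurd F.ι_zM hxz
  · exact ⟨i, a, rfl⟩

end Frame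

end Cfsg.Agent.HallJanko
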