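import Cfsg.Agent.HallJanko.Frame

/-!
Involutions: the inner ones are conjugate to `z`, the outer ones form one further class.
-/

set_option autoImplicit false

namespace Cfsg.Agent.HallJanko

namespace M

/-- The permutation of the five classes induced by an outer involution. -/
def τ0 : Equiv.Perm (Fin 5) := Equiv.swap 0 1 * Equiv.swap 2 3

/-- The automorphism induced by an outer involution. -/
def φ (x : M) : M :=
  zp x.a * (if x.b0 = 1 then e 1 else 1) * (if x.b1 = 1 then e 0 else 1) *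
    (if x.b2 = 1 then e 3 else 1) * (if x.b3 = 1 then e 2 else 1)

theorem φ_inv_cases : ∀ m : M, m * φ m = 1 → ∃ q : M, q * φ q⁻¹ = m := by decide +kernel

theorem φ_fix : ∀ x : M, φ x = x → ∃ a : ZMod 2, x = zp a ∨ x = zp a * e 4 := by decide +kernel

theorem φ_e4 : φ (e 4) = e 4 := by decide +kernel

theorem φ_zp : ∀ a : ZMod 2, φ (zp a) = zp a := by decide +kernel

theorem φ_zp_e4 : ∀ a : ZMod 2, φ (zp a * e 4) = zp a * e 4 := by decide +kernel

theorem card_moved :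
    (Finset.univ.filter fun x : M => x * x = 1 ∧ φ x ≠ x).card = 8 := by decide +kernel

theorem card_fixed : (Finset.univ.filter fun x : M => φ x = x).card = 4 := by decide +kernel

theorem zp_e_anti : ∀ i j : Fin 5, ∀ a b : ZMod 2, i ≠ j →
    zp a * e i * (zp b * e j) = zM * (zp b * e j * (zp a * e i)) := by decide +kernel

theorem zp_e_sq : ∀ i : Fin 5, ∀ a : ZMod 2, zp a * e i * (zp a * e i) = 1 := by decide +kernel

theorem perm_moved : ∀ σ : Equiv.Perm (Fin 5), σ * σ = 1 → σ ≠ 1 → Equiv.Perm.sign σ = 1 →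
    ∃ a b : Fin 5, a ≠ σ a ∧ a ≠ b ∧ a ≠ σ b ∧ σ a ≠ b ∧ σ a ≠ σ b ∧ b ≠ σ b := by decide +kernel

theorem τ0_conj : ∀ σ : Equiv.Perm (Fin 5), σ * σ = 1 → σ ≠ 1 → Equiv.Perm.sign σ = 1 →
    ∃ g : Equiv.Perm (Fin 5), Equiv.Perm.sign g = 1 ∧ g * τ0 * g⁻¹ = σ := by decide +kernel

theorem even_trans : ∀ i j : Fin 5, ∃ g : Equiv.Perm (Fin 5), Equiv.Perm.sign g = 1 ∧ g i = j := by
  decide +kernel

end M

variable {G : Type*} [Group G] {z : G} {Q : Subgroup G}

/-- An element of order two commuting with `z` and outside `Q`. -/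
structure Outer (z : G) (Q : Subgroup G) (t : G) : Prop where
  ord : orderOf t = 2
  comm : t * z = z * t
  notMem : t ∉ Q

namespace Frame

/-- The frame is adapted to the outer involution `t`. -/
structure Adapted [Finite G] (F : Frame z Q) (h : HJCore z Q) (t : G) : Prop extends Outer z Q t where
  π_eq : F.π h t = M.τ0
  conj : ∀ x : M, t * F.ι x * t = F.ι (M.φ x)

end Frame

variable [Finite G]

namespace HJCore

theorem exists_adapted (h : HJCore z Q) {t : G} (ht : Outer z Q t) :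
    ∃ F : Frame z Q, F.Adapted h t := by
  obtain ⟨F⟩ := h.exists_frame
  have htt := Invol.mul_self_eq_one ht.ord
  have htinv := Invol.inv_eq_self ht.ord
  set σ := F.π h t with hσ
  have hσ2 : σ * σ = 1 := by rw [hσ, ← F.π_mul h ht.comm ht.comm, htt, F.π_one h]
  have hσ1 : σ ≠ 1 := fun e => ht.notMem ((F.π_eq_one_iff h ht.comm).1 e)
  obtain ⟨a, b, d1, d2, d3, d4, d5, d6⟩ := M.perm_moved σ hσ2 hσ1 (F.π_sign h ht.comm)
  obtain ⟨α, hα⟩ := F.π_spec h ht.comm a
  obtain ⟨β, hβ⟩ := F.π_spec h ht.comm b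
  rw [htinv, ← hσ] at hα hβ
  let idx : Fin 4 → Fin 5 := ![a, σ a, b, σ b]
  let sg : Fin 4 → ZMod 2 := ![0, α, 0, β]
  have hidx : Function.Injective idx := by
    intro i j e
    fin_cases i <;> fin_cases j <;> first
      | rfl
      | exact absurd e d1 | exact absurd e.symm d1 | exact absurd e d2 | exact absurd e.symm d2
      | exact absurd e d3 | exact absurd e.symm d3 | exact absurd e d4 | exact absurd e.symm d4
      | exact absurd e d5 | exact absurd e.symm d5 | exact absurd e d6 | exact absurd e.symm d6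
  let F' : Frame z Q :=
    { s := fun i => F.ι (M.zp (sg i) * M.e (idx i))
      base :=
        { sq := fun i => by rw [← map_mul, M.zp_e_sq, map_one]
          zsq := h.zsq
          zne := h.zne
          zc := fun i => (F.ι_comm h _).symm
          anti := fun i j hij => by
            rw [← map_mul, M.zp_e_anti _ _ _ _ (fun e => hij (hidx e)), map_mul, map_mul, F.ι_zM] }
      mem := fun i => F.ι_mem h _ }
  have h0 : F'.ι (M.e 0) = F.ι (M.e a) := by
    rw [show F'.ι (M.e 0) = F'.s 0 from F'.ι_e 0]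
    show F.ι (M.zp 0 * M.e a) = _
    rw [M.zp_zero, one_mul]
  have h1 : F'.ι (M.e 1) = t * F.ι (M.e a) * t := by
    rw [hα]
    exact F'.ι_e 1
  have h2 : F'.ι (M.e 2) = F.ι (M.e b) := by
    rw [show F'.ι (M.e 2) = F'.s 2 from F'.ι_e 2]
    show F.ι (M.zp 0 * M.e b) = _
    rw [M.zp_zero, one_mul]
  have h3 : F'.ι (M.e 3) = t * F.ι (M.e b) * t := by
    rw [hβ]
    exact F'.ι_e 3
  have c0 : t * F'.ι (M.e 0) * t = F'.ι (M.e 1) := by rw [h0, h1]
  have c1 : t * F'.ι (M.e 1) * t = F'.ι (M.e 0) := by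
    rw [h0, h1]
    calc t * (t * F.ι (M.e a) * t) * t = t * t * F.ι (M.e a) * (t * t) := by group
      _ = _ := by rw [htt, one_mul, mul_one]
  have c2 : t * F'.ι (M.e 2) * t = F'.ι (M.e 3) := by rw [h2, h3]
  have c3 : t * F'.ι (M.e 3) * t = F'.ι (M.e 2) := by
    rw [h2, h3]
    calc t * (t * F.ι (M.e b) * t) * t = t * t * F.ι (M.e b) * (t * t) := by group
      _ = _ := by rw [htt, one_mul, mul_one]
  have hconj : ∀ x : M, t * F'.ι x * t = F'.ι (M.φ x) := by
    intro x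
    let f : M →* G := (MulAut.conj t).toMonoidHom.comp F'.ι
    have hf : ∀ y, f y = t * F'.ι y * t := fun y => by
      show t * F'.ι y * t⁻¹ = _
      rw [htinv]
    have hz' : ∀ a : ZMod 2, t * F'.ι (M.zp a) * t = F'.ι (M.zp a) := fun a => by
      rw [F'.ι_zp]
      rcases z2_cases a with rfl | rfl <;> simp [htt, ht.comm, mul_assoc]
    rw [← hf]
    conv_lhs => rw [M.decomp x]
    simp only [map_mul, M.φ]
    refine congrArg₂ (· * ·) (congrArg₂ (· * ·) (congrArg₂ (· * ·) (congrArg₂ (· * ·) ?_ ?_) ?_) ?_) ?_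
    · rw [hf, hz']
    all_goals split_ifs
    all_goals first | rw [map_one, map_one] | (rw [hf]; assumption)
  refine ⟨F', ⟨ht, ?_, hconj⟩⟩
  refine Equiv.ext fun i => F'.π_eq_of h ht.comm (a := 0) ?_
  rw [htinv, hconj, M.zp_zero, one_mul]
  exact congrArg F'.ι ((by decide +kernel : ∀ i, M.φ (M.e i) = M.e (M.τ0 i)) i)

end HJCore

namespace Frame

variable {F : Frame z Q} {h : HJCore z Q} {t : G}

/-- An involution in the coset `Q t` is conjugate to `t` under `Q`. -/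
theorem Adapted.exists_conj_coset (A : F.Adapted h t) {q : G} (hq : q ∈ Q)
    (h2 : q * t * (q * t) = 1) : ∃ w ∈ Q, w * t * w⁻¹ = q * t := by
  obtain ⟨m, rfl⟩ := F.ι_surj h hq
  have hm : m * M.φ m = 1 := F.ι_inj (by
    rw [map_mul, map_one, ← A.conj]
    calc F.ι m * (t * F.ι m * t) = F.ι m * t * (F.ι m * t) := by group
      _ = 1 := h2)
  obtain ⟨w, hw⟩ := M.φ_inv_cases m hm
  refine ⟨F.ι w, F.ι_mem h w, ?_⟩
  rw [← hw, map_mul, ← A.conj, map_inv]
  have htt := Invol.mul_self_eq_one A.ord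
  calc F.ι w * t * (F.ι w)⁻¹ = F.ι w * t * (F.ι w)⁻¹ * (t * t) := by rw [htt, mul_one]
    _ = _ := by group

theorem Adapted.commute_iff (A : F.Adapted h t) (x : M) : t * F.ι x = F.ι x * t ↔ M.φ x = x := by
  have htt := Invol.mul_self_eq_one A.ord
  constructor
  · intro e
    refine F.ι_inj ?_
    rw [← A.conj, e, mul_assoc, htt, mul_one]
  · intro e
    calc t * F.ι x = t * F.ι x * (t * t) := by rw [htt, mul_one]
      _ = t * F.ι x * t * t := by group
      _ = F.ι x * t := by rw [A.conj, e]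

end Frame

namespace HJCore

variable (h : HJCore z Q)
include h

theorem commute_inv {c : G} (hc : c * z = z * c) : c⁻¹ * z = z * c⁻¹ :=
  (show Commute c z from hc).inv_left.eq

theorem outer_conj {i j : G} (hi : Outer z Q i) (hj : Outer z Q j) :
    ∃ c : G, c * z = z * c ∧ c * i * c⁻¹ = j := by
  obtain ⟨F, A⟩ := h.exists_adapted hi
  have hjj := Invol.mul_self_eq_one hj.ord
  have hσ2 : F.π h j * F.π h j = 1 := by rw [← F.π_mul h hj.comm hj.comm, hjj, F.π_one h]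
  have hσ1 : F.π h j ≠ 1 := fun e => hj.notMem ((F.π_eq_one_iff h hj.comm).1 e)
  obtain ⟨g, hg, hgj⟩ := M.τ0_conj _ hσ2 hσ1 (F.π_sign h hj.comm)
  obtain ⟨c, hc, hcπ⟩ := F.π_surj h hg
  have hc' := h.commute_inv hc
  set j' := c⁻¹ * j * c with hj'
  have hj'z : j' * z = z * j' :=
    (((show Commute c⁻¹ z from hc').mul_left hj.comm).mul_left hc).eq
  have hj'π : F.π h j' = M.τ0 := by
    have e := F.π_conj h hc' hj.comm
    rw [inv_inv, F.π_inv h hc, inv_inv, hcπ, ← hgj] at e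
    rw [hj', e]
    group
  have hiz := hi.comm
  have hinv := Invol.inv_eq_self hi.ord
  have hq : j' * i ∈ Q := by
    refine (F.π_eq_one_iff h ((show Commute j' z from hj'z).mul_left hiz).eq).1 ?_
    rw [F.π_mul h hj'z hiz, hj'π, A.π_eq]
    decide +kernel
  have hji : j' * i * i = j' := by rw [mul_assoc, Invol.mul_self_eq_one hi.ord, mul_one]
  obtain ⟨w, hwQ, hw⟩ := A.exists_conj_coset hq (by
    rw [hji, hj']
    calc c⁻¹ * j * c * (c⁻¹ * j * c) = c⁻¹ * (j * j) * c := by group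
      _ = 1 := by rw [hjj]; group)
  rw [hji] at hw
  refine ⟨c * w, ((show Commute c z from hc).mul_left (h.le w hwQ)).eq, ?_⟩
  calc c * w * i * (c * w)⁻¹ = c * (w * i * w⁻¹) * c⁻¹ := by group
    _ = j := by rw [hw, hj']; group

theorem inner_conj {x y : G} (hx : x ∈ Q) (hy : y ∈ Q) (hxo : orderOf x = 2) (hyo : orderOf y = 2)
    (hxz : x ≠ z) (hyz : y ≠ z) : ∃ c : G, c * z = z * c ∧ c * x * c⁻¹ = y := by
  obtain ⟨F⟩ := h.exists_frame
  obtain ⟨i, a, rfl⟩ := F.exists_eq h hx hxo hxz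
  obtain ⟨j, b, rfl⟩ := F.exists_eq h hy hyo hyz
  obtain ⟨g, hg, hgij⟩ := M.even_trans i j
  obtain ⟨c, hc, hcπ⟩ := F.π_surj h hg
  obtain ⟨d, hd⟩ := F.π_spec h hc i
  rw [hcπ, hgij] at hd
  obtain ⟨q, hq⟩ : ∃ q : M, q * M.e j * q⁻¹ = M.zp (b + a + d) * M.e j :=
    (by decide +kernel : ∀ j, ∀ s : ZMod 2, ∃ q : M, q * M.e j * q⁻¹ = M.zp s * M.e j) j _
  have hqz := F.ι_comm h q
  have hqc : (F.ι q * c) * z = z * (F.ι q * c) := ((show Commute (F.ι q) z from hqz).mul_left hc).eq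
  refine ⟨F.ι q * c, hqc, ?_⟩
  rw [F.conj_zp h hqc]
  calc pw z a * (F.ι q * c * F.ι (M.e i) * (F.ι q * c)⁻¹)
      = pw z a * (F.ι q * (c * F.ι (M.e i) * c⁻¹) * (F.ι q)⁻¹) := by group
    _ = pw z a * (pw z d * (F.ι q * F.ι (M.e j) * (F.ι q)⁻¹)) := by rw [hd, F.conj_zp h hqz]
    _ = pw z a * (pw z d * F.ι (M.zp (b + a + d) * M.e j)) := by
        rw [← map_inv, ← map_mul, ← map_mul, hq]
    _ = _ := by
        rw [map_mul, map_mul, F.ι_zp, F.ι_zp, ← mul_assoc (pw z d), ← pw_add h.zsq, ← mul_assoc,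
          ← pw_add h.zsq]
        congr 2
        first
          | exact (by decide : ∀ a b d : ZMod 2, a + d + (b + a + d) = b) _ _ _
          | exact (by decide : ∀ a b d : ZMod 2, a + (d + (b + a + d)) = b) _ _ _

end HJCore

namespace HJ

variable (h : HJ z Q)
include h

theorem isConj_of_mem {x : G} (hx : x ∈ Q) (hxo : orderOf x = 2) : IsConj z x := by
  by_cases hxz : x = z
  · rw [hxz]
  · obtain ⟨g, hg, hgz⟩ := h.nwc
    obtain ⟨c, -, hc⟩ := h.inner_conj hg hx (by rw [Invol.orderOf_conj, h.hz]) hxo hgz hxz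
    exact isConj_iff.2 ⟨c * g, by rw [← hc]; group⟩

/-- Every 2-subgroup is conjugate into the centraliser of `z`. -/
theorem exists_sylow : ∃ S : Sylow 2 G, ∀ s ∈ S, s * z = z * s := by
  haveI : Fact (Nat.Prime 2) := ⟨Nat.prime_two⟩
  set C := Subgroup.centralizer ({z} : Set G) with hC
  obtain ⟨P⟩ := (inferInstance : Nonempty (Sylow 2 C))
  have hQC : Q ≤ C := fun q hq => mem_C.2 (h.le q hq)
  have hQn : (Q.subgroupOf C).Normal := ⟨fun q hq c => by
    rw [Subgroup.mem_subgroupOf] at hq ⊢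
    exact h.normal c (mem_C.1 c.2) q hq⟩
  have hQp : IsPGroup 2 (Q.subgroupOf C) := by
    refine IsPGroup.of_card (n := 5) ?_
    rw [Nat.card_congr (Subgroup.subgroupOfEquivOfLe hQC).toEquiv, h.card]
    norm_num
  have hQP : Q.subgroupOf C ≤ (P : Subgroup C) := by
    obtain ⟨P', hP'⟩ := hQp.exists_le_sylow
    obtain ⟨g, rfl⟩ := MulAction.exists_smul_eq C P' P
    intro q hq
    have := hQn.conj_mem q hq g⁻¹
    rw [inv_inv] at this
    refine Subgroup.mem_map.2 ⟨g⁻¹ * q * g, hP' this, ?_⟩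
    show g * (g⁻¹ * q * g) * g⁻¹ = q
    group
  obtain ⟨S, hS⟩ := (P.2.map C.subtype).exists_le_sylow
  have hPS : (P : Subgroup C).map C.subtype = (S : Subgroup G) ⊓ C := by
    refine le_antisymm (le_inf hS (fun x hx => by obtain ⟨p, -, rfl⟩ := hx; exact p.2)) ?_
    have hp : IsPGroup 2 ((S : Subgroup G).subgroupOf C) :=
      S.2.of_injective ((C.subtype.comp ((S : Subgroup G).subgroupOf C).subtype).codRestrict
        (S : Subgroup G) (fun x => x.2)) (fun x y e => Subtype.ext (Subtype.ext (congrArg (fun w : ↥(S : Subgroup G) => (w : G)) e)))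
    have hle : (P : Subgroup C) ≤ (S : Subgroup G).subgroupOf C := fun x hx =>
      Subgroup.mem_subgroupOf.2 (hS (Subgroup.mem_map.2 ⟨x, hx, rfl⟩))
    have he := P.3 hp hle
    intro x hx
    exact Subgroup.mem_map.2 ⟨⟨x, hx.2⟩, he ▸ Subgroup.mem_subgroupOf.2 hx.1, rfl⟩
  refine ⟨S, fun s hs => ?_⟩
  by_contra hsz
  haveI : Group.IsNilpotent (S : Subgroup G) := S.2.isNilpotent
  set P₀ := ((P : Subgroup C).map C.subtype).subgroupOf (S : Subgroup G) with hP₀
  have hlt : P₀ < ⊤ := lt_top_iff_ne_top.2 fun e => hsz (by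
    have : (⟨s, hs⟩ : ↥(S : Subgroup G)) ∈ P₀ := e ▸ Subgroup.mem_top _
    rw [hP₀, Subgroup.mem_subgroupOf, hPS] at this
    exact mem_C.1 this.2)
  obtain ⟨x, hxN, hxP⟩ := SetLike.exists_of_lt (Group.normalizerCondition_of_isNilpotent P₀ hlt)
  have hzP : z ∈ (P : Subgroup C).map C.subtype :=
    Subgroup.mem_map.2 ⟨⟨z, mem_C.2 rfl⟩, hQP (Subgroup.mem_subgroupOf.2 h.zmem), rfl⟩
  have hconj : ∀ y : G, y ∈ (P : Subgroup C).map C.subtype →
      (x : G) * y * (x : G)⁻¹ ∈ (P : Subgroup C).map C.subtype ∧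
      (x : G)⁻¹ * y * (x : G) ∈ (P : Subgroup C).map C.subtype := by
    intro y hy
    have hy' : (⟨y, hS hy⟩ : ↥(S : Subgroup G)) ∈ P₀ := hy
    exact ⟨(Subgroup.mem_normalizer_iff.1 hxN _).1 hy', (Subgroup.mem_normalizer_iff''.1 hxN _).1 hy'⟩
  have hxz : (x : G) * z * (x : G)⁻¹ = z := by
    refine (h.cQ _ fun q hq => ?_).resolve_left (fun e => h.zne (conj_eq_one_iff.1 e))
    have hq' : q ∈ (P : Subgroup C).map C.subtype :=
      Subgroup.mem_map.2 ⟨⟨q, hQC hq⟩, hQP (Subgroup.mem_subgroupOf.2 hq), rfl⟩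
    have hc : (x : G)⁻¹ * q * (x : G) * z = z * ((x : G)⁻¹ * q * (x : G)) := by
      obtain ⟨p, -, hp⟩ := (hconj q hq').2
      rw [← hp]
      exact mem_C.1 p.2
    calc q * ((x : G) * z * (x : G)⁻¹) = (x : G) * ((x : G)⁻¹ * q * (x : G) * z) * (x : G)⁻¹ := by group
      _ = _ := by rw [hc]; group
  apply hxP
  rw [hP₀, Subgroup.mem_subgroupOf, hPS]
  exact ⟨x.2, mem_C.2 (mul_inv_eq_iff_eq_mul.1 hxz)⟩

theorem exists_conj_comm {u : G} {n : ℕ} (hu : orderOf u = 2 ^ n) :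
    ∃ g : G, g * u * g⁻¹ * z = z * (g * u * g⁻¹) := by
  haveI : Fact (Nat.Prime 2) := ⟨Nat.prime_two⟩
  obtain ⟨S, hS⟩ := h.exists_sylow
  have hp : IsPGroup 2 (Subgroup.zpowers u) := IsPGroup.of_card (n := n) (by rw [Nat.card_zpowers, hu])
  obtain ⟨S', hS'⟩ := hp.exists_le_sylow
  obtain ⟨g, rfl⟩ := MulAction.exists_smul_eq G S' S
  exact ⟨g, hS _ (Subgroup.mem_map.2 ⟨u, hS' (Subgroup.mem_zpowers u), rfl⟩)⟩

theorem exists_outer : ∃ t, Outer z Q t ∧ ¬ IsConj z t := by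
  obtain ⟨x, y, hx, hy, hxy⟩ := h.hcl
  obtain ⟨w, hw, hwz⟩ : ∃ w, orderOf w = 2 ∧ ¬ IsConj z w := by
    by_cases hx' : IsConj z x
    · exact ⟨y, hy, fun e => hxy (hx'.symm.trans e)⟩
    · exact ⟨x, hx, hx'⟩
  obtain ⟨g, hg⟩ := h.exists_conj_comm (n := 1) (by rw [hw]; norm_num)
  have hw' : ¬ IsConj z (g * w * g⁻¹) := fun e => hwz (e.trans (isConj_iff.2 ⟨g⁻¹, by group⟩))
  have ho : orderOf (g * w * g⁻¹) = 2 := by rw [Invol.orderOf_conj, hw]
  exact ⟨_, ⟨ho, hg, fun hm => hw' (h.isConj_of_mem hm ho)⟩, hw'⟩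

/-- An involution commuting with `z` is conjugate to `z` exactly when it lies in `Q`. -/
theorem dich {x : G} (hxo : orderOf x = 2) (hx : x * z = z * x) : IsConj z x ↔ x ∈ Q := by
  refine ⟨fun e => ?_, fun hm => h.isConj_of_mem hm hxo⟩
  by_contra hm
  obtain ⟨t, ht, htz⟩ := h.exists_outer
  obtain ⟨c, -, hc⟩ := h.outer_conj ⟨hxo, hx, hm⟩ ht
  exact htz (e.trans (isConj_iff.2 ⟨c, hc⟩))

/-- The involutions not conjugate to `z` form a single class. -/
theorem isConj_of_not {x y : G} (hxo : orderOf x = 2) (hyo : orderOf y = 2)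
    (hx : ¬ IsConj z x) (hy : ¬ IsConj z y) : IsConj x y := by
  have key : ∀ w, orderOf w = 2 → ¬ IsConj z w → ∃ w', Outer z Q w' ∧ IsConj w w' := by
    intro w hw hwz
    obtain ⟨g, hg⟩ := h.exists_conj_comm (n := 1) (by rw [hw]; norm_num)
    have hc : IsConj w (g * w * g⁻¹) := isConj_iff.2 ⟨g, rfl⟩
    have ho : orderOf (g * w * g⁻¹) = 2 := by rw [Invol.orderOf_conj, hw]
    exact ⟨_, ⟨ho, hg, fun hm => hwz ((h.isConj_of_mem hm ho).trans hc.symm)⟩, hc⟩
  obtain ⟨x', hx', hxx⟩ := key x hxo hx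
  obtain ⟨y', hy', hyy⟩ := key y hyo hy
  obtain ⟨c, -, hc⟩ := h.outer_conj hx' hy'
  exact hxx.trans ((isConj_iff.2 ⟨c, hc⟩).trans hyy.symm)

theorem outer_not_conj {t : G} (ht : Outer z Q t) : ¬ IsConj z t := fun e =>
  ht.notMem ((h.dich ht.ord ht.comm).1 e)

end HJ

end Cfsg.Agent.HallJanko
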