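import Mathlib

/-!
Small general lemmas on coprime action, conjugates and Sylow arguments.
-/

set_option autoImplicit false

namespace Cfsg.Agent.HallJanko

variable {G : Type*} [Group G]

/-- Conjugate elements have centralisers of the same order. -/
theorem card_cent_conj {a b : G} (h : IsConj a b) :
    Nat.card (Subgroup.centralizer ({b} : Set G)) = Nat.card (Subgroup.centralizer ({a} : Set G)) := by
  obtain ⟨r, rfl⟩ := isConj_iff.1 h
  refine Nat.card_congr
    { toFun := fun x => ⟨r⁻¹ * x * r, Subgroup.mem_centralizer_singleton_iff.2 ?_⟩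
      invFun := fun x => ⟨r * x * r⁻¹, Subgroup.mem_centralizer_singleton_iff.2 ?_⟩
      left_inv := fun x => Subtype.ext (by group)
      right_inv := fun x => Subtype.ext (by group) }
  · calc r⁻¹ * (x : G) * r * a = r⁻¹ * ((x : G) * (r * a * r⁻¹)) * r := by group
      _ = r⁻¹ * ((r * a * r⁻¹) * (x : G)) * r := by rw [Subgroup.mem_centralizer_singleton_iff.1 x.2]
      _ = _ := by group
  · calc r * (x : G) * r⁻¹ * (r * a * r⁻¹) = r * ((x : G) * a) * r⁻¹ := by group
      _ = r * (a * (x : G)) * r⁻¹ := by rw [Subgroup.mem_centralizer_singleton_iff.1 x.2]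
      _ = _ := by group

theorem conj_mem_normalizer_iff [Finite G] {H : Subgroup G} {e : G} (h : ∀ x ∈ H, e * x * e⁻¹ ∈ H) :
    e ∈ Subgroup.normalizer (H : Set G) := by
  have hmap : H.map (MulAut.conj e).toMonoidHom = H :=
    Subgroup.eq_of_le_of_card_ge (fun w ⟨y, hy, e'⟩ => e' ▸ h y hy)
      (by rw [← Nat.card_congr (Subgroup.equivMapOfInjective _ _ (MulAut.conj e).injective).toEquiv])
  refine Subgroup.mem_normalizer_iff.2 fun y => ⟨h y, fun hy => ?_⟩
  rw [← hmap] at hy
  obtain ⟨y', hy', e'⟩ := hy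
  rwa [show y = y' from (MulAut.conj e).injective e'.symm]

/-- Fixed points of an element of prime order on a subgroup it normalises. -/
theorem fixed_modEq [Finite G] (P : Subgroup G) {e : G} {p : ℕ} [Fact p.Prime] (he : e ^ p = 1)
    (hn : ∀ x ∈ P, e * x * e⁻¹ ∈ P) :
    Nat.card ↥(P ⊓ Subgroup.centralizer ({e} : Set G)) ≡ Nat.card P [MOD p] := by
  classical
  haveI : Fintype P := Fintype.ofFinite _
  have hN := conj_mem_normalizer_iff hn
  have hn' : ∀ x ∈ P, e⁻¹ * x * e ∈ P := fun x hx => (Subgroup.mem_normalizer_iff''.1 hN x).1 hx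
  let σ : Equiv.Perm P :=
    { toFun := fun x => ⟨e * x * e⁻¹, hn x x.2⟩
      invFun := fun x => ⟨e⁻¹ * x * e, hn' x x.2⟩
      left_inv := fun x => Subtype.ext (by group)
      right_inv := fun x => Subtype.ext (by group) }
  have hpow : ∀ (n : ℕ) (x : P), ((σ ^ n) x : G) = e ^ n * x * (e ^ n)⁻¹ := by
    intro n
    induction n with
    | zero => simp
    | succ n ih =>
      intro x
      rw [pow_succ' σ, Equiv.Perm.mul_apply]
      show e * _ * e⁻¹ = _
      rw [ih, pow_succ' e]
      group
  have hσ : σ ^ p ^ 1 = 1 := by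
    refine Equiv.ext fun x => Subtype.ext ?_
    rw [pow_one, hpow, he]
    simp
  have hfix : σ.supportᶜ.card = Nat.card ↥(P ⊓ Subgroup.centralizer ({e} : Set G)) := by
    rw [← Nat.card_eq_finsetCard]
    refine Nat.card_congr
      { toFun := fun x => ⟨(x.1 : G), x.1.2, Subgroup.mem_centralizer_singleton_iff.2 (by
          have := x.2
          rw [Finset.mem_compl, Equiv.Perm.notMem_support] at this
          exact ((mul_inv_eq_iff_eq_mul).1 (congrArg Subtype.val this)).symm)⟩
        invFun := fun x => ⟨⟨x.1, x.2.1⟩, by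
          rw [Finset.mem_compl, Equiv.Perm.notMem_support]
          exact Subtype.ext (mul_inv_eq_iff_eq_mul.2 (Subgroup.mem_centralizer_singleton_iff.1 x.2.2).symm)⟩
        left_inv := fun x => rfl
        right_inv := fun x => rfl }
  have := Equiv.Perm.card_compl_support_modEq (p := p) hσ
  rwa [hfix, ← Nat.card_eq_fintype_card] at this

/-- A fours group acting on an abelian subgroup: squares lie in the join of the three fixed subgroups. -/
theorem four_fixed {P H : Subgroup G} {t u : G} (hab : ∀ a ∈ P, ∀ b ∈ P, a * b = b * a)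
    (ht : t * t = 1) (hu : u * u = 1) (htu : t * u = u * t)
    (hnt : ∀ a ∈ P, t * a * t ∈ P) (hnu : ∀ a ∈ P, u * a * u ∈ P)
    (h1 : ∀ a ∈ P, a * t = t * a → a ∈ H) (h2 : ∀ a ∈ P, a * u = u * a → a ∈ H)
    (h3 : ∀ a ∈ P, a * (t * u) = t * u * a → a ∈ H) {p : G} (hp : p ∈ P) : p * p ∈ H := by
  have fixed : ∀ f : G, f * f = 1 → (∀ a ∈ P, f * a * f ∈ P) → ∀ a ∈ P,
      (a * (f * a * f)) * f = f * (a * (f * a * f)) := by
    intro f hf hnf a ha
    calc (a * (f * a * f)) * f = ((f * a * f) * a) * f := by rw [hab a ha _ (hnf a ha)]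
      _ = _ := by group
  have hntu : ∀ a ∈ P, t * u * a * (t * u) ∈ P := fun a ha => by
    have := hnt _ (hnu _ ha)
    convert this using 1
    conv_lhs => arg 2; rw [htu]
    group
  have htu2 : t * u * (t * u) = 1 := by
    rw [show t * u * (t * u) = t * (u * t) * u by group, ← htu,
      show t * (t * u) * u = t * t * (u * u) by group, ht, hu, one_mul]
  set A := t * p * t with hA
  set B := u * p * u with hB
  set C := t * u * p * (t * u) with hC
  have hAP : A ∈ P := hnt p hp
  have hBP : B ∈ P := hnu p hp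
  have hCP : C ∈ P := hntu p hp
  have m1 : p * A ∈ H := h1 _ (mul_mem hp hAP) (fixed t ht hnt p hp)
  have m2 : p * B ∈ H := h2 _ (mul_mem hp hBP) (fixed u hu hnu p hp)
  have m3 : p * C ∈ H := h3 _ (mul_mem hp hCP) (fixed _ htu2 hntu p hp)
  have hall : p * A * (B * C) ∈ H := by
    refine h1 _ (mul_mem (mul_mem hp hAP) (mul_mem hBP hCP)) ?_
    have e1 : (p * A) * t = t * (p * A) := fixed t ht hnt p hp
    have e2 : (B * C) * t = t * (B * C) := by
      have hBt : t * B * t = C := by
        rw [hB, hC]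
        conv_rhs => arg 2; rw [htu]
        group
      have := fixed t ht hnt B hBP
      rwa [hBt] at this
    exact (((show Commute (p * A) t from e1)).mul_left (show Commute (B * C) t from e2)).eq
  have key : (p * A) * (p * B) * (p * C) = p * p * (p * A * (B * C)) := by
    have c1 : A * p = p * A := hab A hAP p hp
    have c2 : B * p = p * B := hab B hBP p hp
    calc p * A * (p * B) * (p * C) = p * (A * p) * (B * p) * C := by group
      _ = p * p * A * (p * B) * C := by rw [c2, c1]; group
      _ = p * p * (A * p) * B * C := by group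
      _ = _ := by rw [c1]; group
  have := mul_mem (mul_mem m1 m2) m3
  rw [key] at this
  exact (Subgroup.mul_mem_cancel_right H hall).1 this

/-- Conjugating into a given Sylow subgroup. -/
theorem exists_conj_mem [Finite G] {p : ℕ} [Fact p.Prime] (P : Sylow p G) {a : G} {n : ℕ}
    (ha : orderOf a = p ^ n) : ∃ g : G, g * a * g⁻¹ ∈ (P : Subgroup G) := by
  have hp : IsPGroup p (Subgroup.zpowers a) := IsPGroup.of_card (n := n) (by rw [Nat.card_zpowers, ha])
  obtain ⟨P', hP'⟩ := hp.exists_le_sylow
  obtain ⟨g, hg⟩ := MulAction.exists_smul_eq G P' P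
  refine ⟨g, ?_⟩
  rw [← hg]
  exact Subgroup.mem_map.2 ⟨a, hP' (Subgroup.mem_zpowers a), rfl⟩

end Cfsg.Agent.HallJanko
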