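import Cfsg.Agent.HallJanko.CentN
import Cfsg.Agent.HallJanko.FiveBase
import Cfsg.Agent.HallJanko.Misc

/-!
Elements of odd order in the simple factor and the element of order 3 centralising it.
-/

set_option autoImplicit false

namespace Cfsg.Agent.HallJanko

namespace M

theorem five_inv : ∀ τ : Equiv.Perm (Fin 5), τ ^ 5 = 1 → τ ≠ 1 →
    ∃ σ : Equiv.Perm (Fin 5), Equiv.Perm.sign σ = 1 ∧ σ * τ * σ⁻¹ = τ⁻¹ := by decide +kernel

theorem three_conj : ∀ τ : Equiv.Perm (Fin 5), τ ^ 3 = 1 → τ ≠ 1 →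
    ∃ σ : Equiv.Perm (Fin 5), Equiv.Perm.sign σ = 1 ∧ σ * τσ * σ⁻¹ = τ := by decide +kernel

end M

namespace CT

variable {G : Type*} [Group G] [Finite G] {z : G} {Q : Subgroup G} {t s g : G} {K : Subgroup G}

/-- Facts about the simple factor read off from the alternating group. -/
theorem Split.exists_perm (c : Split z Q t g K) (d : CT z Q t s g) (h : HJ z Q) :
    ∃ f : ↥K →* Equiv.Perm (Fin 5), Function.Injective f ∧ (∀ k, Equiv.Perm.sign (f k) = 1) ∧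
      ∀ σ, Equiv.Perm.sign σ = 1 → ∃ k, f k = σ := by
  obtain ⟨e⟩ := c.alt_five d h (h.card_all d c).1
  exact ⟨(alternatingGroup (Fin 5)).subtype.comp e.toMonoidHom, Subtype.val_injective.comp e.injective,
    fun k => (e k).2, fun σ hσ => ⟨e.symm ⟨σ, hσ⟩, by simp⟩⟩

theorem Split.K_five (c : Split z Q t g K) (d : CT z Q t s g) (h : HJ z Q) {x : G} (hx : x ∈ K)
    (hxo : orderOf x = 5) :
    (∀ k ∈ K, k * x = x * k → k ∈ Subgroup.zpowers x) ∧
    (∃ k ∈ K, k * x * k⁻¹ = x⁻¹) ∧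
    (∀ k ∈ K, k * x * k⁻¹ ∈ Subgroup.zpowers x → k * x * k⁻¹ = x ∨ k * x * k⁻¹ = x⁻¹) := by
  obtain ⟨f, hf, hsign, hsurj⟩ := c.exists_perm d h
  set X : K := ⟨x, hx⟩
  have hXo : orderOf X = 5 := by rw [← hxo, ← Subgroup.orderOf_coe]
  set τ := f X with hτ
  have h5 : τ ^ 5 = 1 := by rw [hτ, ← map_pow, orderOf_dvd_iff_pow_eq_one.1 hXo.dvd, map_one]
  have h1 : τ ≠ 1 := fun e => by
    rw [show X = 1 from hf (by rw [map_one]; exact e), orderOf_one] at hXo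
    omega
  refine ⟨fun k hk hkx => ?_, ?_, fun k hk hkx => ?_⟩
  · obtain ⟨i, hi⟩ := M.five_cent h5 h1 (σ := f ⟨k, hk⟩)
      (by rw [hτ, ← map_mul, ← map_mul]; exact congrArg f (Subtype.ext hkx))
    rw [hτ, ← map_pow] at hi
    have e : k = x ^ i.val := congrArg Subtype.val (hf hi)
    rw [e]
    exact pow_mem (Subgroup.mem_zpowers x) _
  · obtain ⟨σ, hσ, hσe⟩ := M.five_inv τ h5 h1
    obtain ⟨k, rfl⟩ := hsurj σ hσ
    rw [hτ, ← map_inv, ← map_mul, ← map_inv, ← map_mul] at hσe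
    exact ⟨k, k.2, congrArg Subtype.val (hf hσe)⟩
  · obtain ⟨n, hn⟩ := (Submonoid.mem_powers_iff _ _).1 (mem_powers_iff_mem_zpowers.2 hkx)
    have hn' : (⟨k, hk⟩ : K) * X * (⟨k, hk⟩ : K)⁻¹ = X ^ (n % 5) := Subtype.ext (by
      push_cast
      rw [← hn, ← pow_mod_orderOf x n, hxo])
    have e := congrArg f hn'
    rw [map_mul, map_mul, map_inv, map_pow, ← hτ] at e
    rcases M.five_auto _ τ h5 h1 (hsign _) ⟨n % 5, Nat.mod_lt _ (by norm_num)⟩ e with e' | e'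
    · have e2 : n % 5 = 1 := by simpa [Fin.ext_iff] using e'
      left
      rw [← hn, ← pow_mod_orderOf x n, hxo, e2, pow_one]
    · have e2 : n % 5 = 4 := by simpa [Fin.ext_iff] using e'
      right
      rw [← hn, ← pow_mod_orderOf x n, hxo, e2]
      refine eq_inv_of_mul_eq_one_left ?_
      rw [← pow_succ]
      exact orderOf_dvd_iff_pow_eq_one.1 hxo.dvd

theorem Split.K_three (c : Split z Q t g K) (d : CT z Q t s g) (h : HJ z Q) {a b : G} (ha : a ∈ K)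
    (hb : b ∈ K) (hao : orderOf a = 3) (hbo : orderOf b = 3) : ∃ k ∈ K, k * a * k⁻¹ = b := by
  obtain ⟨f, hf, hsign, hsurj⟩ := c.exists_perm d h
  have hh : ∀ u : G, ∀ hu : u ∈ K, orderOf u = 3 → ∃ k : K, f k * M.τσ * (f k)⁻¹ = f ⟨u, hu⟩ := by
    intro u hu huo
    have h3 : (f ⟨u, hu⟩) ^ 3 = 1 := by
      rw [← map_pow, show (⟨u, hu⟩ : K) ^ 3 = 1 from Subtype.ext (huo ▸ pow_orderOf_eq_one u), map_one]
    have h1 : f ⟨u, hu⟩ ≠ 1 := fun e => by
      have e' := hf (e.trans (map_one f).symm)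
      rw [show u = 1 from congrArg Subtype.val e', orderOf_one] at huo
      omega
    obtain ⟨σ, hσ, hσe⟩ := M.three_conj _ h3 h1
    obtain ⟨k, rfl⟩ := hsurj σ hσ
    exact ⟨k, hσe⟩
  obtain ⟨k1, h1⟩ := hh a ha hao
  obtain ⟨k2, h2⟩ := hh b hb hbo
  have e : k2 * k1⁻¹ * ⟨a, ha⟩ * (k2 * k1⁻¹)⁻¹ = (⟨b, hb⟩ : K) := hf (by
    rw [map_mul, map_mul, map_inv, map_mul, map_inv, ← h1, ← h2]
    group)
  exact ⟨_, (k2 * k1⁻¹).2, congrArg Subtype.val e⟩

theorem Split.N_decomp (c : Split z Q t g K) (d : CT z Q t s g) (h : HJ z Q) :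
    ∃ A : Subgroup G, Nat.card A = 12 ∧ A ≤ Subgroup.normalizer (TF z t g : Set G) ∧ TF z t g ≤ A ∧
      (∀ a ∈ A, ∀ k ∈ K, a * k = k * a) ∧ (∀ a ∈ A, a ∈ K → a = 1) ∧
      (∀ a ∈ A, a * t = t * a → a ∈ TF z t g) ∧
      ∀ y ∈ Subgroup.normalizer (TF z t g : Set G), ∃ a ∈ A, ∃ k ∈ K, y = a * k := by
  classical
  obtain ⟨D, hD12, hKD, hcomm, hFD, hDF⟩ := c.exists_kernel d h
  refine ⟨D.map (Subgroup.normalizer (TF z t g : Set G)).subtype, ?_, ?_, ?_, ?_, ?_, ?_, ?_⟩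
  · rw [Nat.card_congr (Subgroup.equivMapOfInjective D (Subgroup.normalizer (TF z t g : Set G)).subtype (Subgroup.normalizer (TF z t g : Set G)).subtype_injective).toEquiv.symm, hD12]
  · rintro _ ⟨a, -, rfl⟩; exact a.2
  · exact fun f hf => Subgroup.mem_map.2 ⟨_, hFD f hf, rfl⟩
  · rintro _ ⟨a, ha, rfl⟩ k hk
    exact hcomm a ha k hk
  · rintro _ ⟨a, ha, rfl⟩ haK
    exact congrArg Subtype.val (hKD a haK ha)
  · rintro _ ⟨a, ha, rfl⟩ hat
    exact hDF ⟨a, ha⟩ fun f hf => c.F_central d h hf hat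
  · intro y hy
    let w : D × K → ↥(Subgroup.normalizer (TF z t g : Set G)) := fun p => (p.1 : ↥(Subgroup.normalizer (TF z t g : Set G))) * ⟨(p.2 : G), c.K_le_N d h p.2.2⟩
    have hw : Function.Injective w := by
      rintro ⟨a, k⟩ ⟨b, l⟩ e
      have e' : (a : ↥(Subgroup.normalizer (TF z t g : Set G))) * ⟨(k : G), c.K_le_N d h k.2⟩ = (b : ↥(Subgroup.normalizer (TF z t g : Set G))) * ⟨(l : G), c.K_le_N d h l.2⟩ := e
      have hm : (⟨(k : G), c.K_le_N d h k.2⟩ : ↥(Subgroup.normalizer (TF z t g : Set G))) * (⟨(l : G), c.K_le_N d h l.2⟩ : ↥(Subgroup.normalizer (TF z t g : Set G)))⁻¹ = (a : ↥(Subgroup.normalizer (TF z t g : Set G)))⁻¹ * (b : ↥(Subgroup.normalizer (TF z t g : Set G))) :=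
        mul_inv_eq_iff_eq_mul.2 (by rw [mul_assoc, ← e', inv_mul_cancel_left])
      have h1 := hKD _ (mul_mem k.2 (inv_mem l.2)) (hm ▸ mul_mem (inv_mem a.2) b.2)
      have h2 : (a : ↥(Subgroup.normalizer (TF z t g : Set G)))⁻¹ * (b : ↥(Subgroup.normalizer (TF z t g : Set G))) = 1 := hm.symm.trans h1
      exact Prod.ext (Subtype.ext (inv_mul_eq_one.1 h2))
        (Subtype.ext (congrArg (fun v : ↥(Subgroup.normalizer (TF z t g : Set G)) => (v : G)) (mul_inv_eq_one.1 h1)))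
    have hb : Function.Bijective w := (Nat.bijective_iff_injective_and_card w).2
      ⟨hw, by rw [Nat.card_prod, hD12, (h.card_all d c).1, c.card_N d h]⟩
    obtain ⟨⟨a, k⟩, hak⟩ := hb.2 ⟨y, hy⟩
    exact ⟨_, Subgroup.mem_map.2 ⟨a, a.2, rfl⟩, k, k.2, (congrArg Subtype.val hak).symm⟩

/-- An element of order three centralising the simple factor and moving `t`. -/
theorem Split.exists_w (c : Split z Q t g K) (d : CT z Q t s g) (h : HJ z Q) :
    ∃ w : G, orderOf w = 3 ∧ w ∈ Subgroup.normalizer (TF z t g : Set G) ∧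
      (∀ k ∈ K, w * k = k * w) ∧ w * t * w⁻¹ ≠ t := by
  haveI : Fact (Nat.Prime 3) := ⟨Nat.prime_three⟩
  obtain ⟨A, hA, hAN, -, hcomm, -, hAt, -⟩ := c.N_decomp d h
  obtain ⟨⟨w, hw⟩, hwo⟩ := exists_prime_orderOf_dvd_card' (G := A) 3 (by rw [hA]; norm_num)
  have hwo' : orderOf w = 3 := by rw [← hwo, Subgroup.orderOf_mk]
  refine ⟨w, hwo', hAN hw, hcomm w hw, fun e => ?_⟩
  have hwF := hAt w hw (mul_inv_eq_iff_eq_mul.1 e)
  have h2 := orderOf_dvd_iff_pow_eq_one.2 (show w ^ 2 = 1 by rw [pow_two]; exact d.E_sq hwF.1)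
  rw [hwo'] at h2
  norm_num at h2

end CT

end Cfsg.Agent.HallJanko
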