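import Cfsg.Agent.HallJanko.CentT
import Cfsg.Agent.Char.Ortho

/-!
The involutions of the centraliser of an outer involution and the product decomposition.
-/

set_option autoImplicit false

namespace Cfsg.Agent.HallJanko.CT

variable {G : Type*} [Group G] [Finite G] {z : G} {Q : Subgroup G} {t s g : G} {K : Subgroup G}

theorem z_mem_K (c : Split z Q t g K) (d : CT z Q t s g) (h : HJ z Q) : z ∈ K :=
  c.vle ((d.mem_TV h).2 (Or.inr (Or.inl rfl)))

theorem t_notMem (c : Split z Q t g K) (d : CT z Q t s g) : t ∉ K := fun e =>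
  Invol.ne_one d.outer.ord (c.inf t d.t_mem_F e)

theorem Split.v_conj (c : Split z Q t g K) (d : CT z Q t s g) (h : HJ z Q) {v : G} (hv : IsV z s v) :
    ∃ k ∈ K, k * v * k⁻¹ = z := by
  rcases hv with rfl | rfl | rfl
  · exact ⟨1, one_mem _, by simp⟩
  · exact ⟨g, c.g_mem, d.gs⟩
  · exact ⟨g * g, mul_mem c.g_mem c.g_mem, by
      rw [show g * g * (z * s) * (g * g)⁻¹ = g * (g * (z * s) * g⁻¹) * g⁻¹ by group, d.g_conj_zs h, d.gs]⟩

/-- In `C(t)` the conjugates of `z` are the involutions of the kernel. -/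
theorem Split.conj_iff (c : Split z Q t g K) (d : CT z Q t s g) (h : HJ z Q) {x : G}
    (hxo : orderOf x = 2) (hxt : x * t = t * x) : IsConj z x ↔ x ∈ K := by
  haveI : Fact (Nat.Prime 2) := ⟨Nat.prime_two⟩
  set L := Subgroup.centralizer ({t} : Set G)
  have hEle : TE z t ≤ L := inf_le_right
  set E' := (TE z t).subgroupOf L with hE'
  have hE'card : Nat.card E' = 16 := by
    rw [Nat.card_congr (Subgroup.subgroupOfEquivOfLe hEle).toEquiv]; exact d.card
  obtain ⟨m, hm, hKm⟩ := c.cardK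
  obtain ⟨S, hS⟩ := (IsPGroup.of_card (n := 4) (by rw [hE'card]; norm_num) : IsPGroup 2 E').exists_le_sylow
  have hSE : E' = (S : Subgroup L) := by
    refine Subgroup.eq_of_le_of_card_ge hS ?_
    rw [hE'card, S.card_eq_multiplicity, c.cardL, hKm, show 4 * (4 * m) = 2 ^ 4 * m by ring,
      Nat.factorization_mul (by norm_num) hm.pos.ne', Finsupp.add_apply,
      Nat.Prime.factorization_pow Nat.prime_two, Finsupp.single_eq_same,
      Nat.factorization_eq_zero_of_not_dvd (fun e => Nat.not_even_iff_odd.2 hm (even_iff_two_dvd.2 e))]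
    norm_num
  obtain ⟨S', hS'⟩ := (IsPGroup.of_card (n := 1) (by
    rw [Nat.card_zpowers, ← Subgroup.orderOf_coe]; simp [hxo]) :
    IsPGroup 2 (Subgroup.zpowers (⟨x, mem_C.2 hxt⟩ : L))).exists_le_sylow
  obtain ⟨l, hl⟩ := MulAction.exists_smul_eq L S' S
  have hmem : l * ⟨x, mem_C.2 hxt⟩ * l⁻¹ ∈ (S : Subgroup L) := by
    rw [← hl]
    exact Subgroup.mem_map.2 ⟨_, hS' (Subgroup.mem_zpowers _), rfl⟩
  rw [← hSE] at hmem
  have hy : (l : G) * x * (l : G)⁻¹ ∈ TE z t := hmem
  have hlt : (l : G) * t = t * (l : G) := mem_C.1 l.2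
  have hlt' : (l : G)⁻¹ * t = t * (l : G)⁻¹ := (show Commute (l : G) t from hlt).inv_left.eq
  have hyo : orderOf ((l : G) * x * (l : G)⁻¹) = 2 := by rw [Invol.orderOf_conj, hxo]
  have hyc : IsConj z x ↔ IsConj z ((l : G) * x * (l : G)⁻¹) :=
    ⟨fun e => e.trans (isConj_iff.2 ⟨(l : G), rfl⟩),
      fun e => e.trans (isConj_iff.2 ⟨(l : G)⁻¹, by group⟩)⟩
  rw [hyc, d.vchar _ (mem_TE.1 hy).1 (mem_TE.1 hy).2 hyo]
  constructor
  · intro hv
    have := c.normal _ hlt' _ (c.vle ((d.mem_TV h).2 (Or.inr hv)))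
    convert this using 1
    group
  · intro hxK
    have hyK := c.normal _ hlt x hxK
    exact (c.cent_v d h (Or.inl rfl) hyK (mem_TE.1 hy).1).resolve_left (Invol.ne_one hyo)

theorem Split.inv_conj (c : Split z Q t g K) (d : CT z Q t s g) (h : HJ z Q) {x : G}
    (hxo : orderOf x = 2) (hxK : x ∈ K) : ∃ k ∈ K, k * x * k⁻¹ = z := by
  have hzx := (c.conj_iff d h hxo (c.le x hxK)).2 hxK
  obtain ⟨a, ha⟩ := isConj_iff.1 hzx.symm
  haveI : Fact (Nat.Prime 2) := ⟨Nat.prime_two⟩
  -- move `x` into the fours group inside the kernel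
  obtain ⟨m, hm, hKm⟩ := c.cardK
  set V' := (TV Q t).subgroupOf K
  have hV' : Nat.card V' = 4 := by
    rw [Nat.card_congr (Subgroup.subgroupOfEquivOfLe c.vle).toEquiv, d.card_TV h]
  obtain ⟨S, hS⟩ := (IsPGroup.of_card (n := 2) (by rw [hV']; norm_num) : IsPGroup 2 V').exists_le_sylow
  have hSV : V' = (S : Subgroup K) := by
    refine Subgroup.eq_of_le_of_card_ge hS ?_
    rw [hV', S.card_eq_multiplicity, hKm, show 4 * m = 2 ^ 2 * m by ring,
      Nat.factorization_mul (by norm_num) hm.pos.ne', Finsupp.add_apply,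
      Nat.Prime.factorization_pow Nat.prime_two, Finsupp.single_eq_same,
      Nat.factorization_eq_zero_of_not_dvd (fun e => Nat.not_even_iff_odd.2 hm (even_iff_two_dvd.2 e))]
    norm_num
  obtain ⟨S', hS'⟩ := (IsPGroup.of_card (n := 1) (by
    rw [Nat.card_zpowers, ← Subgroup.orderOf_coe]; simp [hxo]) :
    IsPGroup 2 (Subgroup.zpowers (⟨x, hxK⟩ : K))).exists_le_sylow
  obtain ⟨l, hl⟩ := MulAction.exists_smul_eq K S' S
  have hmem : l * ⟨x, hxK⟩ * l⁻¹ ∈ (S : Subgroup K) := by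
    rw [← hl]
    exact Subgroup.mem_map.2 ⟨_, hS' (Subgroup.mem_zpowers _), rfl⟩
  rw [← hSV] at hmem
  have hy : (l : G) * x * (l : G)⁻¹ ∈ TV Q t := hmem
  have hv := ((d.mem_TV h).1 hy).resolve_left fun e => Invol.ne_one hxo (conj_eq_one_iff.1 e)
  obtain ⟨k, hk, hkz⟩ := c.v_conj d h hv
  exact ⟨k * l, mul_mem hk l.2, by rw [← hkz]; group⟩

theorem Split.cent_inv (c : Split z Q t g K) (d : CT z Q t s g) (h : HJ z Q) {x a : G}
    (hxo : orderOf x = 2) (hxK : x ∈ K) {k : G} (hk : k ∈ K) (hkz : k * x * k⁻¹ = z) (ha : a ∈ K) :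
    a * x = x * a ↔ k * a * k⁻¹ ∈ TV Q t := by
  rw [d.mem_TV h]
  have hiff : k * a * k⁻¹ * z = z * (k * a * k⁻¹) ↔ a * x = x * a := by
    rw [← hkz, show k * a * k⁻¹ * (k * x * k⁻¹) = k * (a * x) * k⁻¹ by group,
      show k * x * k⁻¹ * (k * a * k⁻¹) = k * (x * a) * k⁻¹ by group, mul_left_inj, mul_right_inj]
  constructor
  · exact fun e => c.cent_v d h (Or.inl rfl) (mul_mem (mul_mem hk ha) (inv_mem hk)) (hiff.2 e)
  · rintro (e | e)
    · exact hiff.1 (by rw [e]; simp)
    · exact hiff.1 (mem_TE.1 (d.v_facts h e).2.1).1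

theorem Split.cent_inv_comm (c : Split z Q t g K) (d : CT z Q t s g) (h : HJ z Q) {x a b : G}
    (hxo : orderOf x = 2) (hxK : x ∈ K) (ha : a ∈ K) (hb : b ∈ K) (hax : a * x = x * a)
    (hbx : b * x = x * b) : a * b = b * a := by
  obtain ⟨k, hk, hkz⟩ := c.inv_conj d h hxo hxK
  have h1 := (c.cent_inv d h hxo hxK hk hkz ha).1 hax
  have h2 := (c.cent_inv d h hxo hxK hk hkz hb).1 hbx
  have e := d.E_comm (d.TV_le h h1) (d.TV_le h h2)
  rw [show k * a * k⁻¹ * (k * b * k⁻¹) = k * (a * b) * k⁻¹ by group,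
      show k * b * k⁻¹ * (k * a * k⁻¹) = k * (b * a) * k⁻¹ by group, mul_left_inj, mul_right_inj] at e
  exact e

theorem Split.card_cent_inv (c : Split z Q t g K) (d : CT z Q t s g) (h : HJ z Q) {x : G}
    (hxo : orderOf x = 2) (hxK : x ∈ K) :
    Nat.card {a : K // (a : G) * x = x * (a : G)} = 4 ∧
    (∀ a : K, (a : G) * x = x * (a : G) → (a : G) * (a : G) = 1) := by
  obtain ⟨k, hk, hkz⟩ := c.inv_conj d h hxo hxK
  constructor
  · rw [← d.card_TV h]
    exact Nat.card_congr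
      { toFun := fun a => ⟨k * (a.1 : G) * k⁻¹, (c.cent_inv d h hxo hxK hk hkz a.1.2).1 a.2⟩
        invFun := fun v => ⟨⟨k⁻¹ * (v : G) * k, mul_mem (mul_mem (inv_mem hk) (c.vle v.2)) hk⟩,
          (c.cent_inv d h hxo hxK hk hkz (mul_mem (mul_mem (inv_mem hk) (c.vle v.2)) hk)).2
            (by rw [show k * (k⁻¹ * (v : G) * k) * k⁻¹ = (v : G) by group]; exact v.2)⟩
        left_inv := fun a => Subtype.ext (Subtype.ext (by group))
        right_inv := fun v => Subtype.ext (by group) }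
  · intro a ha
    have h1 := d.E_sq (d.TV_le h ((c.cent_inv d h hxo hxK hk hkz a.2).1 ha))
    rw [show k * (a : G) * k⁻¹ * (k * (a : G) * k⁻¹) = k * ((a : G) * (a : G)) * k⁻¹ by group,
      conj_eq_one_iff] at h1
    exact h1

theorem Split.card_inv (c : Split z Q t g K) (d : CT z Q t s g) (h : HJ z Q) :
    4 * Nat.card {u : K // orderOf (u : G) = 2} = Nat.card K := by
  classical
  haveI : Fintype K := Fintype.ofFinite _
  set J : K := ⟨z, z_mem_K c d h⟩
  have hset : Nat.card {u : K // orderOf (u : G) = 2} = Nat.card {u : K // IsConj J u} := by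
    refine Nat.card_congr (Equiv.subtypeEquivRight fun u => ⟨fun hu => ?_, fun hu => ?_⟩)
    · obtain ⟨k, hk, hkz⟩ := c.inv_conj d h hu u.2
      exact (isConj_iff.2 ⟨⟨k, hk⟩, Subtype.ext hkz⟩ : IsConj u J).symm
    · rw [Subgroup.orderOf_coe]
      exact Invol.orderOf_eq_two_of_isConj hu (by rw [← Subgroup.orderOf_coe]; exact h.hz)
  have hcent : Nat.card (Subgroup.centralizer ({J} : Set K)) = 4 := by
    rw [← (c.card_cent_inv d h h.hz (z_mem_K c d h)).1]
    exact Nat.card_congr (Equiv.subtypeEquivRight fun a => mem_C.trans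
      ⟨fun e => congrArg Subtype.val e, fun e => Subtype.ext e⟩)
  rw [hset, Char.card_isConj_eq_index, ← hcent, Subgroup.card_mul_index]

theorem Split.exists_notMem_TN (c : Split z Q t g K) (d : CT z Q t s g) (h : HJ z Q)
    (h60 : Nat.card K = 60) : ∃ x ∈ K, x ∉ TN Q t K := by
  by_contra hne
  push Not at hne
  have := c.card_TN d h
  rw [show TN Q t K = K from le_antisymm inf_le_left hne, h60] at this
  norm_num at this

theorem Split.alt_five (c : Split z Q t g K) (d : CT z Q t s g) (h : HJ z Q) (h60 : Nat.card K = 60) :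
    Nonempty (K ≃* alternatingGroup (Fin 5)) := by
  classical
  obtain ⟨x, hx, hxN⟩ := c.exists_notMem_TN d h h60
  have hle : TN Q t K ≤ K := inf_le_left
  set N := (TN Q t K).subgroupOf K with hN
  have hidx : Nat.card (K ⧸ N) = 5 := by
    have := Subgroup.card_eq_card_quotient_mul_card_subgroup N
    rw [h60, Nat.card_congr (Subgroup.subgroupOfEquivOfLe hle).toEquiv, c.card_TN d h] at this
    omega
  let e : K ⧸ N ≃ Fin 5 := Finite.equivFinOfCardEq hidx
  let f : K →* Equiv.Perm (Fin 5) := e.permCongrHom.toMonoidHom.comp (MulAction.toPermHom K (K ⧸ N))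
  have hf : Function.Injective f := by
    have hinj : Function.Injective (MulAction.toPermHom K (K ⧸ N)) := by
      rw [← MonoidHom.ker_eq_bot_iff, ← Subgroup.normalCore_eq_ker, eq_bot_iff]
      intro a ha
      have ha' : ∀ b : K, b * a * b⁻¹ ∈ N := ha
      refine Subgroup.mem_bot.2 (Subtype.ext (c.core d h hx hxN ?_ fun y hy => ?_))
      · simpa [hN, Subgroup.mem_subgroupOf] using ha' 1
      · simpa [hN, Subgroup.mem_subgroupOf] using ha' (⟨y, hy⟩ : K)⁻¹
    exact e.permCongrHom.injective.comp hinj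
  have hrange : f.range = alternatingGroup (Fin 5) := by
    refine Equiv.Perm.eq_alternatingGroup_of_index_eq_two ?_
    have hi := f.range.card_mul_index
    rw [← Nat.card_congr (MonoidHom.ofInjective hf).toEquiv, h60, Nat.card_perm, Nat.card_fin,
      show Nat.factorial 5 = 120 from rfl] at hi
    omega
  exact ⟨(MonoidHom.ofInjective hf).trans (MulEquiv.subgroupCongr hrange)⟩

theorem Split.le_cent (c : Split z Q t g K) : K ≤ Subgroup.centralizer ({t} : Set G) :=
  fun x hx => mem_C.2 (c.le x hx)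

/-- `C(t)` is the direct product of the fours group and the kernel. -/
theorem Split.prod_equiv (c : Split z Q t g K) (d : CT z Q t s g) (h : HJ z Q) :
    Nonempty (↥(TF z t g) × ↥K ≃* ↥(Subgroup.centralizer ({t} : Set G))) := by
  let f : ↥(TF z t g) × ↥K →* ↥(Subgroup.centralizer ({t} : Set G)) :=
    MonoidHom.mk' (fun p => ⟨(p.1 : G) * (p.2 : G), mul_mem p.1.2.1.2 (c.le_cent p.2.2)⟩)
      fun p q => Subtype.ext (by
        show (p.1 : G) * (q.1 : G) * ((p.2 : G) * (q.2 : G)) = (p.1 : G) * (p.2 : G) * ((q.1 : G) * (q.2 : G))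
        have e := c.F_cent d h q.1.2 p.2.2
        calc (p.1 : G) * (q.1 : G) * ((p.2 : G) * (q.2 : G))
            = (p.1 : G) * ((q.1 : G) * (p.2 : G)) * (q.2 : G) := by group
          _ = _ := by rw [e]; group)
  have hf : Function.Injective f := by
    refine (injective_iff_map_eq_one f).2 fun p hp => ?_
    have hp' : (p.1 : G) * (p.2 : G) = 1 := congrArg Subtype.val hp
    have h1 : (p.1 : G) = (p.2 : G)⁻¹ := mul_eq_one_iff_eq_inv.1 hp'
    have h2 : (p.1 : G) = 1 := c.inf _ p.1.2 (h1 ▸ inv_mem p.2.2)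
    rw [h2, one_mul] at hp'
    exact Prod.ext (Subtype.ext h2) (Subtype.ext hp')
  exact ⟨MulEquiv.ofBijective f ((Nat.bijective_iff_injective_and_card f).2
    ⟨hf, by rw [Nat.card_prod, d.card_TF h, c.cardL]⟩)⟩

end Cfsg.Agent.HallJanko.CT
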