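import Cfsg.Agent.HallJanko.Invol

/-!
The Sylow 2-subgroup of the centraliser of an outer involution and the element of order 3 acting on it.
-/

set_option autoImplicit false

namespace Cfsg.Agent.HallJanko

namespace M

/-- A three-cycle fixing the last class. -/
def τσ : Equiv.Perm (Fin 5) := Equiv.swap 0 2 * Equiv.swap 0 1

theorem τσ_sign : Equiv.Perm.sign τσ = 1 := by decide +kernel

theorem τσ_four : τσ 4 = 4 := by decide +kernel

theorem τσ_pow : τσ ^ 4 = τσ ∧ τσ ^ 3 = 1 := by decide +kernel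

theorem τ_prod : τ0 * (τσ * τ0 * τσ⁻¹) * (τσ * (τσ * τ0 * τσ⁻¹) * τσ⁻¹) = 1 := by decide +kernel

theorem τ_centraliser : ∀ x : Equiv.Perm (Fin 5), Equiv.Perm.sign x = 1 → x * τ0 = τ0 * x →
    x = 1 ∨ x = τ0 ∨ x = τσ * τ0 * τσ⁻¹ ∨ x = τ0 * (τσ * τ0 * τσ⁻¹) := by decide +kernel

theorem τ_stab : ∀ x : Equiv.Perm (Fin 5), Equiv.Perm.sign x = 1 → x * x = 1 → x ≠ 1 → x 4 = 4 →
    ∃ j : Fin 3, τσ ^ j.val * τ0 * (τσ ^ j.val)⁻¹ = x := by decide +kernel

/-- The map induced by an element of order three with given signs. -/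
def ψ (a0 a1 a2 a3 : ZMod 2) (x : M) : M :=
  zp x.a * (if x.b0 = 1 then zp a0 * e (τσ 0) else 1) * (if x.b1 = 1 then zp a1 * e (τσ 1) else 1) *
    (if x.b2 = 1 then zp a2 * e (τσ 2) else 1) * (if x.b3 = 1 then zp a3 * e (τσ 3) else 1)

theorem ψ_fix : ∀ a0 a1 a2 a3 : ZMod 2, ∀ m : M, m * e 4 = e 4 * m → ψ a0 a1 a2 a3 m = φ m →
    ∃ a : ZMod 2, m = zp a ∨ m = zp a * e 4 := by decide +kernel

theorem exists_flip_four : ∃ q : M, q * e 4 * q⁻¹ = zM * e 4 := exists_flip 4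

end M

variable {G : Type*} [Group G] {z : G} {Q : Subgroup G}

/-- The Klein group `⟨z, s⟩` without the identity. -/
def IsV (z s x : G) : Prop := x = z ∨ x = s ∨ x = z * s

/-- Everything needed about the centraliser of an outer involution. -/
structure CT (z : G) (Q : Subgroup G) (t s g : G) : Prop where
  outer : Outer z Q t
  sord : orderOf s = 2
  sne : s ≠ z
  sQ : s ∈ Q
  sz : s * z = z * s
  st : s * t = t * s
  card : Nat.card ↥(Subgroup.centralizer ({z} : Set G) ⊓ Subgroup.centralizer ({t} : Set G)) = 16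
  sq : ∀ x : G, x * z = z * x → x * t = t * x → x * x = 1
  comm : ∀ x y : G, x * z = z * x → x * t = t * x → y * z = z * y → y * t = t * y → x * y = y * x
  vchar : ∀ x : G, x * z = z * x → x * t = t * x → orderOf x = 2 → (IsConj z x ↔ IsV z s x)
  vQ : ∀ x : G, x ∈ Q → x * t = t * x → x = 1 ∨ IsV z s x
  gt : g * t = t * g
  g3 : g ^ 3 = 1
  gz : g * z * g⁻¹ = z * s
  gs : g * s * g⁻¹ = z

namespace Frame

variable [Finite G] {F : Frame z Q} {h : HJCore z Q} {t : G}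

theorem Adapted.four_comm (A : F.Adapted h t) : t * F.ι (M.e 4) = F.ι (M.e 4) * t :=
  (A.commute_iff _).2 M.φ_e4

theorem Adapted.fixed (A : F.Adapted h t) {x : G} (hx : x ∈ Q) (hxt : x * t = t * x) :
    ∃ a : ZMod 2, x = F.ι (M.zp a) ∨ x = F.ι (M.zp a * M.e 4) := by
  obtain ⟨m, rfl⟩ := F.ι_surj h hx
  obtain ⟨a, ha⟩ := M.φ_fix m ((A.commute_iff m).1 hxt.symm)
  exact ⟨a, ha.imp (congrArg F.ι) (congrArg F.ι)⟩

theorem Adapted.exists_r (A : F.Adapted h t) : ∃ r : G, r * z = z * r ∧ r ^ 3 = 1 ∧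
    r * F.ι (M.e 4) = F.ι (M.e 4) * r ∧ F.π h r = M.τσ := by
  obtain ⟨c, hc, hcπ⟩ := F.π_surj h M.τσ_sign
  obtain ⟨a, ha⟩ := F.π_spec h hc 4
  rw [hcπ, M.τσ_four] at ha
  obtain ⟨q, hq⟩ : ∃ q : M, q * M.e 4 * q⁻¹ = M.zp a * M.e 4 :=
    (by decide +kernel : ∀ a : ZMod 2, ∃ q : M, q * M.e 4 * q⁻¹ = M.zp a * M.e 4) a
  have hqz := F.ι_comm h q
  set c' := (F.ι q)⁻¹ * c with hc'
  have hc'z : Commute c' z := ((show Commute (F.ι q) z from hqz).inv_left).mul_left hc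
  have hc's : Commute c' (F.ι (M.e 4)) := mul_inv_eq_iff_eq_mul.1 (by
    rw [hc']
    calc (F.ι q)⁻¹ * c * F.ι (M.e 4) * ((F.ι q)⁻¹ * c)⁻¹
        = (F.ι q)⁻¹ * (c * F.ι (M.e 4) * c⁻¹) * F.ι q := by group
      _ = (F.ι q)⁻¹ * (F.ι q * F.ι (M.e 4) * (F.ι q)⁻¹) * F.ι q := by
          rw [ha, ← hq, map_mul, map_mul, map_inv]
      _ = _ := by group)
  have hc'π : F.π h c' = M.τσ := by
    rw [hc', F.π_mul h (show Commute (F.ι q) z from hqz).inv_left.eq hc, hcπ,
      (F.π_eq_one_iff h (show Commute (F.ι q) z from hqz).inv_left.eq).2 (inv_mem (F.ι_mem h q)), one_mul]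
  have h12 : c' ^ 12 = 1 := by
    have hQ4 : ∀ m : M, (m * m) * (m * m) = 1 := by decide +kernel
    obtain ⟨m, hm⟩ := F.ι_surj h ((F.π_eq_one_iff h (hc'z.pow_left 3).eq).1 (by
      rw [F.π_pow h hc'z.eq, hc'π, M.τσ_pow.2]))
    calc c' ^ 12 = (c' ^ 3 * c' ^ 3) * (c' ^ 3 * c' ^ 3) := by group
      _ = 1 := by rw [← hm, ← map_mul, ← map_mul, hQ4, map_one]
  exact ⟨c' ^ 4, (hc'z.pow_left 4).eq, by rw [← pow_mul]; exact h12, (hc's.pow_left 4).eq,
    by rw [F.π_pow h hc'z.eq, hc'π, M.τσ_pow.1]⟩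

/-- A second involution completing the Sylow 2-subgroup of `C(t)`. -/
theorem Adapted.exists_t' (A : F.Adapted h t) : ∃ r t' : G, r * z = z * r ∧ r ^ 3 = 1 ∧
    r * F.ι (M.e 4) = F.ι (M.e 4) * r ∧ F.π h r = M.τσ ∧ orderOf t' = 2 ∧ t' * z = z * t' ∧
    t' * F.ι (M.e 4) = F.ι (M.e 4) * t' ∧ t' * t = t * t' ∧ F.π h t' = M.τσ * M.τ0 * M.τσ⁻¹ := by
  obtain ⟨r, hrz, hr3, hrs, hrπ⟩ := A.exists_r
  set s := F.ι (M.e 4) with hsdef
  have htt := Invol.mul_self_eq_one A.ord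
  set t' := r * t * r⁻¹ with ht'def
  set t'' := r * t' * r⁻¹ with ht''def
  have hr' : r * t'' * r⁻¹ = t := by
    rw [ht''def, ht'def, show r * (r * (r * t * r⁻¹) * r⁻¹) * r⁻¹ = r ^ 3 * t * (r ^ 3)⁻¹ by rw [pow_three]; group, hr3]
    group
  have conjC : ∀ (x y : G), x * y = y * x → ∀ w : G, w * y = y * w → x * w * x⁻¹ * y = y * (x * w * x⁻¹) :=
    fun x y hxy w hwy =>
      (((show Commute x y from hxy).mul_left hwy).mul_left (show Commute x y from hxy).inv_left).eq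
  have ht's : t' * s = s * t' := conjC _ _ hrs _ A.four_comm
  have ht'z : t' * z = z * t' := conjC _ _ hrz _ A.comm
  have ht''s : t'' * s = s * t'' := conjC _ _ hrs _ ht's
  have ht''z : t'' * z = z * t'' := conjC _ _ hrz _ ht'z
  set u := t * t' * t'' with hudef
  have hus : u * s = s * u := (((show Commute t s from A.four_comm).mul_left ht's).mul_left ht''s).eq
  have huz : u * z = z * u := (((show Commute t z from A.comm).mul_left ht'z).mul_left ht''z).eq
  have ht'π : F.π h t' = M.τσ * M.τ0 * M.τσ⁻¹ := by rw [ht'def, F.π_conj h hrz A.comm, hrπ, A.π_eq]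
  have ht''π : F.π h t'' = M.τσ * (M.τσ * M.τ0 * M.τσ⁻¹) * M.τσ⁻¹ := by
    rw [ht''def, F.π_conj h hrz ht'z, hrπ, ht'π]
  have huQ : u ∈ Q := (F.π_eq_one_iff h huz).1 (by
    rw [hudef, F.π_mul h ((show Commute t z from A.comm).mul_left ht'z).eq ht''z,
      F.π_mul h A.comm ht'z, A.π_eq, ht'π, ht''π, M.τ_prod])
  obtain ⟨m, hm⟩ := F.ι_surj h huQ
  have hm4 : m * M.e 4 = M.e 4 * m := F.ι_inj (by rw [map_mul, map_mul, hm]; exact hus)
  have hrot : r * u * r⁻¹ = t * u * t := by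
    calc r * u * r⁻¹ = (r * t * r⁻¹) * (r * t' * r⁻¹) * (r * t'' * r⁻¹) := by rw [hudef]; group
      _ = t' * t'' * t := by rw [← ht'def, ← ht''def, hr']
      _ = t * t * (t' * t'' * t) := by rw [htt, one_mul]
      _ = t * u * t := by rw [hudef]; group
  obtain ⟨a0, ha0⟩ := F.π_spec h hrz 0
  obtain ⟨a1, ha1⟩ := F.π_spec h hrz 1
  obtain ⟨a2, ha2⟩ := F.π_spec h hrz 2
  obtain ⟨a3, ha3⟩ := F.π_spec h hrz 3
  rw [hrπ] at ha0 ha1 ha2 ha3
  have hψ : ∀ x : M, r * F.ι x * r⁻¹ = F.ι (M.ψ a0 a1 a2 a3 x) := by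
    intro x
    let f : M →* G := (MulAut.conj r).toMonoidHom.comp F.ι
    have hf : ∀ y, f y = r * F.ι y * r⁻¹ := fun y => rfl
    have hz' : ∀ a : ZMod 2, r * F.ι (M.zp a) * r⁻¹ = F.ι (M.zp a) := fun a => by
      rw [F.ι_zp, mul_inv_eq_iff_eq_mul, pw_comm hrz.symm]
    rw [← hf]
    conv_lhs => rw [M.decomp x]
    simp only [map_mul, M.ψ]
    refine congrArg₂ (· * ·) (congrArg₂ (· * ·) (congrArg₂ (· * ·) (congrArg₂ (· * ·) ?_ ?_) ?_) ?_) ?_
    · rw [hf, hz']
    all_goals split_ifs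
    all_goals first | rw [map_one, map_one] | (rw [hf]; assumption)
  have hψm : M.ψ a0 a1 a2 a3 m = M.φ m := F.ι_inj (by rw [← hψ, ← A.conj, hm]; exact hrot)
  obtain ⟨a, ha⟩ := M.ψ_fix a0 a1 a2 a3 m hm4 hψm
  have hmt : t * u = u * t := by
    rw [← hm]
    refine (A.commute_iff m).2 ?_
    rcases ha with rfl | rfl
    · exact M.φ_zp a
    · exact M.φ_zp_e4 a
  have hcom : ∀ x : G, x * z = z * x → x * s = s * x → x * u = u * x := by
    intro x hxz hxs
    rw [← hm]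
    rcases ha with rfl | rfl
    · rw [F.ι_zp]; exact (pw_comm hxz.symm a).symm
    · rw [map_mul, F.ι_zp]
      exact ((show Commute (pw z a) x from pw_comm hxz.symm a).symm.mul_right hxs).eq
  have hu2 : u * u = 1 := by
    rw [← hm, ← map_mul, ← map_one F.ι]
    congr 1
    rcases ha with rfl | rfl
    · exact (by decide +kernel : ∀ a : ZMod 2, M.zp a * M.zp a = 1) a
    · exact M.zp_e_sq 4 a
  have ht'o : orderOf t' = 2 := by rw [ht'def, Invol.orderOf_conj, A.ord]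
  have ht''o : orderOf t'' = 2 := by rw [ht''def, Invol.orderOf_conj, ht'o]
  have ht''t'' := Invol.mul_self_eq_one ht''o
  have htt' : t * t' = u * t'' := by rw [hudef, mul_assoc (t * t'), ht''t'', mul_one]
  have hsq : t * t' * (t * t') = 1 := by
    rw [htt']
    calc u * t'' * (u * t'') = u * (t'' * u) * t'' := by group
      _ = u * u * (t'' * t'') := by rw [hcom t'' ht''z ht''s]; group
      _ = 1 := by rw [hu2, ht''t'', one_mul]
  refine ⟨r, t', hrz, hr3, hrs, hrπ, ht'o, ht'z, ht's, ?_, ht'π⟩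
  have e := inv_eq_of_mul_eq_one_right hsq
  rwa [mul_inv_rev, Invol.inv_eq_self ht'o, Invol.inv_eq_self A.ord] at e

/-- The structure of `C(z) ∩ C(t)`. -/
theorem Adapted.klein (A : F.Adapted h t) :
    (∀ x : G, x ∈ Q → x * t = t * x → x = 1 ∨ IsV z (F.ι (M.e 4)) x) ∧
    (∀ x : G, x * z = z * x → x * t = t * x → x * x = 1) ∧
    (∀ x y : G, x * z = z * x → x * t = t * x → y * z = z * y → y * t = t * y → x * y = y * x) ∧
    Nat.card ↥(Subgroup.centralizer ({z} : Set G) ⊓ Subgroup.centralizer ({t} : Set G)) = 16 := by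
  classical
  obtain ⟨r, t', hrz, -, -, hrπ, ht'o, ht'z, ht's, ht't, ht'π⟩ := A.exists_t'
  set s := F.ι (M.e 4) with hsdef
  have hV : ∀ x ∈ Q, x * t = t * x → x = 1 ∨ IsV z s x := by
    intro x hx hxt
    obtain ⟨a, ha⟩ := A.fixed hx hxt
    rw [F.ι_zp, map_mul, F.ι_zp] at ha
    rcases z2_cases a with rfl | rfl <;> simp only [pw_zero, pw_one, one_mul] at ha <;>
      rcases ha with rfl | rfl <;> simp [IsV, hsdef]
  have htz := A.comm
  have hsz : s * z = z * s := F.ι_comm h _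
  have hst : s * t = t * s := A.four_comm.symm
  -- decomposition
  have hdec : ∀ x : G, x * z = z * x → x * t = t * x → ∃ w, (w = 1 ∨ w = t ∨ w = t' ∨ w = t * t') ∧
      (x * w = 1 ∨ IsV z s (x * w)) := by
    intro x hxz hxt
    have hcomm : F.π h x * M.τ0 = M.τ0 * F.π h x := by
      rw [← A.π_eq, ← F.π_mul h hxz htz, ← F.π_mul h htz hxz, hxt]
    have hxw : ∀ w : G, w * z = z * w → w * t = t * w → F.π h x * F.π h w = 1 →
        x * w = 1 ∨ IsV z s (x * w) := fun w hwz hwt hπ =>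
      hV _ ((F.π_eq_one_iff h ((show Commute x z from hxz).mul_left hwz).eq).1
        (by rw [F.π_mul h hxz hwz, hπ])) ((show Commute x t from hxt).mul_left hwt).eq
    rcases M.τ_centraliser _ (F.π_sign h hxz) hcomm with e | e | e | e
    · exact ⟨1, Or.inl rfl, hxw 1 (by simp) (by simp) (by rw [e, F.π_one h, one_mul])⟩
    · exact ⟨t, Or.inr (Or.inl rfl), hxw t htz rfl (by rw [e, A.π_eq]; decide +kernel)⟩
    · exact ⟨t', Or.inr (Or.inr (Or.inl rfl)), hxw t' ht'z ht't (by rw [e, ht'π]; decide +kernel)⟩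
    · refine ⟨t * t', Or.inr (Or.inr (Or.inr rfl)), hxw _ ((show Commute t z from htz).mul_left ht'z).eq
        ((Commute.refl t).mul_left (show Commute t' t from ht't)).eq ?_⟩
      rw [e, F.π_mul h htz ht'z, A.π_eq, ht'π]
      decide +kernel
  have hszc : Commute s z := hsz
  have hcz : ∀ x, (x = 1 ∨ IsV z s x) → ∀ y, y * z = z * y → y * s = s * y → x * y = y * x := by
    rintro x (rfl | rfl | rfl | rfl) y hyz hys
    · simp
    · exact hyz.symm
    · exact hys.symm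
    · exact (((show Commute y z from hyz).symm).mul_left (show Commute y s from hys).symm).eq
  have hVcomm : ∀ x y, (x = 1 ∨ IsV z s x) → (y = 1 ∨ IsV z s y) → x * y = y * x := by
    intro x y hx hy
    refine hcz x hx y ?_ ?_ <;> rcases hy with rfl | rfl | rfl | rfl
    all_goals first
      | simp; done
      | exact hsz
      | exact hsz.symm
      | exact ((Commute.refl z).mul_left hszc).eq
      | exact (hszc.symm.mul_left (Commute.refl s)).eq
  have hws : ∀ w, (w = 1 ∨ w = t ∨ w = t' ∨ w = t * t') → w * z = z * w ∧ w * s = s * w ∧ w * w = 1 ∧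
      w * t = t * w ∧ w * t' = t' * w := by
    have htt := Invol.mul_self_eq_one A.ord
    have ht't' := Invol.mul_self_eq_one ht'o
    rintro w (rfl | rfl | rfl | rfl)
    · simp
    · exact ⟨htz, hst.symm, htt, rfl, ht't.symm⟩
    · exact ⟨ht'z, ht's, ht't', ht't, rfl⟩
    · refine ⟨((show Commute t z from htz).mul_left ht'z).eq,
        ((show Commute t s from hst.symm).mul_left ht's).eq, ?_,
        ((Commute.refl t).mul_left (show Commute t' t from ht't)).eq,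
        ((show Commute t t' from ht't.symm).mul_left (Commute.refl t')).eq⟩
      calc t * t' * (t * t') = t * (t' * t) * t' := by group
        _ = t * t * (t' * t') := by rw [ht't]; group
        _ = 1 := by rw [htt, ht't', one_mul]
  have hsq : ∀ x : G, x * z = z * x → x * t = t * x → x * x = 1 := by
    intro x hxz hxt
    obtain ⟨w, hw, hv⟩ := hdec x hxz hxt
    obtain ⟨w1, w2, w3, -, -⟩ := hws w hw
    have hx : x = x * w * w := by rw [mul_assoc, w3, mul_one]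
    have hv2 : x * w * (x * w) = 1 := by
      have hzz := h.zsq
      have hss : s * s = 1 := by rw [hsdef, ← map_mul, M.e_mul_self, map_one]
      rcases hv with e | e | e | e <;> rw [e]
      · simp
      · exact hzz
      · exact hss
      · calc z * s * (z * s) = z * (s * z) * s := by group
          _ = z * z * (s * s) := by rw [hsz]; group
          _ = 1 := by rw [hzz, hss, one_mul]
    have c1 : Commute (x * w) w := hcz _ hv w w1 w2
    rw [hx]
    calc x * w * w * (x * w * w) = x * w * (w * (x * w)) * w := by group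
      _ = x * w * (x * w) * (w * w) := by rw [← c1.eq]; group
      _ = 1 := by rw [hv2, w3, one_mul]
  have hcomm : ∀ x y : G, x * z = z * x → x * t = t * x → y * z = z * y → y * t = t * y →
      x * y = y * x := by
    intro x y hxz hxt hyz hyt
    have hxy := hsq (x * y) ((show Commute x z from hxz).mul_left hyz).eq
      ((show Commute x t from hxt).mul_left hyt).eq
    have e := inv_eq_of_mul_eq_one_right hxy
    rw [mul_inv_rev, inv_eq_of_mul_eq_one_right (hsq x hxz hxt),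
      inv_eq_of_mul_eq_one_right (hsq y hyz hyt)] at e
    exact e.symm
  refine ⟨hV, hsq, hcomm, ?_⟩
  set E := Subgroup.centralizer ({z} : Set G) ⊓ Subgroup.centralizer ({t} : Set G) with hE
  let f : ↥E →* Equiv.Perm (Fin 5) := (F.ρ h).comp (Subgroup.inclusion inf_le_left)
  have hf : ∀ x : ↥E, f x = F.π h (x : G) := fun x => (F.π_eq_ρ h (mem_C.1 x.2.1)).symm
  have hker : Nat.card f.ker = 4 := by
    have hset : Nat.card f.ker = Nat.card {m : M // M.φ m = m} := by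
      refine (Nat.card_congr (Equiv.ofBijective
        (fun m : {m : M // M.φ m = m} => (⟨⟨F.ι m.1, mem_C.2 (F.ι_comm h _),
          mem_C.2 ((A.commute_iff _).2 m.2).symm⟩, by
            rw [MonoidHom.mem_ker, hf]
            exact (F.π_eq_one_iff h (F.ι_comm h _)).2 (F.ι_mem h _)⟩ : f.ker)) ⟨?_, ?_⟩)).symm
      · intro a b e
        exact Subtype.ext (F.ι_inj (congrArg (fun x => ((x.1 : ↥E) : G)) e))
      · rintro ⟨⟨x, hxz, hxt⟩, hx⟩
        rw [MonoidHom.mem_ker, hf, F.π_eq_one_iff h (mem_C.1 hxz)] at hx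
        obtain ⟨m, hm⟩ := F.ι_surj h hx
        refine ⟨⟨m, (A.commute_iff m).1 (by rw [hm]; exact (mem_C.1 hxt).symm)⟩, ?_⟩
        exact Subtype.ext (Subtype.ext hm)
    rw [hset, Nat.card_eq_fintype_card, Fintype.card_subtype, M.card_fixed]
  have hrange : (f.range : Set (Equiv.Perm (Fin 5))) =
      ↑({1, M.τ0, M.τσ * M.τ0 * M.τσ⁻¹, M.τ0 * (M.τσ * M.τ0 * M.τσ⁻¹)} : Finset (Equiv.Perm (Fin 5))) := by
    ext σ
    constructor
    · rintro ⟨x, rfl⟩
      have hxt : F.π h (x : G) * M.τ0 = M.τ0 * F.π h (x : G) := by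
        rw [← A.π_eq, ← F.π_mul h (mem_C.1 x.2.1) htz, ← F.π_mul h htz (mem_C.1 x.2.1), mem_C.1 x.2.2]
      simpa [hf] using M.τ_centraliser _ (F.π_sign h (mem_C.1 x.2.1)) hxt
    · intro hσ
      have key : ∀ w : G, w * z = z * w → w * t = t * w → F.π h w ∈ (f.range : Set (Equiv.Perm (Fin 5))) :=
        fun w w1 w2 => ⟨⟨w, mem_C.2 w1, mem_C.2 w2⟩, hf _⟩
      rw [Finset.mem_coe, Finset.mem_insert, Finset.mem_insert, Finset.mem_insert, Finset.mem_singleton] at hσ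
      rcases hσ with rfl | rfl | rfl | rfl
      · exact one_mem _
      · rw [← A.π_eq]; exact key t htz rfl
      · rw [← ht'π]; exact key t' ht'z ht't
      · rw [← ht'π, ← A.π_eq]; exact mul_mem (key t htz rfl) (key t' ht'z ht't)
  have hcard := Subgroup.card_eq_card_quotient_mul_card_subgroup f.ker
  rw [Nat.card_congr (QuotientGroup.quotientKerEquivRange f).toEquiv, hker,
    show Nat.card f.range = Nat.card (f.range : Set (Equiv.Perm (Fin 5))) from rfl, hrange,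
    Nat.card_coe_set_eq, Set.ncard_coe_finset] at hcard
  rw [hcard]
  decide +kernel

end Frame

namespace HJ

variable [Finite G] (h : HJ z Q)
include h

/-- Commuting involutions of the two classes have centralisers meeting in a group of order 16. -/
theorem card_pair {v w : G} (hv : IsConj z v) (hwo : orderOf w = 2) (hw : ¬ IsConj z w)
    (hvw : v * w = w * v) :
    Nat.card ↥(Subgroup.centralizer ({v} : Set G) ⊓ Subgroup.centralizer ({w} : Set G)) = 16 := by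
  obtain ⟨g, hg⟩ := isConj_iff.1 hv
  have hw1z : g⁻¹ * w * g * z = z * (g⁻¹ * w * g) := by
    calc g⁻¹ * w * g * z = g⁻¹ * (w * (g * z * g⁻¹)) * g := by group
      _ = g⁻¹ * (g * z * g⁻¹ * w) * g := by rw [hg, hvw]
      _ = _ := by group
  have hw1o : orderOf (g⁻¹ * w * g) = 2 := by
    have := Invol.orderOf_conj g⁻¹ w
    rwa [inv_inv, hwo] at this
  have hw1 : Outer z Q (g⁻¹ * w * g) := ⟨hw1o, hw1z, fun hm => hw
    ((h.isConj_of_mem hm hw1o).trans (isConj_iff.2 ⟨g, by group⟩))⟩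
  obtain ⟨F, A⟩ := h.exists_adapted hw1
  rw [← A.klein.2.2.2]
  refine Nat.card_congr
    { toFun := fun x => ⟨g⁻¹ * x * g, mem_C.2 ?_, mem_C.2 ?_⟩
      invFun := fun x => ⟨g * x * g⁻¹, mem_C.2 ?_, mem_C.2 ?_⟩
      left_inv := fun x => Subtype.ext (by group)
      right_inv := fun x => Subtype.ext (by group) }
  · calc g⁻¹ * (x : G) * g * z = g⁻¹ * ((x : G) * (g * z * g⁻¹)) * g := by group
      _ = g⁻¹ * ((g * z * g⁻¹) * (x : G)) * g := by rw [hg, mem_C.1 x.2.1]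
      _ = _ := by group
  · calc g⁻¹ * (x : G) * g * (g⁻¹ * w * g) = g⁻¹ * ((x : G) * w) * g := by group
      _ = g⁻¹ * (w * (x : G)) * g := by rw [mem_C.1 x.2.2]
      _ = _ := by group
  · rw [← hg]
    calc g * (x : G) * g⁻¹ * (g * z * g⁻¹) = g * ((x : G) * z) * g⁻¹ := by group
      _ = g * (z * (x : G)) * g⁻¹ := by rw [mem_C.1 x.2.1]
      _ = _ := by group
  · calc g * (x : G) * g⁻¹ * w = g * ((x : G) * (g⁻¹ * w * g)) * g⁻¹ := by group
      _ = g * ((g⁻¹ * w * g) * (x : G)) * g⁻¹ := by rw [mem_C.1 x.2.2]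
      _ = _ := by group

theorem exists_CT {t : G} (ht : Outer z Q t) : ∃ s g : G, CT z Q t s g := by
  obtain ⟨F, A⟩ := h.exists_adapted ht
  obtain ⟨hV, hsq, hcomm, hcard⟩ := A.klein
  obtain ⟨r, hrz, hr3, hrs, hrπ⟩ := A.exists_r
  set s := F.ι (M.e 4) with hsdef
  have hsQ : s ∈ Q := F.ι_mem h _
  have hsz : s * z = z * s := F.ι_comm h _
  have hst : s * t = t * s := A.four_comm.symm
  have hso : orderOf s = 2 := Invol.orderOf_eq_two_iff.2 ⟨fun e => (M.e_ne 4).1 (F.ι_inj (by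
    rw [map_one]; exact e)), by rw [hsdef, ← map_mul, M.e_mul_self, map_one]⟩
  have hsne : s ≠ z := fun e => (M.e_ne 4).2 (F.ι_inj (by rw [F.ι_zM]; exact e))
  have hzz := h.zsq
  have hss := Invol.mul_self_eq_one hso
  -- the element fixing s and moving z
  obtain ⟨g0, hg0⟩ := isConj_iff.1 (h.isConj_of_mem hsQ hso)
  set y := g0⁻¹ * z * g0 with hy
  have hyz : y * z = z * y := by
    calc g0⁻¹ * z * g0 * z = g0⁻¹ * (z * (g0 * z * g0⁻¹)) * g0 := by group
      _ = g0⁻¹ * ((g0 * z * g0⁻¹) * z) * g0 := by rw [hg0, hsz]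
      _ = z * (g0⁻¹ * z * g0) := by group
  have hyo : orderOf y = 2 := by
    have := Invol.orderOf_conj g0⁻¹ z
    rwa [inv_inv, h.hz] at this
  have hyQ : y ∈ Q := (h.dich hyo hyz).1 (isConj_iff.2 ⟨g0⁻¹, by rw [hy]; group⟩)
  have hyne : y ≠ z := fun e => hsne (by
    calc s = g0 * z * g0⁻¹ := hg0.symm
      _ = g0 * y * g0⁻¹ := by rw [e]
      _ = z := by rw [hy]; group)
  obtain ⟨i, a, hya⟩ := F.exists_eq h hyQ hyo hyne
  obtain ⟨q, hq⟩ := M.exists_flip i
  have hqy : F.ι q * y * (F.ι q)⁻¹ = z * y := by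
    rw [hya, F.conj_zp h (F.ι_comm h q), ← map_inv, ← map_mul, ← map_mul, hq, map_mul, map_mul, F.ι_zM,
      F.ι_zp, ← mul_assoc, ← mul_assoc, pw_comm rfl]
  set hh := g0 * F.ι q * g0⁻¹ with hhdef
  have hhs : hh * s * hh⁻¹ = s := by
    rw [hhdef, ← hg0]
    calc g0 * F.ι q * g0⁻¹ * (g0 * z * g0⁻¹) * (g0 * F.ι q * g0⁻¹)⁻¹
        = g0 * (F.ι q * z) * (F.ι q)⁻¹ * g0⁻¹ := by group
      _ = g0 * z * g0⁻¹ := by rw [F.ι_comm h q]; group
  have hhz : hh * z * hh⁻¹ = z * s := by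
    rw [hhdef]
    calc g0 * F.ι q * g0⁻¹ * z * (g0 * F.ι q * g0⁻¹)⁻¹ = g0 * (F.ι q * y * (F.ι q)⁻¹) * g0⁻¹ := by
          rw [hy]; group
      _ = g0 * z * g0⁻¹ * (g0 * y * g0⁻¹) := by rw [hqy]; group
      _ = s * z := by rw [hg0, hy]; group
      _ = z * s := hsz
  obtain ⟨q2, hq2⟩ := M.exists_flip_four
  have hq2s : F.ι q2 * s * (F.ι q2)⁻¹ = z * s := by
    rw [hsdef, ← map_inv, ← map_mul, ← map_mul, hq2, map_mul, F.ι_zM]
  have hq2z : F.ι q2 * z * (F.ι q2)⁻¹ = z := by rw [F.ι_comm h q2]; group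
  set k := hh * F.ι q2 with hkdef
  have hkz : k * z * k⁻¹ = z * s := by
    rw [hkdef]
    calc hh * F.ι q2 * z * (hh * F.ι q2)⁻¹ = hh * (F.ι q2 * z * (F.ι q2)⁻¹) * hh⁻¹ := by group
      _ = z * s := by rw [hq2z, hhz]
  have hks : k * s * k⁻¹ = z := by
    rw [hkdef]
    calc hh * F.ι q2 * s * (hh * F.ι q2)⁻¹ = hh * (F.ι q2 * s * (F.ι q2)⁻¹) * hh⁻¹ := by group
      _ = (hh * z * hh⁻¹) * (hh * s * hh⁻¹) := by rw [hq2s]; group
      _ = z := by rw [hhz, hhs, mul_assoc, hss, mul_one]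
  -- move t back
  set t1 := k * t * k⁻¹ with ht1
  have htz := A.comm
  have ht1z : t1 * z = z * t1 := by
    rw [← hks, ht1]
    calc k * t * k⁻¹ * (k * s * k⁻¹) = k * (t * s) * k⁻¹ := by group
      _ = k * (s * t) * k⁻¹ := by rw [hst]
      _ = _ := by group
  have ht1zs : t1 * (z * s) = z * s * t1 := by
    rw [← hkz, ht1]
    calc k * t * k⁻¹ * (k * z * k⁻¹) = k * (t * z) * k⁻¹ := by group
      _ = k * (z * t) * k⁻¹ := by rw [htz]
      _ = _ := by group
  have ht1s : t1 * s = s * t1 := by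
    refine mul_left_cancel (a := z) ?_
    calc z * (t1 * s) = t1 * (z * s) := by rw [← mul_assoc, ← ht1z, mul_assoc]
      _ = z * (s * t1) := by rw [ht1zs, mul_assoc]
  have ht1o : orderOf t1 = 2 := by rw [ht1, Invol.orderOf_conj, A.ord]
  have ht1Q : t1 ∉ Q := fun hm => h.outer_not_conj ht
    ((h.isConj_of_mem hm ht1o).trans (isConj_iff.2 ⟨k⁻¹, by rw [ht1]; group⟩))
  have hfix4 : F.π h t1 4 = 4 :=
    F.π_eq_of h ht1z (a := 0) (by rw [M.zp_zero, one_mul]; exact mul_inv_eq_iff_eq_mul.2 ht1s)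
  obtain ⟨j, hj⟩ := M.τ_stab _ (F.π_sign h ht1z)
    (by rw [← F.π_mul h ht1z ht1z, Invol.mul_self_eq_one ht1o, F.π_one h])
    (fun e => ht1Q ((F.π_eq_one_iff h ht1z).1 e)) hfix4
  set R := r ^ j.val with hR
  have hRz : R * z = z * R := ((show Commute r z from hrz).pow_left _).eq
  have hRs : R * s = s * R := ((show Commute r s from hrs).pow_left _).eq
  set t2 := R⁻¹ * t1 * R with ht2
  have ht2z : t2 * z = z * t2 :=
    (((show Commute R⁻¹ z from h.commute_inv hRz).mul_left ht1z).mul_left hRz).eq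
  have ht2π : F.π h t2 = M.τ0 := by
    have e := F.π_conj h (h.commute_inv hRz) ht1z
    rw [inv_inv, F.π_inv h hRz, inv_inv, hR, F.π_pow h hrz, hrπ, ← hj] at e
    rw [ht2, hR, e]
    group
  have ht2t2 : t2 * t2 = 1 := by
    rw [ht2]
    calc R⁻¹ * t1 * R * (R⁻¹ * t1 * R) = R⁻¹ * (t1 * t1) * R := by group
      _ = 1 := by rw [Invol.mul_self_eq_one ht1o]; group
  have htt := Invol.mul_self_eq_one A.ord
  have ht2tt : t2 * t * t = t2 := by rw [mul_assoc, htt, mul_one]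
  obtain ⟨w, hwQ, hw⟩ := A.exists_conj_coset (q := t2 * t)
    ((F.π_eq_one_iff h ((show Commute t2 z from ht2z).mul_left htz).eq).1
      (by rw [F.π_mul h ht2z htz, ht2π, A.π_eq]; decide +kernel))
    (by rw [ht2tt, ht2t2])
  rw [ht2tt] at hw
  set g1 := w⁻¹ * R⁻¹ * k with hg1def
  have hg1 : ∀ x y : G, k * x * k⁻¹ = y → y * R = R * y →
      g1 * x * g1⁻¹ = w⁻¹ * y * w := by
    intro x y hxy hyR
    calc g1 * x * g1⁻¹ = w⁻¹ * (R⁻¹ * (k * x * k⁻¹) * R) * w := by rw [hg1def]; group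
      _ = w⁻¹ * (R⁻¹ * (R * y)) * w := by rw [hxy, mul_assoc R⁻¹, hyR]
      _ = _ := by group
  have hg1t : g1 * t = t * g1 := by
    refine mul_inv_eq_iff_eq_mul.1 ?_
    calc g1 * t * g1⁻¹ = w⁻¹ * (R⁻¹ * t1 * R) * w := by rw [hg1def, ht1]; group
      _ = w⁻¹ * (w * t * w⁻¹) * w := by rw [← ht2, hw]
      _ = t := by group
  have hwz := h.le w hwQ
  have hg1s : g1 * s * g1⁻¹ = z := by
    rw [hg1 s z hks hRz.symm, mul_assoc, ← hwz]; group
  have hzsR : z * s * R = R * (z * s) := by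
    rw [mul_assoc, ← hRs, ← mul_assoc, ← hRz, mul_assoc]
  obtain ⟨m, rfl⟩ := F.ι_surj h hwQ
  obtain ⟨b, hb⟩ := M.e_conj m⁻¹ 4
  have hg1z0 : g1 * z * g1⁻¹ = pw z (1 + b) * s := by
    rw [hg1 z (z * s) hkz hzsR, pw_add hzz, pw_one]
    calc (F.ι m)⁻¹ * (z * s) * F.ι m = z * ((F.ι m)⁻¹ * s * F.ι m) := by
          rw [← mul_assoc, (show Commute (F.ι m) z from F.ι_comm h m).inv_left.eq]; group
      _ = z * pw z b * s := by
          rw [mul_assoc z, ← F.ι_zp b, hsdef, ← map_mul, ← hb]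
          simp only [map_mul, map_inv, inv_inv]
  have hg1E : ∀ x : G, x * z = z * x → x * t = t * x → x * s = s * x := fun x hxz hxt =>
    hcomm x s hxz hxt hsz hst
  have hg1z : g1 * z * g1⁻¹ = z * s := by
    rcases z2_cases (1 + b) with e | e <;> rw [e] at hg1z0
    · exfalso
      rw [pw_zero, one_mul] at hg1z0
      have hfix : g1 * (z * s) = z * s * g1 := by
        refine mul_inv_eq_iff_eq_mul.1 ?_
        calc g1 * (z * s) * g1⁻¹ = (g1 * z * g1⁻¹) * (g1 * s * g1⁻¹) := by group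
          _ = z * s := by rw [hg1z0, hg1s, hsz]
      have hv : IsConj z (z * s) := (isConj_iff.2 ⟨hh, hhz⟩)
      have hc16 := h.card_pair hv A.ord (h.outer_not_conj ht)
        (((show Commute t z from htz).mul_right hst.symm).symm).eq
      have hle : Subgroup.centralizer ({z} : Set G) ⊓ Subgroup.centralizer ({t} : Set G) ≤
          Subgroup.centralizer ({z * s} : Set G) ⊓ Subgroup.centralizer ({t} : Set G) := fun x hx =>
        ⟨mem_C.2 ((show Commute x z from mem_C.1 hx.1).mul_right (hg1E x (mem_C.1 hx.1) (mem_C.1 hx.2))).eq,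
          hx.2⟩
      have hmem : g1 ∈ Subgroup.centralizer ({z} : Set G) ⊓ Subgroup.centralizer ({t} : Set G) := by
        rw [Subgroup.eq_of_le_of_card_ge hle (by rw [hc16, hcard])]
        exact ⟨mem_C.2 hfix, mem_C.2 hg1t⟩
      exact hsne (by rw [← hg1z0, mul_inv_eq_iff_eq_mul.2 (mem_C.1 hmem.1)])
    · rwa [pw_one] at hg1z0
  have c3 : ∀ x : G, g1 ^ 3 * x * (g1 ^ 3)⁻¹ = g1 * (g1 * (g1 * x * g1⁻¹) * g1⁻¹) * g1⁻¹ := fun x => by
    rw [pow_three]; group
  have hg1zs : g1 * (z * s) * g1⁻¹ = s := by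
    calc g1 * (z * s) * g1⁻¹ = (g1 * z * g1⁻¹) * (g1 * s * g1⁻¹) := by group
      _ = z * (s * z) := by rw [hg1z, hg1s, mul_assoc]
      _ = s := by rw [hsz, ← mul_assoc, hzz, one_mul]
  have h3z : g1 ^ 3 * z = z * g1 ^ 3 := mul_inv_eq_iff_eq_mul.1 (by rw [c3, hg1z, hg1zs, hg1s])
  have h3t : g1 ^ 3 * t = t * g1 ^ 3 := ((show Commute g1 t from hg1t).pow_left 3).eq
  have h6 := hsq _ h3z h3t
  have h3s := hg1E _ h3z h3t
  have c4 : ∀ x : G, g1 ^ 4 * x * (g1 ^ 4)⁻¹ = g1 * (g1 ^ 3 * x * (g1 ^ 3)⁻¹) * g1⁻¹ := fun x => by group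
  refine ⟨s, g1 ^ 4, ⟨ht, hso, hsne, hsQ, hsz, hst, hcard, hsq, hcomm, fun x hxz hxt hxo => ⟨fun e => ?_, ?_⟩,
    hV, ((show Commute g1 t from hg1t).pow_left 4).eq, ?_, ?_, ?_⟩⟩
  · exact (hV x ((h.dich hxo hxz).1 e) hxt).resolve_left (Invol.ne_one hxo)
  · rintro (rfl | rfl | rfl)
    · exact IsConj.refl _
    · exact h.isConj_of_mem hsQ hxo
    · exact h.isConj_of_mem (mul_mem h.zmem hsQ) hxo
  · calc (g1 ^ 4) ^ 3 = (g1 ^ 3 * g1 ^ 3) * (g1 ^ 3 * g1 ^ 3) := by group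
      _ = 1 := by rw [h6, one_mul]
  · rw [c4, mul_inv_eq_iff_eq_mul.2 h3z, hg1z]
  · rw [c4, mul_inv_eq_iff_eq_mul.2 h3s, hg1s]

end HJ

end Cfsg.Agent.HallJanko
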