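import Mathlib

/-!
The model of the extraspecial group of order 32 of minus type: four anticommuting involutions generate it.
-/

set_option autoImplicit false

namespace Cfsg.Agent.HallJanko

/-- A group of order 32: `a` is the central bit, the others are exponents of four generators. -/
@[ext] structure M where
  a : ZMod 2
  b0 : ZMod 2
  b1 : ZMod 2
  b2 : ZMod 2
  b3 : ZMod 2
  deriving DecidableEq

namespace M

/-- The bits. -/
def equivProd : M ≃ ZMod 2 × ZMod 2 × ZMod 2 × ZMod 2 × ZMod 2 where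
  toFun x := (x.a, x.b0, x.b1, x.b2, x.b3)
  invFun p := ⟨p.1, p.2.1, p.2.2.1, p.2.2.2.1, p.2.2.2.2⟩
  left_inv _ := rfl
  right_inv _ := rfl

instance : Fintype M := Fintype.ofEquiv _ equivProd.symm

theorem card : Nat.card M = 32 := by
  rw [Nat.card_congr equivProd]; simp

/-- The cocycle. -/
def coc (x y : M) : ZMod 2 :=
  x.b1 * y.b0 + x.b2 * (y.b0 + y.b1) + x.b3 * (y.b0 + y.b1 + y.b2)

instance : Mul M :=
  ⟨fun x y => ⟨x.a + y.a + coc x y, x.b0 + y.b0, x.b1 + y.b1, x.b2 + y.b2, x.b3 + y.b3⟩⟩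

instance : One M := ⟨⟨0, 0, 0, 0, 0⟩⟩

instance : Inv M := ⟨fun x => ⟨x.a + coc x x, x.b0, x.b1, x.b2, x.b3⟩⟩

theorem mul_def (x y : M) :
    x * y = ⟨x.a + y.a + coc x y, x.b0 + y.b0, x.b1 + y.b1, x.b2 + y.b2, x.b3 + y.b3⟩ := rfl

theorem one_def : (1 : M) = ⟨0, 0, 0, 0, 0⟩ := rfl

theorem inv_def (x : M) : x⁻¹ = ⟨x.a + coc x x, x.b0, x.b1, x.b2, x.b3⟩ := rfl

theorem dbl : ∀ u : ZMod 2, u + u = 0 := by decide

instance : Group M :=
  Group.ofLeftAxioms
    (fun x y w => by ext <;> simp [mul_def, coc] <;> ring)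
    (by decide +kernel)
    (by decide +kernel)

/-- The central involution. -/
def zM : M := ⟨1, 0, 0, 0, 0⟩

/-- The five classes of non-central involutions. -/
def e : Fin 5 → M :=
  ![⟨0, 1, 0, 0, 0⟩, ⟨0, 0, 1, 0, 0⟩, ⟨0, 0, 0, 1, 0⟩, ⟨0, 0, 0, 0, 1⟩, ⟨0, 1, 1, 1, 1⟩]

/-- Powers of the central involution. -/
def zp (a : ZMod 2) : M := ⟨a, 0, 0, 0, 0⟩

theorem e_four : e 4 = e 0 * e 1 * e 2 * e 3 := by decide

theorem e_mul_self : ∀ i, e i * e i = 1 := by decide

theorem e_ne : ∀ i, e i ≠ 1 ∧ e i ≠ zM := by decide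

theorem e_anti : ∀ i j, i ≠ j → e i * e j = zM * (e j * e i) := by decide

theorem e_class : ∀ i j : Fin 5, ∀ a b : ZMod 2, zp a * e i = zp b * e j → a = b ∧ i = j := by
  decide +kernel

theorem e_conj : ∀ q : M, ∀ i, ∃ a : ZMod 2, q * e i * q⁻¹ = zp a * e i := by decide +kernel

theorem inv_cases : ∀ x : M, x * x = 1 → x = 1 ∨ x = zM ∨ ∃ i, ∃ a : ZMod 2, x = zp a * e i := by
  decide +kernel

theorem ne_central : ∀ x : M, x ≠ 1 →
    x = zM ∨ ∃ i, x * e i * x⁻¹ * (e i)⁻¹ = zM := by decide +kernel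

/-- Every change of signs on the generators is inner. -/
theorem signs_inner : ∀ a0 a1 a2 a3 : ZMod 2, ∃ q : M, q * e 0 * q⁻¹ = zp a0 * e 0 ∧
    q * e 1 * q⁻¹ = zp a1 * e 1 ∧ q * e 2 * q⁻¹ = zp a2 * e 2 ∧ q * e 3 * q⁻¹ = zp a3 * e 3 := by
  decide +kernel

theorem exists_flip : ∀ i, ∃ q : M, q * e i * q⁻¹ = zM * e i := by decide +kernel

theorem zp_one : zp 1 = zM := rfl

theorem zp_zero : zp 0 = 1 := rfl

theorem decomp : ∀ x : M, x = zp x.a * (if x.b0 = 1 then e 0 else 1) * (if x.b1 = 1 then e 1 else 1) *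
    (if x.b2 = 1 then e 2 else 1) * (if x.b3 = 1 then e 3 else 1) := by
  decide +kernel

end M

variable {G : Type*} [Group G]

/-- A power with exponent modulo two. -/
def pw (g : G) (a : ZMod 2) : G := if a = 1 then g else 1

theorem z2_cases : ∀ a : ZMod 2, a = 0 ∨ a = 1 := by decide

@[simp] theorem pw_zero (g : G) : pw g 0 = 1 := if_neg (by decide)

@[simp] theorem pw_one (g : G) : pw g 1 = g := if_pos rfl

theorem pw_add {g : G} (hg : g * g = 1) (a b : ZMod 2) : pw g (a + b) = pw g a * pw g b := by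
  rcases z2_cases a with rfl | rfl <;> rcases z2_cases b with rfl | rfl <;>
    simp [hg, show (1 : ZMod 2) + 1 = 0 from rfl]

theorem pw_comm {g h : G} (hgh : g * h = h * g) (a : ZMod 2) : pw g a * h = h * pw g a := by
  rcases z2_cases a with rfl | rfl <;> simp [hgh]

theorem pw_swap {z s u : G} (hsu : s * u = z * (u * s)) (a b : ZMod 2) :
    pw s a * pw u b = pw z (a * b) * (pw u b * pw s a) := by
  rcases z2_cases a with rfl | rfl <;> rcases z2_cases b with rfl | rfl <;> simp [hsu]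

/-- Four anticommuting involutions. -/
structure IsBase (z : G) (s : Fin 4 → G) : Prop where
  sq : ∀ i, s i * s i = 1
  zsq : z * z = 1
  zne : z ≠ 1
  zc : ∀ i, z * s i = s i * z
  anti : ∀ i j, i ≠ j → s i * s j = z * (s j * s i)

namespace IsBase

variable {z : G} {s : Fin 4 → G} (h : IsBase z s)
include h

theorem layer {R S T U : G} {c d : ZMod 2} {i : Fin 4} {x y : ZMod 2}
    (hR : R * pw (s i) y = pw z c * (pw (s i) y * R)) (hT : R * T = pw z d * U) :
    pw (s i) x * R * (pw (s i) y * T) = pw z (c + d) * (pw (s i) (x + y) * U) := by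
  have hc : ∀ e : ZMod 2, pw (s i) x * pw z e = pw z e * pw (s i) x := fun e => by
    rcases z2_cases x with rfl | rfl <;> simp [(pw_comm (h.zc i) e)]
  have hc' : ∀ e : ZMod 2, pw (s i) (x + y) * pw z e = pw z e * pw (s i) (x + y) := fun e => by
    rcases z2_cases (x + y) with q | q <;> rw [q] <;> simp [(pw_comm (h.zc i) e)]
  calc pw (s i) x * R * (pw (s i) y * T)
      = pw (s i) x * (R * pw (s i) y) * T := by group
    _ = pw (s i) x * pw z c * pw (s i) y * (R * T) := by rw [hR]; group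
    _ = pw z c * (pw (s i) x * pw (s i) y) * (pw z d * U) := by rw [hc, hT]; group
    _ = pw z c * (pw (s i) (x + y) * pw z d) * U := by rw [pw_add (h.sq i)]; group
    _ = _ := by rw [hc', pw_add h.zsq]; group

theorem swap_mul {A B : G} {i : Fin 4} {y c d : ZMod 2}
    (hA : A * pw (s i) y = pw z c * (pw (s i) y * A)) (hB : B * pw (s i) y = pw z d * (pw (s i) y * B))
    (hAz : ∀ e : ZMod 2, A * pw z e = pw z e * A) :
    A * B * pw (s i) y = pw z (c + d) * (pw (s i) y * (A * B)) := by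
  calc A * B * pw (s i) y = A * pw z d * pw (s i) y * B := by rw [mul_assoc A, hB]; group
    _ = pw z d * (A * pw (s i) y) * B := by rw [hAz]; group
    _ = pw z (d + c) * (pw (s i) y * (A * B)) := by rw [hA, pw_add h.zsq]; group
    _ = _ := by rw [add_comm d c]

theorem z_pw (i : Fin 4) (x e : ZMod 2) : pw (s i) x * pw z e = pw z e * pw (s i) x := by
  rcases z2_cases x with rfl | rfl <;> simp [(pw_comm (h.zc i) e)]

/-- The map of the model onto the generated group. -/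
def hom : M →* G :=
  MonoidHom.mk' (fun x => pw z x.a *
    (pw (s 0) x.b0 * (pw (s 1) x.b1 * (pw (s 2) x.b2 * pw (s 3) x.b3)))) fun x y => by
    have s32 := pw_swap (h.anti 3 2 (by decide)) x.b3 y.b2
    have e2 : pw (s 2) x.b2 * pw (s 3) x.b3 * (pw (s 2) y.b2 * pw (s 3) y.b3) =
        pw z (x.b3 * y.b2 + 0) * (pw (s 2) (x.b2 + y.b2) * pw (s 3) (x.b3 + y.b3)) :=
      h.layer (S := 1) s32 (by rw [pw_add (h.sq 3), pw_zero, one_mul])
    have hz23 : ∀ e : ZMod 2, pw (s 2) x.b2 * pw (s 3) x.b3 * pw z e =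
        pw z e * (pw (s 2) x.b2 * pw (s 3) x.b3) := fun e => by
      rw [mul_assoc, h.z_pw, ← mul_assoc, h.z_pw, mul_assoc]
    have s231 := h.swap_mul (pw_swap (h.anti 2 1 (by decide)) x.b2 y.b1)
      (pw_swap (h.anti 3 1 (by decide)) x.b3 y.b1) (fun e => h.z_pw 2 x.b2 e)
    have e1 := h.layer (x := x.b1) (S := 1) s231 e2
    have s230 := h.swap_mul (pw_swap (h.anti 2 0 (by decide)) x.b2 y.b0)
      (pw_swap (h.anti 3 0 (by decide)) x.b3 y.b0) (fun e => h.z_pw 2 x.b2 e)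
    have s1230 := h.swap_mul (pw_swap (h.anti 1 0 (by decide)) x.b1 y.b0) s230
      (fun e => h.z_pw 1 x.b1 e)
    have e0 := h.layer (x := x.b0) (S := 1) s1230 e1
    have hzx : ∀ e : ZMod 2, pw (s 0) x.b0 * (pw (s 1) x.b1 * (pw (s 2) x.b2 * pw (s 3) x.b3)) *
        pw z e = pw z e * (pw (s 0) x.b0 * (pw (s 1) x.b1 * (pw (s 2) x.b2 * pw (s 3) x.b3))) :=
      fun e => by
        rw [mul_assoc, mul_assoc, hz23, ← mul_assoc (pw (s 1) x.b1), h.z_pw, mul_assoc,
          ← mul_assoc (pw (s 0) x.b0), h.z_pw, mul_assoc]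
    simp only [M.mul_def, M.coc]
    symm
    calc pw z x.a * (pw (s 0) x.b0 * (pw (s 1) x.b1 * (pw (s 2) x.b2 * pw (s 3) x.b3))) *
          (pw z y.a * (pw (s 0) y.b0 * (pw (s 1) y.b1 * (pw (s 2) y.b2 * pw (s 3) y.b3))))
        = pw z x.a * (pw (s 0) x.b0 * (pw (s 1) x.b1 * (pw (s 2) x.b2 * pw (s 3) x.b3)) * pw z y.a) *
          (pw (s 0) y.b0 * (pw (s 1) y.b1 * (pw (s 2) y.b2 * pw (s 3) y.b3))) := by group
      _ = pw z (x.a + y.a) * (pw (s 0) x.b0 * (pw (s 1) x.b1 * (pw (s 2) x.b2 * pw (s 3) x.b3)) *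
          (pw (s 0) y.b0 * (pw (s 1) y.b1 * (pw (s 2) y.b2 * pw (s 3) y.b3)))) := by
            rw [hzx, pw_add h.zsq]; group
      _ = _ := by
            rw [e0, ← mul_assoc, ← pw_add h.zsq]
            congr 2
            ring

theorem hom_zM : h.hom M.zM = z := by simp [hom, M.zM]

theorem hom_zp (a : ZMod 2) : h.hom (M.zp a) = pw z a := by simp [hom, M.zp]

theorem hom_e (i : Fin 4) : h.hom (M.e i.castSucc) = s i := by
  fin_cases i <;> simp [hom, M.e]

theorem hom_e_four : h.hom (M.e 4) = s 0 * s 1 * s 2 * s 3 := by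
  rw [M.e_four, map_mul, map_mul, map_mul]
  exact congrArg₂ (· * ·) (congrArg₂ (· * ·) (congrArg₂ (· * ·) (h.hom_e 0) (h.hom_e 1)) (h.hom_e 2)) (h.hom_e 3)

theorem hom_injective : Function.Injective h.hom := by
  refine (injective_iff_map_eq_one _).2 fun x hx => by_contra fun hne => h.zne ?_
  rcases M.ne_central x hne with e | ⟨i, e⟩
  · rwa [e, h.hom_zM] at hx
  · have := congrArg h.hom e
    rw [map_mul, map_mul, map_mul, map_inv, map_inv, hx, h.hom_zM] at this
    simpa using this.symm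

theorem range_eq [Finite G] {Q : Subgroup G} (hcard : Nat.card Q = 32) (hz : z ∈ Q)
    (hs : ∀ i, s i ∈ Q) : h.hom.range = Q := by
  refine Subgroup.eq_of_le_of_card_ge ?_ ?_
  · rintro _ ⟨x, rfl⟩
    have hp : ∀ {g : G}, g ∈ Q → ∀ a : ZMod 2, pw g a ∈ Q := fun {g} hg a => by
      rcases z2_cases a with rfl | rfl <;> simp [hg, one_mem]
    exact mul_mem (hp hz _) (mul_mem (hp (hs 0) _) (mul_mem (hp (hs 1) _)
      (mul_mem (hp (hs 2) _) (hp (hs 3) _))))
  · rw [hcard, ← Nat.card_congr (MonoidHom.ofInjective h.hom_injective).toEquiv, M.card]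

/-- Two maps agreeing on the base agree. -/
theorem ext_base {H : Type*} [Group H] {f g : M →* H} (hz : f M.zM = g M.zM)
    (he : ∀ i : Fin 4, f (M.e i.castSucc) = g (M.e i.castSucc)) : f = g := by
  refine MonoidHom.ext fun x => ?_
  have e0 : f (M.e 0) = g (M.e 0) := he 0
  have e1 : f (M.e 1) = g (M.e 1) := he 1
  have e2 : f (M.e 2) = g (M.e 2) := he 2
  have e3 : f (M.e 3) = g (M.e 3) := he 3
  have ez : f (M.zp x.a) = g (M.zp x.a) := by
    rcases z2_cases x.a with q | q <;> rw [q]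
    · rw [M.zp_zero, map_one, map_one]
    · exact hz
  rw [M.decomp x]
  simp only [map_mul]
  rw [ez]
  congr 1 <;> [congr 1; skip] <;> [congr 1; skip; skip] <;> [congr 1; skip; skip; skip]
  all_goals first | rfl | (split_ifs <;> simp [e0, e1, e2, e3])

end IsBase

end Cfsg.Agent.HallJanko
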