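import Cfsg.Agent.HallJanko.FiveSylow

/-!
Centralisers of elements of odd prime order: orders 3 and 5.
-/

set_option autoImplicit false

namespace Cfsg.Agent.HallJanko

namespace M

theorem three_cent_aux : ∀ σ : Equiv.Perm (Fin 5), Equiv.Perm.sign σ = 1 → σ * τσ = τσ * σ →
    σ = 1 ∨ σ = τσ ∨ σ = τσ ^ 2 := by decide +kernel

end M

variable {G : Type*} [Group G] [Finite G] {z : G} {Q : Subgroup G} {t s g : G} {K : Subgroup G}

/-- If the centraliser of an involution has order not divisible by four then neither has the group. -/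
theorem four_not_dvd_of_cent {H : Type*} [Group H] [Finite H] {u : H} (hu : orderOf u = 2)
    (hc : ¬ 4 ∣ Nat.card (Subgroup.centralizer ({u} : Set H))) : ¬ 4 ∣ Nat.card H := fun hd => hc (by
  haveI : Fact (Nat.Prime 2) := ⟨Nat.prime_two⟩
  obtain ⟨K, hK, hle⟩ := Sylow.exists_subgroup_card_pow_succ (p := 2) (n := 1) (G := H) (by simpa using hd)
    (H := Subgroup.zpowers u) (by rw [Nat.card_zpowers, hu, pow_one])
  have hle' : K ≤ Subgroup.centralizer ({u} : Set H) := fun a ha => mem_C.2 (congrArg Subtype.val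
    (IsPGroup.commutative_of_card_eq_prime_sq hK ⟨a, ha⟩ ⟨u, hle (Subgroup.mem_zpowers u)⟩))
  have := Subgroup.card_dvd_of_le hle'
  rwa [hK] at this)

namespace HJ

variable (h : HJ z Q)
include h

theorem five_commuting_cent {y : G} (hy : orderOf y = 5) (hyz : y * z = z * y) :
    Nat.card (Subgroup.centralizer ({y} : Set G)) ∣ 2 * (3 * 25) := by
  classical
  haveI : Fact (Nat.Prime 2) := ⟨Nat.prime_two⟩
  haveI : Fact (Nat.Prime 5) := ⟨by norm_num⟩
  set Y := Subgroup.centralizer ({y} : Set G) with hY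
  set z' : Y := ⟨z, mem_C.2 hyz.symm⟩
  set y' : Y := ⟨y, mem_C.2 rfl⟩
  have hz'o : orderOf z' = 2 := by rw [← h.hz, ← Subgroup.orderOf_coe]
  have hy5 : y ^ 5 = 1 := orderOf_dvd_iff_pow_eq_one.1 hy.dvd
  have hzy : Commute z y := hyz.symm
  have h10 : orderOf (z * y) = 10 := by
    rw [hzy.orderOf_mul_eq_mul_orderOf_of_coprime (by rw [h.hz, hy]; norm_num), h.hz, hy]
  have hcl : ∀ a : G, a * z = z * a → a * y = y * a → a ∈ Subgroup.zpowers (z * y) := by
    intro a haz hay
    have hzm : z ∈ Subgroup.zpowers (z * y) := by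
      have := pow_mem (Subgroup.mem_zpowers (z * y)) 5
      rwa [hzy.mul_pow, hy5, mul_one, show z ^ 5 = (z * z) * (z * z) * z by
        simp only [pow_succ, pow_zero, one_mul, mul_assoc], h.zsq, one_mul, one_mul] at this
    have hym : y ∈ Subgroup.zpowers (z * y) := by
      have := mul_mem (inv_mem hzm) (Subgroup.mem_zpowers (z * y))
      rwa [inv_mul_cancel_left] at this
    obtain ⟨k, hk⟩ := h.five_cent hyz hy haz hay
    rcases hk with e | e <;> rw [e]
    · exact pow_mem hym _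
    · exact mul_mem hzm (pow_mem hym _)
  have hc10 : Nat.card (Subgroup.centralizer ({z'} : Set Y)) ∣ 10 := by
    have hle : (Subgroup.centralizer ({z'} : Set Y)).map Y.subtype ≤ Subgroup.zpowers (z * y) := by
      rintro _ ⟨a, ha, rfl⟩
      exact hcl _ (congrArg Subtype.val (mem_C.1 ha)) (mem_C.1 a.2)
    have := Subgroup.card_dvd_of_le hle
    rwa [Nat.card_zpowers, h10,
      ← Nat.card_congr (Subgroup.equivMapOfInjective _ _ Y.subtype_injective).toEquiv] at this
  have h4 : ¬ 4 ∣ Nat.card Y := four_not_dvd_of_cent hz'o fun e => by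
    have := e.trans hc10
    norm_num at this
  obtain ⟨P2, hP2⟩ := (IsPGroup.of_card (n := 1) (by rw [Nat.card_zpowers, hz'o, pow_one]) :
    IsPGroup 2 (Subgroup.zpowers z')).exists_le_sylow
  have hP2e : Subgroup.zpowers z' = (P2 : Subgroup Y) := by
    refine Subgroup.eq_of_le_of_card_ge hP2 ?_
    obtain ⟨n, hn⟩ := IsPGroup.iff_card.1 P2.2
    rw [hn, Nat.card_zpowers, hz'o]
    rcases Nat.lt_or_ge n 2 with hn2 | hn2
    · calc 2 ^ n ≤ 2 ^ 1 := Nat.pow_le_pow_right (by norm_num) (by omega)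
        _ = 2 := by norm_num
    · exfalso
      refine h4 ((Dvd.dvd.trans ?_ (Subgroup.card_subgroup_dvd_card (P2 : Subgroup Y))))
      rw [hn]
      exact (show 4 = 2 ^ 2 by norm_num) ▸ pow_dvd_pow 2 hn2
  have hP2c : Nat.card (P2 : Subgroup Y) = 2 := by rw [← hP2e, Nat.card_zpowers, hz'o]
  have hev : 2 ∣ Nat.card Y := hP2c ▸ Subgroup.card_subgroup_dvd_card _
  have hmin : (Nat.card Y).minFac = 2 := (Nat.minFac_eq_two_iff _).2 hev
  have hcyc : IsCyclic P2 := isCyclic_of_prime_card hP2c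
  set O := (MonoidHom.transferSylow P2 (hcyc.normalizer_le_centralizer hmin)).ker with hO
  have hcompl := IsCyclic.isComplement' hmin hcyc
  have hOc : Nat.card Y = Nat.card O * 2 := by rw [← hcompl.card_mul, hP2c]
  have hOn : O.Normal := MonoidHom.normal_ker _
  have hOodd : ¬ 2 ∣ Nat.card O := fun e => h4 (by
    obtain ⟨j, hj⟩ := e
    exact ⟨j, by rw [hOc, hj]; ring⟩)
  -- `y` lies in the complement
  have hyO : y' ∈ O := by
    haveI := hOn
    have hidx : O.index = 2 := by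
      have := O.card_mul_index
      rw [hOc] at this
      exact Nat.eq_of_mul_eq_mul_left Nat.card_pos this
    have h2 : (y' : Y ⧸ O) ^ 2 = 1 := by
      rw [← hidx, Subgroup.index_eq_card]; exact pow_card_eq_one'
    have h5' : (y' : Y ⧸ O) ^ 5 = 1 := by
      rw [← QuotientGroup.mk_pow, show y' ^ 5 = 1 from Subtype.ext hy5, QuotientGroup.mk_one]
    rw [show 5 = 2 * 2 + 1 from rfl, pow_succ, pow_mul, h2, one_pow, one_mul] at h5'
    exact (QuotientGroup.eq_one_iff _).1 h5'
  -- `z` acts fixed point freely modulo `y`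
  set R := Subgroup.zpowers (⟨y', hyO⟩ : O) with hR
  have hyc : ∀ a : O, a * (⟨y', hyO⟩ : O) = (⟨y', hyO⟩ : O) * a := fun a =>
    Subtype.ext (Subtype.ext (mem_C.1 (a : Y).2))
  haveI hRn : R.Normal := ⟨fun a ha b => by
    obtain ⟨i, rfl⟩ := Subgroup.mem_zpowers_iff.1 ha
    rw [((show Commute b (⟨y', hyO⟩ : O) from hyc b).zpow_right i).eq, mul_inv_cancel_right]
    exact ha⟩
  let ζ₀ : O →* O := MonoidHom.mk' (fun a => ⟨z' * a * z'⁻¹, hOn.conj_mem _ a.2 z'⟩) fun a b =>
    Subtype.ext (by push_cast; group)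
  have hζR : R ≤ R.comap ζ₀ := fun a ha => by
    obtain ⟨i, rfl⟩ := Subgroup.mem_zpowers_iff.1 ha
    rw [Subgroup.mem_comap, map_zpow]
    have e : ζ₀ ⟨y', hyO⟩ = ⟨y', hyO⟩ := Subtype.ext (Subtype.ext (by
      show z * y * z⁻¹ = y
      rw [hzy.eq, mul_inv_cancel_right]))
    rw [e]; exact ha
  let ζ : O ⧸ R →* O ⧸ R := QuotientGroup.map R R ζ₀ hζR
  have hinv : Function.Involutive ⇑ζ := fun q => by
    induction q using QuotientGroup.induction_on with | _ a => ?_
    show ((ζ₀ (ζ₀ a) : O) : O ⧸ R) = (a : O ⧸ R)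
    congr 1
    refine Subtype.ext (Subtype.ext ?_)
    show z * (z * ((a : Y) : G) * z⁻¹) * z⁻¹ = ((a : Y) : G)
    calc z * (z * ((a : Y) : G) * z⁻¹) * z⁻¹ = (z * z) * ((a : Y) : G) * (z * z)⁻¹ := by group
      _ = _ := by rw [h.zsq]; group
  have hfpf : MonoidHom.FixedPointFree (⇑ζ) := by
    intro q hq
    induction q using QuotientGroup.induction_on with | _ a => ?_
    have e : ((ζ₀ a : O) : O ⧸ R) = (a : O ⧸ R) := hq
    rw [QuotientGroup.eq] at e
    obtain ⟨i, hi⟩ := Subgroup.mem_zpowers_iff.1 e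
    set A := ((a : Y) : G) with hA
    have hi' : y ^ i = (z * A * z⁻¹)⁻¹ * A := by
      have := congrArg (fun b : O => ((b : Y) : G)) hi
      push_cast at this
      exact this
    have hcy : Commute (y ^ i) z := (show Commute y z from hyz).zpow_left i
    have hAy : Commute A y := mem_C.1 (a : Y).2
    have e1 : z * A * z⁻¹ = A * (y ^ i)⁻¹ := by rw [hi']; group
    have e2 : (y ^ i) * (y ^ i) = 1 := by
      have : A = A * (y ^ i)⁻¹ * (y ^ i)⁻¹ := by
        calc A = z * (z * A * z⁻¹) * z⁻¹ := by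
              rw [show z * (z * A * z⁻¹) * z⁻¹ = (z * z) * A * (z * z)⁻¹ by group, h.zsq]; group
          _ = (z * A * z⁻¹) * (z * (y ^ i)⁻¹ * z⁻¹) := (congrArg (fun u => z * u * z⁻¹) e1).trans (by group)
          _ = A * (y ^ i)⁻¹ * (y ^ i)⁻¹ := by rw [← hcy.inv_left.eq, mul_inv_cancel_right, e1]
      have h' : A * 1 = A * ((y ^ i)⁻¹ * (y ^ i)⁻¹) := by rw [mul_one, ← mul_assoc]; exact this
      rw [← inv_eq_one, mul_inv_rev]; exact (mul_left_cancel h').symm
    have hy1 : y ^ i = 1 := by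
      have h5i : (y ^ i) ^ 5 = 1 := by
        rw [← zpow_natCast, ← zpow_mul, mul_comm, zpow_mul, zpow_natCast, hy5, one_zpow]
      rwa [show (y ^ i) ^ 5 = (y ^ i * y ^ i) * (y ^ i * y ^ i) * y ^ i by
        simp only [pow_succ, pow_zero, one_mul, mul_assoc], e2, one_mul, one_mul] at h5i
    rw [hy1, inv_one, mul_one] at e1
    have hAm := hcl A (mul_inv_eq_iff_eq_mul.1 e1).symm hAy.eq
    have hAodd : Odd (orderOf A) := by
      rw [hA, Subgroup.orderOf_coe, Subgroup.orderOf_coe]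
      exact (Nat.not_even_iff_odd.1 (fun e' => hOodd ((even_iff_two_dvd.1 e').trans (orderOf_dvd_natCard a))))
    obtain ⟨j, hj⟩ := Subgroup.mem_zpowers_iff.1 hAm
    have h5A : A ^ 5 = 1 := by
      have h10A : A ^ 10 = 1 := by
        rw [← hj, ← zpow_natCast, ← zpow_mul, mul_comm, zpow_mul, zpow_natCast, ← h10, pow_orderOf_eq_one,
          one_zpow]
      refine orderOf_dvd_iff_pow_eq_one.1 ((Nat.coprime_comm.1 ((Nat.prime_two.coprime_iff_not_dvd).2 ?_)).dvd_of_dvd_mul_left
        (show orderOf A ∣ 2 * 5 from orderOf_dvd_iff_pow_eq_one.2 h10A))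
      exact fun e' => Nat.not_even_iff_odd.2 hAodd (even_iff_two_dvd.2 e')
    have hAy' : A ∈ Subgroup.zpowers y := by
      refine Subgroup.mem_zpowers_iff.2 ⟨j * 6, ?_⟩
      have e6 : (z * y) ^ (6 : ℤ) = y := by
        rw [show (6 : ℤ) = ((6 : ℕ) : ℤ) from rfl, zpow_natCast, hzy.mul_pow,
          show z ^ 6 = 1 by rw [show 6 = 2 * 3 from rfl, pow_mul, pow_two, h.zsq, one_pow], one_mul,
          show 6 = 5 + 1 from rfl, pow_succ, hy5, one_mul]
      calc y ^ (j * 6) = ((z * y) ^ (6 : ℤ)) ^ (j * 6) := by rw [e6]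
        _ = (((z * y) ^ j) ^ (36 : ℕ)) := by rw [← zpow_natCast, ← zpow_mul, ← zpow_mul]; ring_nf
        _ = A := by rw [hj, show 36 = 5 * 7 + 1 from rfl, pow_succ, pow_mul, h5A, one_pow, one_mul]
    refine (QuotientGroup.eq_one_iff _).2 ?_
    obtain ⟨n, hn⟩ := Subgroup.mem_zpowers_iff.1 hAy'
    refine Subgroup.mem_zpowers_iff.2 ⟨n, Subtype.ext (Subtype.ext ?_)⟩
    push_cast
    exact hn
  have hab := fun a b => hfpf.commute_all_of_involutive hinv a b
  obtain ⟨S, hS⟩ := (IsPGroup.of_card (n := 1) (by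
    rw [hR, Nat.card_zpowers, Subgroup.orderOf_mk, Subgroup.orderOf_mk, pow_one]; exact hy) :
    IsPGroup 5 R).exists_le_sylow
  have hSn : (S : Subgroup O).Normal := ⟨fun a ha b => by
    have hc : b * a * b⁻¹ * a⁻¹ ∈ R := by
      rw [← QuotientGroup.eq_one_iff, QuotientGroup.mk_mul, QuotientGroup.mk_mul, QuotientGroup.mk_mul,
        (hab (b : O ⧸ R) (a : O ⧸ R)).eq, QuotientGroup.mk_inv, QuotientGroup.mk_inv,
        mul_inv_cancel_right, mul_inv_cancel]
    have := mul_mem (hS hc) ha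
    rwa [inv_mul_cancel_right] at this⟩
  -- it is a Sylow subgroup of `G`
  obtain ⟨P, hP⟩ := (IsPGroup.of_card (n := 1) (by rw [Nat.card_zpowers, hy, pow_one]) :
    IsPGroup 5 (Subgroup.zpowers y)).exists_le_sylow
  have hPc := h.five_card_sylow P
  have hPY : (P : Subgroup G) ≤ Y := fun a ha => mem_C.2 (congrArg Subtype.val
    (IsPGroup.commutative_of_card_eq_prime_sq (p := 5) (by rw [hPc]; norm_num : Nat.card (P : Subgroup G) = 5 ^ 2)
      ⟨a, ha⟩ ⟨y, hP (Subgroup.mem_zpowers y)⟩))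
  have h25 : 25 ∣ Nat.card O := by
    have := Subgroup.card_dvd_of_le hPY
    rw [hPc, hOc] at this
    exact (Nat.Coprime.dvd_of_dvd_mul_right (by norm_num) this)
  set S' := ((S : Subgroup O).map O.subtype).map Y.subtype with hS'
  have hS'5 : IsPGroup 5 S' := (S.2.map _).map _
  obtain ⟨P', hP'⟩ := hS'5.exists_le_sylow
  have hS'card : 25 ≤ Nat.card S' := by
    rw [hS', ← Nat.card_congr (Subgroup.equivMapOfInjective _ _ Y.subtype_injective).toEquiv,
      ← Nat.card_congr (Subgroup.equivMapOfInjective _ _ O.subtype_injective).toEquiv, S.card_eq_multiplicity]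
    calc 25 = 5 ^ 2 := by norm_num
      _ ≤ 5 ^ (Nat.card O).factorization 5 := Nat.pow_le_pow_right (by norm_num)
          ((Nat.Prime.pow_dvd_iff_le_factorization (by norm_num) Nat.card_pos.ne').1 (by simpa using h25))
  have hS'P : S' = (P' : Subgroup G) :=
    Subgroup.eq_of_le_of_card_ge hP' (by rw [h.five_card_sylow P']; exact hS'card)
  obtain ⟨t, ht, -⟩ := h.exists_outer
  obtain ⟨s, g, K, d, c⟩ := h.exists_split_all ht
  obtain ⟨x, P₀, D⟩ := CT.exists_fiveData h d c
  have h300 : Nat.card (Subgroup.normalizer ((P' : Subgroup G) : Set G)) = 300 := by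
    have e1 := Sylow.card_eq_index_normalizer P'
    have e2 := Sylow.card_eq_index_normalizer P₀
    have i1 := (Subgroup.normalizer ((P' : Subgroup G) : Set G)).card_mul_index
    have i2 := (Subgroup.normalizer ((P₀ : Subgroup G) : Set G)).card_mul_index
    have hidx : (Subgroup.normalizer ((P' : Subgroup G) : Set G)).index =
        (Subgroup.normalizer ((P₀ : Subgroup G) : Set G)).index := e1.symm.trans e2
    rw [hidx] at i1
    rw [(D.orbits c d h).1] at i2
    exact Nat.eq_of_mul_eq_mul_right (Nat.pos_of_ne_zero Subgroup.index_ne_zero_of_finite) (i1.trans i2.symm)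
  have hOle : (O.map Y.subtype) ≤ Subgroup.normalizer ((P' : Subgroup G) : Set G) := by
    rintro _ ⟨b, hb, rfl⟩
    refine conj_mem_normalizer_iff fun a ha => ?_
    rw [← hS'P] at ha ⊢
    obtain ⟨a', ⟨a'', ha'', rfl⟩, rfl⟩ := ha
    exact ⟨_, ⟨_, hSn.conj_mem a'' ha'' ⟨b, hb⟩, rfl⟩, by simp⟩
  have hd := Subgroup.card_dvd_of_le hOle
  rw [h300, ← Nat.card_congr (Subgroup.equivMapOfInjective _ _ Y.subtype_injective).toEquiv] at hd
  rw [hOc, mul_comm]
  refine Nat.mul_dvd_mul_left 2 ?_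
  exact ((Nat.coprime_comm.1 ((Nat.prime_two.coprime_iff_not_dvd).2 hOodd)).pow_right 2).dvd_of_dvd_mul_left
    (by simpa using hd : Nat.card O ∣ 2 ^ 2 * 75)

/-- Elements of order 5 centralise no element of order 7 and no group of order 27. -/
theorem five_cent_bound {e : G} (he : orderOf e = 5) :
    ¬ 7 ∣ Nat.card (Subgroup.centralizer ({e} : Set G)) ∧
    ¬ 27 ∣ Nat.card (Subgroup.centralizer ({e} : Set G)) := by
  obtain ⟨t, ht, -⟩ := h.exists_outer
  obtain ⟨s, g, K, d, c⟩ := h.exists_split_all ht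
  obtain ⟨x, P, D⟩ := CT.exists_fiveData h d c
  obtain ⟨-, q, y, hy, hyz, -, hall⟩ := D.orbits_full c d h
  obtain ⟨a, ha⟩ := hall (Subgroup.zpowers e) (by rw [Nat.card_zpowers, he])
  rw [MonoidHom.map_zpowers] at ha
  have hgen : ∀ {u v : G}, Subgroup.zpowers u = Subgroup.zpowers v →
      Subgroup.centralizer ({u} : Set G) = Subgroup.centralizer ({v} : Set G) := by
    intro u v huv
    have key : ∀ {u v : G}, u ∈ Subgroup.zpowers v →
        Subgroup.centralizer ({v} : Set G) ≤ Subgroup.centralizer ({u} : Set G) := by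
      intro u v hu w hw
      obtain ⟨i, rfl⟩ := Subgroup.mem_zpowers_iff.1 hu
      exact mem_C.2 ((show Commute w v from mem_C.1 hw).zpow_right i).eq
    exact le_antisymm (key (huv ▸ Subgroup.mem_zpowers v)) (key (huv.symm ▸ Subgroup.mem_zpowers u))
  have hcard : Nat.card (Subgroup.centralizer ({e} : Set G)) ∣ 300 := by
    rw [← card_cent_conj (isConj_iff.2 ⟨a, rfl⟩ : IsConj e (a * e * a⁻¹))]
    rcases ha with ha' | ha'
    · rw [hgen (show Subgroup.zpowers (a * e * a⁻¹) = Subgroup.zpowers x from ha'),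
        c.card_cent_five d h D.mem D.ord]
    · rw [hgen (show Subgroup.zpowers (a * e * a⁻¹) = Subgroup.zpowers (q * y * q⁻¹) from ha'),
        card_cent_conj (isConj_iff.2 ⟨q, rfl⟩ : IsConj y (q * y * q⁻¹))]
      exact (h.five_commuting_cent hy hyz).trans ⟨2, by norm_num⟩
  exact ⟨fun e' => absurd (e'.trans hcard) (by norm_num), fun e' => absurd (e'.trans hcard) (by norm_num)⟩

end HJ

namespace CT

theorem Split.w_facts (c : Split z Q t g K) (d : CT z Q t s g) (h : HJ z Q) {w : G} (hw : w ∈ K)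
    (hwo : orderOf w = 3) :
    ¬ 27 ∣ Nat.card (Subgroup.centralizer ({w} : Set G)) ∧
    ¬ 7 ∣ Nat.card (Subgroup.centralizer ({w} : Set G)) := by
  classical
  haveI : Fact (Nat.Prime 2) := ⟨Nat.prime_two⟩
  haveI : Fact (Nat.Prime 3) := ⟨Nat.prime_three⟩
  obtain ⟨f, hf, hsign, hsurj⟩ := c.exists_perm d h
  obtain ⟨k₀, hk₀⟩ : ∃ k : K, f k = M.τσ := hsurj _ M.τσ_sign
  have hk₀o : orderOf (k₀ : G) = 3 := by
    refine orderOf_eq_prime ?_ fun e => ?_
    · have : k₀ ^ 3 = 1 := hf (by rw [map_pow, hk₀, M.τσ_pow.2, map_one])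
      exact congrArg Subtype.val this
    · have e' : k₀ = 1 := Subtype.ext e
      rw [e', map_one] at hk₀
      exact absurd hk₀.symm (by decide +kernel)
  obtain ⟨b, hb, hbw⟩ := c.K_three d h k₀.2 hw hk₀o hwo
  have hcentK : ∀ k ∈ K, k * w = w * k → k ∈ Subgroup.zpowers w := by
    intro k hk hkw
    set k' := b⁻¹ * k * b
    have hk'K : k' ∈ K := mul_mem (mul_mem (inv_mem hb) hk) hb
    have hk' : k' * k₀ = k₀ * k' := by
      calc b⁻¹ * k * b * k₀ = b⁻¹ * (k * (b * k₀ * b⁻¹)) * b := by group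
        _ = b⁻¹ * ((b * k₀ * b⁻¹) * k) * b := by rw [hbw, hkw]
        _ = k₀ * (b⁻¹ * k * b) := by group
    have hm : f ⟨k', hk'K⟩ * M.τσ = M.τσ * f ⟨k', hk'K⟩ := by
      rw [← hk₀, ← map_mul, ← map_mul]; exact congrArg f (Subtype.ext hk')
    have hk'z : k' ∈ Subgroup.zpowers (k₀ : G) := by
      rcases M.three_cent_aux _ (hsign _) hm with e | e | e
      · rw [show k' = 1 from congrArg Subtype.val (hf (e.trans (map_one f).symm))]; exact one_mem _
      · rw [show k' = (k₀ : G) from congrArg Subtype.val (hf (e.trans hk₀.symm))]; exact Subgroup.mem_zpowers _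
      · rw [show k' = (k₀ : G) ^ 2 from congrArg Subtype.val (hf (e.trans (by rw [map_pow, hk₀])) : (⟨k', hk'K⟩ : K) = k₀ ^ 2)]
        exact pow_mem (Subgroup.mem_zpowers _) _
    obtain ⟨i, hi⟩ := Subgroup.mem_zpowers_iff.1 hk'z
    refine Subgroup.mem_zpowers_iff.2 ⟨i, ?_⟩
    rw [← hbw, conj_zpow, hi]
    show b * (b⁻¹ * k * b) * b⁻¹ = k
    group
  have hFw : TF z t g ≤ Subgroup.centralizer ({w} : Set G) := fun a ha => mem_C.2 (c.F_cent d h ha hw)
  have hwK : Subgroup.zpowers w ≤ K := Subgroup.zpowers_le.2 hw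
  have hww : ∀ k ∈ Subgroup.zpowers w, k * w = w * k := fun k hk => by
    obtain ⟨i, rfl⟩ := Subgroup.mem_zpowers_iff.1 hk
    exact ((Commute.refl w).zpow_left i).eq
  set Y := Subgroup.centralizer ({w} : Set G) with hY
  have h12 : Nat.card ↥(Y ⊓ Subgroup.centralizer ({t} : Set G)) = 12 := by
    let v : TF z t g × Subgroup.zpowers w → ↥(Y ⊓ Subgroup.centralizer ({t} : Set G)) := fun p =>
      ⟨(p.2 : G) * (p.1 : G), mul_mem (mem_C.2 (hww _ p.2.2)) (hFw p.1.2),
        mul_mem (c.le_cent (hwK p.2.2)) (TF_le_L p.1.2)⟩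
    have hv : Function.Bijective v := by
      constructor
      · rintro ⟨f1, k1⟩ ⟨f2, k2⟩ e
        have e' : (k1 : G) * f1 = k2 * f2 := congrArg Subtype.val e
        have h1 : (f1 : G) * (f2 : G)⁻¹ = (k1 : G)⁻¹ * k2 :=
          mul_inv_eq_iff_eq_mul.2 (by rw [mul_assoc, ← e', inv_mul_cancel_left])
        have h2 := c.inf _ (mul_mem f1.2 (inv_mem f2.2)) (h1 ▸ mul_mem (inv_mem (hwK k1.2)) (hwK k2.2))
        have hf : f1 = f2 := Subtype.ext (mul_inv_eq_one.1 h2)
        subst hf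
        rw [Subtype.ext (mul_right_cancel e')]
      · rintro ⟨a, ha⟩
        obtain ⟨f', hf', k, hk, rfl⟩ := c.L_eq d (mem_C.1 ha.2)
        have hfw := c.F_cent d h hf' hw
        have hkw : k * w = w * k := by
          calc k * w = k * w * (f' * f') := by rw [d.E_sq hf'.1, mul_one]
            _ = k * (w * f') * f' := by group
            _ = (k * f' * w) * f' := by rw [← hfw]; group
            _ = w * k * (f' * f') := by rw [mem_C.1 ha.1]; group
            _ = w * k := by rw [d.E_sq hf'.1, mul_one]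
        exact ⟨(⟨f', hf'⟩, ⟨k, hcentK k hk hkw⟩), rfl⟩
    rw [← Nat.card_eq_of_bijective v hv, Nat.card_prod, d.card_TF h, Nat.card_zpowers, hwo]
  have h36 : Nat.card ↥(Y ⊓ Subgroup.normalizer (TF z t g : Set G)) ∣ 36 := by
    obtain ⟨A, hA, hAN, -, hcomm, hAK, -, hdecA⟩ := c.N_decomp d h
    let v : A × Subgroup.zpowers w → ↥(Y ⊓ Subgroup.normalizer (TF z t g : Set G)) := fun p =>
      ⟨(p.1 : G) * (p.2 : G), mul_mem (mem_C.2 (hcomm _ p.1.2 w hw)) (mem_C.2 (hww _ p.2.2)),
        mul_mem (hAN p.1.2) (c.K_le_N d h (hwK p.2.2))⟩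
    have hv : Function.Bijective v := by
      constructor
      · rintro ⟨a1, k1⟩ ⟨a2, k2⟩ e
        have e' : (a1 : G) * k1 = a2 * k2 := congrArg Subtype.val e
        have h1 : (a2 : G)⁻¹ * a1 = (k2 : G) * (k1 : G)⁻¹ :=
          eq_mul_inv_of_mul_eq (by rw [mul_assoc, e', inv_mul_cancel_left])
        have h2 := hAK _ (mul_mem (inv_mem a2.2) a1.2) (h1 ▸ mul_mem (hwK k2.2) (inv_mem (hwK k1.2)))
        have ha : a1 = a2 := Subtype.ext (inv_mul_eq_one.1 h2).symm
        subst ha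
        rw [Subtype.ext (mul_left_cancel e')]
      · rintro ⟨y, hy⟩
        obtain ⟨a, ha, k, hk, rfl⟩ := hdecA y hy.2
        have hk' : k * w = w * k := by
          refine mul_left_cancel (a := a) ?_
          calc a * (k * w) = a * k * w := (mul_assoc _ _ _).symm
            _ = w * (a * k) := mem_C.1 hy.1
            _ = a * (w * k) := by rw [← mul_assoc, ← hcomm a ha w hw, mul_assoc]
        exact ⟨(⟨a, ha⟩, ⟨k, hcentK k hk hk'⟩), rfl⟩
    rw [← Nat.card_eq_of_bijective v hv, Nat.card_prod, hA, Nat.card_zpowers, hwo]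
  set F' := (TF z t g).subgroupOf Y
  have hF'c : Nat.card F' = 4 := by
    rw [Nat.card_congr (Subgroup.subgroupOfEquivOfLe hFw).toEquiv, d.card_TF h]
  have h8 : ¬ 8 ∣ Nat.card Y := fun hd => by
    obtain ⟨B, hB, hle⟩ := Sylow.exists_subgroup_card_pow_succ (p := 2) (n := 2) (G := Y) (by simpa using hd)
      (H := F') (by rw [hF'c]; norm_num)
    have hN : B.map Y.subtype ≤ Y ⊓ Subgroup.normalizer (TF z t g : Set G) := by
      rintro _ ⟨a, ha, rfl⟩
      refine ⟨a.2, conj_mem_normalizer_iff fun v hv => ?_⟩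
      haveI : (F'.subgroupOf B).Normal := by
        refine Subgroup.normal_of_index_eq_two ?_
        have := (F'.subgroupOf B).card_mul_index
        rw [Nat.card_congr (Subgroup.subgroupOfEquivOfLe hle).toEquiv, hF'c, hB] at this
        omega
      have hv' : (⟨⟨v, hFw hv⟩, hle hv⟩ : B) ∈ F'.subgroupOf B := hv
      exact (inferInstance : (F'.subgroupOf B).Normal).conj_mem _ hv' ⟨a, ha⟩
    have := (Subgroup.card_dvd_of_le hN).trans h36
    rw [← Nat.card_congr (Subgroup.equivMapOfInjective _ _ Y.subtype_injective).toEquiv, hB] at this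
    norm_num at this
  set x' : Y := ⟨w, mem_C.2 rfl⟩
  set R := Subgroup.zpowers x' with hR
  have hx'o : orderOf x' = 3 := by rw [← hwo, ← Subgroup.orderOf_coe]
  have hxc : ∀ a : Y, a * x' = x' * a := fun a => Subtype.ext (mem_C.1 a.2)
  haveI hRn : R.Normal := ⟨fun a ha b => by
    obtain ⟨i, rfl⟩ := Subgroup.mem_zpowers_iff.1 ha
    rw [((show Commute b x' from hxc b).zpow_right i).eq, mul_inv_cancel_right]
    exact ha⟩
  have hR3 : Nat.card R = 3 := by rw [hR, Nat.card_zpowers, hx'o]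
  have hXY := Subgroup.card_eq_card_quotient_mul_card_subgroup R
  rw [hR3] at hXY
  have h12' := Subgroup.card_dvd_of_le (inf_le_left : Y ⊓ Subgroup.centralizer ({t} : Set G) ≤ Y)
  rw [h12] at h12'
  obtain ⟨g₀, hm⟩ := h12'
  have hg₀ : Odd g₀ := by
    rw [← Nat.not_even_iff_odd, even_iff_two_dvd]
    rintro ⟨j, rfl⟩
    exact h8 ⟨3 * j, by rw [hm]; ring⟩
  have hX : Nat.card (Y ⧸ R) = 4 * g₀ := by omega
  have hRpow : ∀ a : Y, a ∈ R → a ^ 3 = 1 := fun a ha => by
    have := pow_card_eq_one' (x := (⟨a, ha⟩ : R))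
    rw [hR3] at this
    exact congrArg Subtype.val this
  set t' : Y := ⟨t, hFw d.t_mem_F⟩
  set π := QuotientGroup.mk' R
  set J := π t' with hJ
  have htt : t' ^ 2 = 1 := Subtype.ext (by push_cast; rw [pow_two]; exact Invol.mul_self_eq_one d.outer.ord)
  have hR2 : ∀ u : Y, u ∈ R → u ^ 2 = 1 → u = 1 := fun u hu h2 => by
    have h3 := hRpow u hu
    rwa [pow_succ, h2, one_mul] at h3
  have hJ2 : orderOf J = 2 := by
    refine orderOf_eq_prime (by rw [hJ, ← map_pow, htt, map_one]) fun e => ?_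
    have := hR2 t' ((QuotientGroup.eq_one_iff _).1 e) htt
    exact Invol.ne_one d.outer.ord (congrArg Subtype.val this)
  set H0 := Subgroup.centralizer ({t'} : Set Y) with hH0
  have hH0card : Nat.card H0 = 12 := by
    rw [← h12]
    exact Nat.card_congr
      { toFun := fun a => ⟨((a : Y) : G), (a : Y).2, mem_C.2 (congrArg Subtype.val (mem_C.1 a.2))⟩
        invFun := fun a => ⟨⟨(a : G), a.2.1⟩, mem_C.2 (Subtype.ext (mem_C.1 a.2.2))⟩
        left_inv := fun a => rfl
        right_inv := fun a => rfl }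
  have hcentJ : Subgroup.centralizer ({J} : Set (Y ⧸ R)) = H0.map π := by
    ext q
    obtain ⟨a, rfl⟩ := QuotientGroup.mk'_surjective R q
    constructor
    · intro ha
      refine Subgroup.mem_map.2 ⟨a, mem_C.2 ?_, rfl⟩
      have e : π (a * t' * a⁻¹ * t'⁻¹) = 1 := by
        rw [map_mul, map_mul, map_mul, map_inv, map_inv, ← hJ, mem_C.1 ha, mul_inv_cancel_right, mul_inv_cancel]
      set u := a * t' * a⁻¹ * t'⁻¹ with hu
      have huR : u ∈ R := (QuotientGroup.eq_one_iff _).1 e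
      have hconj : a * t' * a⁻¹ = u * t' := by rw [hu]; group
      have hc : Commute u t' := by
        obtain ⟨i, hi⟩ := Subgroup.mem_zpowers_iff.1 huR
        rw [← hi]
        exact ((show Commute t' x' from hxc t').zpow_right i).symm
      have e1 : (a * t' * a⁻¹) ^ 2 = 1 := by rw [conj_pow, htt]; group
      rw [hconj, hc.mul_pow, htt, mul_one] at e1
      rw [hR2 u huR e1, one_mul] at hconj
      exact mul_inv_eq_iff_eq_mul.1 hconj
    · rintro ⟨b, hb, hab⟩
      rw [← hab]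
      exact mem_C.2 (by rw [hJ, ← map_mul, ← map_mul, mem_C.1 hb])
  have hC4 : Nat.card (Subgroup.centralizer ({J} : Set (Y ⧸ R))) = 4 := by
    rw [hcentJ]
    have hRH : R ≤ H0 := fun a ha => by
      obtain ⟨i, rfl⟩ := Subgroup.mem_zpowers_iff.1 ha
      exact mem_C.2 (((show Commute t' x' from hxc t').zpow_right i).symm.eq)
    let φ : H0 →* H0.map π := π.subgroupMap H0
    have hk : Nat.card φ.ker = 3 := by
      rw [← hR3]
      refine Nat.card_congr
        { toFun := fun a => ⟨((a : H0) : Y), (QuotientGroup.eq_one_iff _).1 (congrArg Subtype.val (MonoidHom.mem_ker.1 a.2))⟩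
          invFun := fun a => ⟨⟨(a : Y), hRH a.2⟩, MonoidHom.mem_ker.2 (Subtype.ext ((QuotientGroup.eq_one_iff _).2 a.2))⟩
          left_inv := fun a => rfl
          right_inv := fun a => rfl }
    have := Subgroup.card_eq_card_quotient_mul_card_subgroup φ.ker
    rw [Nat.card_congr (QuotientGroup.quotientKerEquivOfSurjective φ (π.subgroupMap_surjective H0)).toEquiv,
      hk, hH0card] at this
    omega
  obtain ⟨r, hro, hrN, hrK, hrt⟩ := c.exists_w d h
  have hnc : ¬ ∃ N : Subgroup (Y ⧸ R), N.Normal ∧ Nat.card N = g₀ := by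
    rintro ⟨N, hN, hNc⟩
    haveI := hN
    have hind : N.index = 4 := by
      have := N.card_mul_index
      rw [hNc, hX, mul_comm 4 g₀] at this
      exact Nat.eq_of_mul_eq_mul_left hg₀.pos this
    set w' : Y := ⟨r, mem_C.2 (hrK w hw)⟩
    have h1 : ((π w' : Y ⧸ R) : (Y ⧸ R) ⧸ N) ^ 4 = 1 := by
      rw [← hind, Subgroup.index_eq_card]; exact pow_card_eq_one'
    have h2 : ((π w' : Y ⧸ R) : (Y ⧸ R) ⧸ N) ^ 3 = 1 := by
      rw [← QuotientGroup.mk_pow, ← map_pow,
        show w' ^ 3 = 1 from Subtype.ext (orderOf_dvd_iff_pow_eq_one.1 hro.dvd), map_one, QuotientGroup.mk_one]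
    rw [pow_succ, h2, one_mul, QuotientGroup.eq_one_iff] at h1
    set v := w' * t' * w'⁻¹ * t'⁻¹ with hv
    have hvN : π v ∈ N := by
      have := mul_mem h1 (hN.conj_mem _ (inv_mem h1) (π t'))
      convert this using 1
      simp only [hv, map_mul, map_inv]
      group
    have hvF : (v : G) ∈ TF z t g := by
      show r * t * r⁻¹ * t⁻¹ ∈ TF z t g
      exact mul_mem ((Subgroup.mem_normalizer_iff.1 hrN t).1 d.t_mem_F) (inv_mem d.t_mem_F)
    have hv2 : v ^ 2 = 1 := Subtype.ext (by push_cast; rw [pow_two]; exact d.E_sq hvF.1)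
    have hvne : π v ≠ 1 := fun e =>
      hrt (mul_inv_eq_one.1 (congrArg Subtype.val (hR2 v ((QuotientGroup.eq_one_iff _).1 e) hv2)))
    have := Subgroup.orderOf_dvd_natCard N hvN
    rw [orderOf_eq_prime (by rw [← map_pow, hv2, map_one]) hvne, hNc] at this
    exact (Nat.not_even_iff_odd.2 hg₀) (even_iff_two_dvd.2 this)
  obtain ⟨P2, hP2⟩ := (IsPGroup.of_card (n := 1) (by rw [Nat.card_zpowers, hJ2]; norm_num) :
    IsPGroup 2 (Subgroup.zpowers J)).exists_le_sylow
  rcases Fg24.InvolD8.card_klein_selfcentralizing g₀ hg₀ hX hnc P2 J (hP2 (Subgroup.mem_zpowers J)) hJ2 hC4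
    with e | e <;> rw [hm, e] <;> norm_num

end CT

end Cfsg.Agent.HallJanko
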