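import Cfsg.Agent.HallJanko.ThreeSylow

/-!
The Sylow subgroup for the prime seven.
-/

set_option autoImplicit false

namespace Cfsg.Agent.HallJanko

variable {G : Type*} [Group G] [Finite G] {z : G} {Q : Subgroup G}

theorem HJ.seven_facts (h : HJ z Q) {δ : G} (hδ : orderOf δ = 7) :
    Nat.card (Subgroup.centralizer ({δ} : Set G)) = 7 ∧
      Nat.card (Subgroup.normalizer (Subgroup.zpowers δ : Set G)) = 42 := by
  haveI : Fact (Nat.Prime 3) := ⟨Nat.prime_three⟩
  set C := Subgroup.centralizer ({δ} : Set G) with hC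
  have h3 : ¬ 3 ∣ Nat.card C := fun e => by
    obtain ⟨⟨c, hcC⟩, hco⟩ := exists_prime_orderOf_dvd_card' 3 e
    rw [Subgroup.orderOf_mk] at hco
    have h7 : 7 ∣ Nat.card (Subgroup.centralizer ({c} : Set G)) := by
      rw [← hδ]
      exact Subgroup.orderOf_dvd_natCard _ (mem_C.2 (mem_C.1 hcC).symm)
    obtain ⟨a, b, -, -, -, ha, hb, hall⟩ := h.three_classes
    rcases hall c hco with e' | e'
    · exact ha (by rwa [card_cent_conj e'])
    · exact hb (by rwa [card_cent_conj e'])
  have h7 : Nat.card C = 7 := by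
    refine Nat.dvd_antisymm ?_ (by rw [← hδ]; exact Subgroup.orderOf_dvd_natCard C (mem_C.2 rfl))
    exact ((Nat.prime_three.coprime_iff_not_dvd.2 h3).symm.pow_right 3).dvd_of_dvd_mul_right
      (h.seven_cent_dvd hδ)
  refine ⟨h7, ?_⟩
  obtain ⟨f, hf, hN, -⟩ := seven_norm hδ
  rw [← hC, h7] at hN
  have hidx := h.seven_index hδ
  have hmul := (Subgroup.normalizer (Subgroup.zpowers δ : Set G)).card_mul_index
  rw [hN, h.card_G] at hmul
  rw [hN]
  have := Nat.le_of_dvd (by norm_num) hf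
  interval_cases f <;> omega

theorem HJ.sylow_seven (h : HJ z Q) (D : Sylow 7 G) :
    Subgroup.centralizer ((D : Subgroup G) : Set G) = D ∧
      Nat.card (Subgroup.normalizer ((D : Subgroup G) : Set G)) = 42 ∧
      ¬ IsMulCommutative (Subgroup.normalizer ((D : Subgroup G) : Set G)) := by
  haveI : Fact (Nat.Prime 7) := ⟨by norm_num⟩
  have hD : Nat.card (D : Subgroup G) = 7 := by
    rw [D.card_eq_multiplicity, h.card_G, show 604800 = 7 ^ 1 * 86400 from rfl,
      Nat.factorization_mul (by norm_num) (by norm_num), Finsupp.add_apply,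
      Nat.Prime.factorization_pow (by norm_num : Nat.Prime 7), Finsupp.single_eq_same,
      Nat.factorization_eq_zero_of_not_dvd (by norm_num : ¬ 7 ∣ 86400)]
    norm_num
  obtain ⟨⟨δ, hδD⟩, hδ⟩ := exists_prime_orderOf_dvd_card' (G := (D : Subgroup G)) 7 (by rw [hD])
  rw [Subgroup.orderOf_mk] at hδ
  have hDe : Subgroup.zpowers δ = (D : Subgroup G) :=
    Subgroup.eq_of_le_of_card_ge (Subgroup.zpowers_le.2 hδD) (by rw [hD, Nat.card_zpowers, hδ])
  obtain ⟨hC, hN⟩ := h.seven_facts hδ
  have hCD : Subgroup.centralizer ((D : Subgroup G) : Set G) = D := by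
    rw [← hDe, centralizer_zpowers]
    refine (Subgroup.eq_of_le_of_card_ge (Subgroup.zpowers_le.2 (mem_C.2 rfl)) ?_).symm
    rw [hC, Nat.card_zpowers, hδ]
  refine ⟨hCD, by rw [← hDe]; exact hN, fun hc => ?_⟩
  have hle : Subgroup.normalizer ((D : Subgroup G) : Set G) ≤ (D : Subgroup G) := fun x hx => by
    rw [← hCD]
    exact Subgroup.mem_centralizer_iff.2 fun y hy =>
      congrArg Subtype.val (hc.1.1 ⟨y, Subgroup.le_normalizer hy⟩ ⟨x, hx⟩)
  have := Subgroup.card_le_of_le hle
  rw [hD, ← hDe, hN] at this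
  norm_num at this

end Cfsg.Agent.HallJanko
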