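import Cfsg.Agent.HallJanko.ThreeBase
import Cfsg.Agent.Fg24.InvolD8.Fused

/-!
The centraliser of an element of order three which commutes with a central involution.
-/

set_option autoImplicit false

namespace Cfsg.Agent.HallJanko

theorem dih_center : ∀ x : DihedralGroup 4, DihedralGroup.r 2 * x = x * DihedralGroup.r 2 := by decide

theorem dih_sq : ∀ x : DihedralGroup 4, x * x = 1 ∨ x * x = DihedralGroup.r 2 := by decide

theorem dih_four : ∀ x : DihedralGroup 4, x ^ 4 = 1 := by decide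

theorem dih_involutions : ∀ x : DihedralGroup 4, x * x = 1 → x ≠ 1 →
    x = DihedralGroup.r 2 ∨ ∃ a, x = DihedralGroup.sr a := by decide

/-- Burnside: a Sylow subgroup central in its normaliser has a normal complement. -/
theorem burnside_index {X : Type*} [Group X] [Finite X] {p : ℕ} [Fact p.Prime] (P : Sylow p X)
    (hN : Subgroup.normalizer ((P : Subgroup X) : Set X) ≤ Subgroup.centralizer ((P : Subgroup X) : Set X)) :
    ∃ K : Subgroup X, K.Normal ∧ K.index = Nat.card (P : Subgroup X) := by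
  refine ⟨(MonoidHom.transferSylow P hN).ker, MonoidHom.normal_ker _, ?_⟩
  have h1 := (MonoidHom.ker_transferSylow_isComplement' P hN).card_mul
  have h2 := (MonoidHom.transferSylow P hN).ker.card_mul_index
  exact Nat.eq_of_mul_eq_mul_left Nat.card_pos (h2.trans h1.symm)

/-- A subgroup of prime order is centralised by whatever centralises a generator. -/
theorem centralizer_zpowers {G : Type*} [Group G] (a : G) :
    Subgroup.centralizer (Subgroup.zpowers a : Set G) = Subgroup.centralizer ({a} : Set G) := by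
  refine le_antisymm (fun b hb => mem_C.2 (Subgroup.mem_centralizer_iff.1 hb a (Subgroup.mem_zpowers a)).symm)
    fun b hb => Subgroup.mem_centralizer_iff.2 fun c hc => ?_
  obtain ⟨i, rfl⟩ := Subgroup.mem_zpowers_iff.1 hc
  exact (((show Commute b a from mem_C.1 hb).zpow_right i).eq).symm

variable {G : Type*} [Group G]

/-- The centraliser of an element. -/
abbrev CR (r : G) : Subgroup G := Subgroup.centralizer ({r} : Set G)

/-- The cyclic subgroup inside its centraliser. -/
abbrev RR (r : G) : Subgroup (CR r) := (Subgroup.zpowers r).subgroupOf (CR r)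

instance RR_normal (r : G) : (RR r).Normal := ⟨fun a ha b => by
  rw [Subgroup.mem_subgroupOf] at ha ⊢
  obtain ⟨i, hi⟩ := Subgroup.mem_zpowers_iff.1 ha
  rw [Subgroup.coe_mul, Subgroup.coe_mul, InvMemClass.coe_inv, ← hi,
    ((show Commute (b : G) r from mem_C.1 b.2).zpow_right i).eq, mul_inv_cancel_right]
  exact Subgroup.mem_zpowers_iff.2 ⟨i, rfl⟩⟩

/-- The centraliser modulo the cyclic subgroup. -/
abbrev XR (r : G) : Type _ := CR r ⧸ RR r

theorem XR_eq_one {r : G} (a : CR r) : (a : XR r) = 1 ↔ (a : G) ∈ Subgroup.zpowers r := by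
  rw [QuotientGroup.eq_one_iff, Subgroup.mem_subgroupOf]

variable [Finite G] {z : G} {Q : Subgroup G} {F : Frame z Q} {h : HJ z Q} {r : G}

namespace TD

variable (T : TD F h r)

/-- The dihedral group in the quotient. -/
def ιX : DihedralGroup (2 ^ 2) →* XR r :=
  (QuotientGroup.mk' (RR r)).comp
    ((F.ι.comp M.δ).codRestrict (CR r) fun x => mem_C.2 (T.δ_comm x).symm)

include T

theorem ιX_apply (x : DihedralGroup 4) :
    T.ιX x = ((⟨F.ι (M.δ x), mem_C.2 (T.δ_comm x).symm⟩ : CR r) : XR r) := rfl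

theorem zpow_one {y : G} (hy : y ∈ Subgroup.zpowers r) {n : ℕ} (hn : Nat.Coprime n 3) (hyn : y ^ n = 1) :
    y = 1 := by
  have h3 : y ^ 3 = 1 := by
    obtain ⟨i, rfl⟩ := Subgroup.mem_zpowers_iff.1 hy
    rw [← zpow_natCast, ← zpow_mul, mul_comm, zpow_mul, zpow_natCast, T.r3, one_zpow]
  rw [← orderOf_eq_one_iff]
  exact Nat.eq_one_of_dvd_one (hn ▸ Nat.dvd_gcd (orderOf_dvd_of_pow_eq_one hyn) (orderOf_dvd_of_pow_eq_one h3))

theorem ιX_inj : Function.Injective T.ιX := by
  refine (injective_iff_map_eq_one T.ιX).2 fun x hx => ?_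
  rw [T.ιX_apply, XR_eq_one] at hx
  have e : F.ι (M.δ x) = 1 := T.zpow_one hx (n := 4) (by norm_num)
    (by rw [← map_pow, ← map_pow, dih_four, map_one, map_one])
  exact M.δ_inj (F.ι_inj (by rw [e, map_one, map_one]))

theorem ιX_center : T.ιX (DihedralGroup.r 2) = ((⟨z, mem_C.2 T.hrz.symm⟩ : CR r) : XR r) := by
  rw [T.ιX_apply]
  congr 1
  refine Subtype.ext ?_
  show F.ι (M.δ _) = z
  rw [show M.δ (DihedralGroup.r 2) = M.zM from M.δ_center, F.ι_zM]

theorem cent_range : Subgroup.centralizer ({T.ιX (DihedralGroup.r 2)} : Set (XR r)) = T.ιX.range := by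
  refine le_antisymm (fun a ha => ?_) ?_
  · induction a using QuotientGroup.induction_on with | _ a => ?_
    rw [mem_C, T.ιX_center, ← QuotientGroup.mk_mul, ← QuotientGroup.mk_mul, QuotientGroup.eq,
      Subgroup.mem_subgroupOf] at ha
    push_cast at ha
    set A := (a : G) with hA
    have hAr : A * r = r * A := mem_C.1 a.2
    obtain ⟨j, hj⟩ := Subgroup.mem_zpowers_iff.1 ha
    have hjz : Commute (r ^ j) z := (show Commute r z from T.hrz).zpow_left j
    have hj1 : r ^ j = 1 := by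
      refine T.zpow_one (Subgroup.mem_zpowers_iff.2 ⟨j, rfl⟩) (n := 2) (by norm_num) ?_
      have e : A⁻¹ * z * A = r ^ j * z⁻¹⁻¹ := by
        rw [inv_inv, hjz.eq, hj]
        calc A⁻¹ * z * A = z * z * (A⁻¹ * z * A) := by rw [h.zsq, one_mul]
          _ = z * ((A * z)⁻¹ * (z * A)) := by rw [mul_inv_rev, h.zinv]; group
      rw [inv_inv] at e
      have e2 : (A⁻¹ * z * A) * (A⁻¹ * z * A) = 1 := by
        calc A⁻¹ * z * A * (A⁻¹ * z * A) = A⁻¹ * (z * z) * A := by group
          _ = 1 := by rw [h.zsq]; group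
      rw [e] at e2
      calc (r ^ j) ^ 2 = r ^ j * r ^ j * (z * z) := by rw [pow_two, h.zsq, mul_one]
        _ = r ^ j * (r ^ j * z) * z := by group
        _ = r ^ j * (z * r ^ j) * z := by rw [hjz.eq]
        _ = r ^ j * z * (r ^ j * z) := by group
        _ = 1 := e2
    rw [hj1] at hj
    have hc : A * z = z * A := inv_mul_eq_one.1 hj.symm
    obtain ⟨x, k, hk⟩ := T.cent_C hc hAr
    refine ⟨x, ?_⟩
    rw [T.ιX_apply, QuotientGroup.eq, Subgroup.mem_subgroupOf]
    push_cast
    rw [← hA, hk, inv_mul_cancel_left]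
    exact pow_mem (Subgroup.mem_zpowers r) k
  · rintro _ ⟨x, rfl⟩
    rw [mem_C, ← map_mul, ← map_mul]
    exact congrArg T.ιX (dih_center x).symm

theorem card_range : Nat.card T.ιX.range = 8 := by
  rw [← Nat.card_congr (MonoidHom.ofInjective T.ιX_inj).toEquiv, DihedralGroup.nat_card]; rfl

/-- Whatever normalises the dihedral group lies in it. -/
theorem norm_range {n : XR r} (hn : ∀ y ∈ T.ιX.range, n * y * n⁻¹ ∈ T.ιX.range) : n ∈ T.ιX.range := by
  obtain ⟨d, hd⟩ := hn _ (MonoidHom.mem_range.2 ⟨DihedralGroup.r 1, rfl⟩)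
  rw [← T.cent_range]
  have e : T.ιX (d * d) = n * T.ιX (DihedralGroup.r 2) * n⁻¹ := by
    rw [map_mul, hd, show (DihedralGroup.r 2 : DihedralGroup (2 ^ 2)) =
      DihedralGroup.r 1 * DihedralGroup.r 1 from rfl, map_mul]
    group
  rcases dih_sq d with e' | e'
  · exfalso
    rw [show d * d = 1 from e', map_one, eq_comm, conj_eq_one_iff] at e
    exact absurd (T.ιX_inj (e.trans (map_one _).symm)) (by decide)
  · rw [show d * d = DihedralGroup.r 2 from e', eq_comm] at e
    exact mem_C.2 (mul_inv_eq_iff_eq_mul.1 e)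

theorem exists_sylow_two : ∃ S : Sylow 2 (XR r), T.ιX.range = (S : Subgroup (XR r)) := by
  haveI : Fact (Nat.Prime 2) := ⟨Nat.prime_two⟩
  obtain ⟨S, hS⟩ := (IsPGroup.of_card (n := 3) (by rw [T.card_range]; norm_num) :
    IsPGroup 2 T.ιX.range).exists_le_sylow
  refine ⟨S, Subgroup.eq_of_le_of_card_ge hS ?_⟩
  obtain ⟨n, hn⟩ := IsPGroup.iff_card.1 S.2
  rw [T.card_range, hn]
  by_contra hlt
  have h4 : 2 ^ 4 ∣ 2 ^ n := pow_dvd_pow 2 (by
    by_contra hn4
    exact hlt ((Nat.pow_le_pow_right (by norm_num) (by omega : n ≤ 3)).trans (by norm_num)))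
  obtain ⟨B, hB, hle⟩ := Sylow.exists_subgroup_card_pow_succ (p := 2) (n := 3) (G := XR r)
    (h4.trans (hn ▸ Subgroup.card_subgroup_dvd_card _)) (H := T.ιX.range) (by rw [T.card_range]; norm_num)
  haveI : (T.ιX.range.subgroupOf B).Normal := by
    refine Subgroup.normal_of_index_eq_two ?_
    have := (T.ιX.range.subgroupOf B).card_mul_index
    rw [Nat.card_congr (Subgroup.subgroupOfEquivOfLe hle).toEquiv, T.card_range, hB] at this
    omega
  have hBle : B ≤ T.ιX.range := fun b hb => T.norm_range fun y hy =>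
    (inferInstance : (T.ιX.range.subgroupOf B).Normal).conj_mem ⟨y, hle hy⟩ hy ⟨b, hb⟩
  have := Subgroup.card_le_of_le hBle
  rw [hB, T.card_range] at this
  norm_num at this

theorem fused (a : ZMod 4) : IsConj (T.ιX (DihedralGroup.sr a)) (T.ιX (DihedralGroup.r 2)) := by
  obtain ⟨h1, h2, h3⟩ := M.δ_sr a
  set s := F.ι (M.δ (DihedralGroup.sr a)) with hs
  have hso : orderOf s = 2 := Invol.orderOf_eq_two_iff.2 ⟨fun e => h2 (F.ι_inj (e.trans (map_one _).symm)),
    by rw [hs, ← map_mul]; exact (congrArg F.ι h1).trans (map_one _)⟩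
  obtain ⟨g, hg, hgs⟩ := T.fuse (F.ι_mem h _) hso
    (fun e => h3 (F.ι_inj (e.trans F.ι_zM.symm))) (T.δ_comm _)
  refine isConj_iff.2 ⟨((⟨g, mem_C.2 hg⟩ : CR r) : XR r), ?_⟩
  rw [T.ιX_center, T.ιX_apply, ← QuotientGroup.mk_inv, ← QuotientGroup.mk_mul, ← QuotientGroup.mk_mul]
  exact congrArg _ (Subtype.ext hgs)

theorem X_involution {v : XR r} (hv : orderOf v = 2) : IsConj v (T.ιX (DihedralGroup.r 2)) := by
  haveI : Fact (Nat.Prime 2) := ⟨Nat.prime_two⟩
  obtain ⟨S, hS⟩ := T.exists_sylow_two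
  obtain ⟨g, hg⟩ := exists_conj_mem S (n := 1) (by rw [hv, pow_one])
  rw [← hS] at hg
  obtain ⟨d, hd⟩ := hg
  have ho : orderOf (T.ιX d) = 2 := by rw [hd, Invol.orderOf_conj, hv]
  rw [orderOf_injective _ T.ιX_inj, Invol.orderOf_eq_two_iff] at ho
  have hc : IsConj v (T.ιX d) := isConj_iff.2 ⟨g, hd.symm⟩
  rcases dih_involutions d ho.2 ho.1 with rfl | ⟨a, rfl⟩
  · exact hc
  · exact hc.trans (T.fused a)

theorem X_cases : Nat.card (XR r) = 168 ∨ Nat.card (XR r) = 360 := by
  obtain ⟨S, hS⟩ := T.exists_sylow_two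
  refine Fg24.InvolD8.card_of_fused S (ι := T.ιX) ⟨one_le_two, T.ιX_inj, hS⟩ ?_ fun a => ?_
  · rw [Fg24.InvolD8.dh_two, ← hS]
    exact T.cent_range
  · rw [Fg24.InvolD8.dh_two]
    exact T.fused a

/-- The quotient has no proper normal subgroup of odd index. -/
theorem odd_index_top {K : Subgroup (XR r)} (hK : K.Normal) (h2 : ¬ 2 ∣ K.index) : K = ⊤ := by
  haveI : Fact (Nat.Prime 2) := ⟨Nat.prime_two⟩
  haveI := hK
  obtain ⟨S, hS⟩ := T.exists_sylow_two
  have hSK : (S : Subgroup (XR r)) ≤ K := fun a ha => by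
    rw [← QuotientGroup.eq_one_iff]
    obtain ⟨k, hk⟩ := IsPGroup.iff_orderOf.1 S.2 ⟨a, ha⟩
    rw [Subgroup.orderOf_mk] at hk
    obtain ⟨j, -, hj⟩ := (Nat.dvd_prime_pow Nat.prime_two).1
      (hk ▸ orderOf_map_dvd (QuotientGroup.mk' K) a : orderOf (a : XR r ⧸ K) ∣ 2 ^ k)
    rcases j with _ | j
    · exact orderOf_eq_one_iff.1 (hj.trans (pow_zero 2))
    · exfalso
      refine h2 ?_
      rw [Subgroup.index_eq_card]
      exact ((dvd_pow_self 2 (Nat.succ_ne_zero j)).trans hj.symm.dvd).trans (orderOf_dvd_natCard _)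
  rw [eq_top_iff, ← Sylow.normalizer_sup_eq_top' S hSK]
  refine sup_le (fun n hn => hSK ?_) le_rfl
  show n ∈ (S : Subgroup (XR r))
  replace hn : n ∈ Subgroup.normalizer ((S : Subgroup (XR r)) : Set (XR r)) := hn
  rw [← hS] at hn ⊢
  exact T.norm_range fun y hy => (Subgroup.mem_normalizer_iff.1 hn y).1 hy

theorem card_CR : Nat.card (CR r) = Nat.card (XR r) * 3 := by
  rw [Subgroup.card_eq_card_quotient_mul_card_subgroup (RR r),
    Nat.card_congr (Subgroup.subgroupOfEquivOfLe (Subgroup.zpowers_le.2 (mem_C.2 rfl) :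
      Subgroup.zpowers r ≤ CR r)).toEquiv, Nat.card_zpowers, T.ord]

theorem X_ne_168 : Nat.card (XR r) ≠ 168 := fun hX => by
  classical
  haveI : Fact (Nat.Prime 7) := ⟨by norm_num⟩
  haveI : Fact (Nat.Prime 3) := ⟨Nat.prime_three⟩
  obtain ⟨δ₀, hδ₀⟩ := exists_prime_orderOf_dvd_card' (G := XR r) 7 (by rw [hX]; norm_num)
  set W := Subgroup.zpowers δ₀ with hW
  have hW7 : Nat.card W = 7 := by rw [hW, Nat.card_zpowers, hδ₀]
  obtain ⟨P, hP⟩ := (IsPGroup.of_card (n := 1) (by rw [hW7, pow_one]) : IsPGroup 7 W).exists_le_sylow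
  have hPW : W = (P : Subgroup (XR r)) := by
    refine Subgroup.eq_of_le_of_card_ge hP ?_
    obtain ⟨n, hn⟩ := IsPGroup.iff_card.1 P.2
    rw [hW7, hn]
    rcases Nat.lt_or_ge n 2 with h2 | h2
    · exact (Nat.pow_le_pow_right (by norm_num) (by omega : n ≤ 1)).trans (by norm_num)
    · exfalso
      have := (pow_dvd_pow 7 h2).trans (hn ▸ Subgroup.card_subgroup_dvd_card (P : Subgroup (XR r)))
      rw [hX] at this
      norm_num at this
  set N := Subgroup.normalizer (W : Set (XR r)) with hN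
  have hidx : N.index % 7 = 1 := by
    have := card_sylow_modEq_one 7 (XR r)
    rw [Sylow.card_eq_index_normalizer P, Nat.ModEq] at this
    rw [hN, hPW]
    exact this
  have hWN : W ≤ N := Subgroup.le_normalizer
  have h24 : N.index ∣ 24 := by
    obtain ⟨k, hk⟩ := Subgroup.card_dvd_of_le hWN
    have := N.card_mul_index
    rw [hk, hW7, hX] at this
    exact ⟨k, by linarith⟩
  have hcases : N.index = 1 ∨ N.index = 8 := by
    have := Nat.le_of_dvd (by norm_num) h24
    interval_cases hi : N.index <;> simp_all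
  rcases hcases with h1 | h8
  · -- a normal subgroup of order seven
    have hn : ∀ x : XR r, ∀ a ∈ W, x * a * x⁻¹ ∈ W := fun x a ha =>
      (Subgroup.mem_normalizer_iff.1 (show x ∈ N by rw [Subgroup.index_eq_one.1 h1]; trivial) a).1 ha
    have hsq : ∀ d : DihedralGroup (2 ^ 2), d * d = 1 → T.ιX d * T.ιX d = 1 := fun d hd => by
      rw [← map_mul, hd, map_one]
    have hcent : ∀ d : DihedralGroup (2 ^ 2), d * d = 1 → d ≠ 1 → ∀ a ∈ W,
        a * T.ιX d = T.ιX d * a → a ∈ (⊥ : Subgroup (XR r)) := by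
      intro d hd hd1 a ha hc
      have hv : orderOf (T.ιX d) = 2 :=
        Invol.orderOf_eq_two_iff.2 ⟨fun e => hd1 (T.ιX_inj (e.trans (map_one _).symm)), hsq d hd⟩
      have h8 := Subgroup.orderOf_dvd_natCard _ (mem_C.2 hc : a ∈ Subgroup.centralizer ({T.ιX d} : Set (XR r)))
      rw [← card_cent_conj (T.X_involution hv), T.cent_range, T.card_range] at h8
      have h7 := Subgroup.orderOf_dvd_natCard W ha
      rw [hW7] at h7
      exact Subgroup.mem_bot.2 (orderOf_eq_one_iff.1 (Nat.eq_one_of_dvd_one (Nat.dvd_gcd h8 h7)))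
    have htu : T.ιX (DihedralGroup.r 2) * T.ιX (DihedralGroup.sr 0) =
        T.ιX (DihedralGroup.sr 0) * T.ιX (DihedralGroup.r 2) := by
      rw [← map_mul, ← map_mul]; exact congrArg T.ιX (by decide)
    have h2 := hsq (DihedralGroup.r 2) (by decide)
    have hu := hsq (DihedralGroup.sr 0) (by decide)
    have := four_fixed (H := (⊥ : Subgroup (XR r))) (P := W) (fun a ha b hb => by
        obtain ⟨i, rfl⟩ := Subgroup.mem_zpowers_iff.1 ha
        obtain ⟨j, rfl⟩ := Subgroup.mem_zpowers_iff.1 hb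
        exact ((Commute.refl δ₀).zpow_zpow i j).eq)
      h2 hu htu
      (fun a ha => by have := hn (T.ιX (DihedralGroup.r 2)) a ha; rwa [inv_eq_of_mul_eq_one_right h2] at this)
      (fun a ha => by have := hn (T.ιX (DihedralGroup.sr 0)) a ha; rwa [inv_eq_of_mul_eq_one_right hu] at this)
      (hcent _ (by decide) (by decide)) (hcent _ (by decide) (by decide))
      (by rw [← map_mul]; exact hcent _ (by decide) (by decide))
      (Subgroup.mem_zpowers δ₀)
    rw [Subgroup.mem_bot, ← pow_two] at this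
    have := orderOf_dvd_of_pow_eq_one this
    rw [hδ₀] at this
    norm_num at this
  -- the normaliser has order 21
  have hN21 : Nat.card N = 21 := by
    have := N.card_mul_index
    rw [h8, hX] at this
    omega
  obtain ⟨f, -, hNf, -⟩ := seven_norm hδ₀
  set C := Subgroup.centralizer ({δ₀} : Set (XR r)) with hC
  have hC7 : Nat.card C = 7 := by
    have hd : Nat.card C ∣ 21 := ⟨f, by rw [← hN21, mul_comm]; exact hNf⟩
    have h7 : 7 ∣ Nat.card C := by rw [← hδ₀]; exact Subgroup.orderOf_dvd_natCard C (mem_C.2 rfl)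
    have := Nat.le_of_dvd (by norm_num) hd
    by_contra hne
    have h21 : Nat.card C = 21 := by
      obtain ⟨k, hk⟩ := h7
      have hk3 : k ∣ 3 := Nat.dvd_of_mul_dvd_mul_left (by norm_num : 0 < 7) (hk ▸ hd)
      rcases (Nat.dvd_prime Nat.prime_three).1 hk3 with rfl | rfl <;> omega
    have hCN : C = N := by
      refine Subgroup.eq_of_le_of_card_ge (fun a ha => conj_mem_normalizer_iff fun b hb => ?_) (by rw [h21, hN21])
      rw [hC, ← centralizer_zpowers] at ha
      rw [← Subgroup.mem_centralizer_iff.1 ha b hb, mul_inv_cancel_right]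
      exact hb
    obtain ⟨K, hK, hKi⟩ := burnside_index P (fun a ha => by
      rw [← hPW] at ha ⊢
      rw [centralizer_zpowers, ← hC, hCN]
      exact ha)
    rw [← hPW, hW7] at hKi
    have := T.odd_index_top hK (by rw [hKi]; norm_num)
    rw [this, Subgroup.index_top] at hKi
    norm_num at hKi
  obtain ⟨⟨n, hnN⟩, hno⟩ := exists_prime_orderOf_dvd_card' (G := N) 3 (by rw [hN21]; norm_num)
  rw [Subgroup.orderOf_mk] at hno
  have hnne : n * δ₀ ≠ δ₀ * n := fun e => by
    have := Subgroup.orderOf_dvd_natCard C (mem_C.2 e)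
    rw [hno, hC7] at this
    norm_num at this
  -- lift to the group
  obtain ⟨a, ha⟩ := QuotientGroup.mk_surjective δ₀
  obtain ⟨b, hb⟩ := QuotientGroup.mk_surjective n
  set δ : G := (a : G) ^ 15 with hδdef
  have hδX : ((a ^ 15 : CR r) : XR r) = δ₀ := by
    rw [QuotientGroup.mk_pow, ha, ← pow_mod_orderOf, hδ₀, show 15 % 7 = 1 from rfl, pow_one]
  have ha21 : (a : G) ^ 21 = 1 := by
    have : ((a ^ 7 : CR r) : XR r) = 1 := by
      rw [QuotientGroup.mk_pow, ha, ← hδ₀, pow_orderOf_eq_one]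
    rw [XR_eq_one] at this
    obtain ⟨i, hi⟩ := Subgroup.mem_zpowers_iff.1 this
    push_cast at hi
    rw [show 21 = 7 * 3 from rfl, pow_mul, ← hi, ← zpow_natCast, ← zpow_mul, mul_comm, zpow_mul,
      zpow_natCast, T.r3, one_zpow]
  have hδo : orderOf δ = 7 := by
    refine orderOf_eq_prime ?_ fun e => ?_
    · rw [hδdef, ← pow_mul, show 15 * 7 = 21 * 5 from rfl, pow_mul, ha21, one_pow]
    · rw [show (a ^ 15 : CR r) = 1 from Subtype.ext e, QuotientGroup.mk_one] at hδX
      rw [← hδX, orderOf_one] at hδ₀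
      norm_num at hδ₀
  have hδr : δ * r = r * δ := ((show Commute (a : G) r from mem_C.1 a.2).pow_left 15).eq
  obtain ⟨i, hi⟩ := Subgroup.mem_zpowers_iff.1
    ((Subgroup.mem_normalizer_iff.1 hnN δ₀).1 (Subgroup.mem_zpowers δ₀))
  have hbδ : (b : G) * δ * (b : G)⁻¹ = δ ^ i := by
    have hy : (((a ^ 15) ^ i)⁻¹ * (b * a ^ 15 * b⁻¹) : CR r) ∈ RR r := by
      rw [← QuotientGroup.eq, QuotientGroup.mk_zpow, QuotientGroup.mk_mul, QuotientGroup.mk_mul,
        QuotientGroup.mk_inv, hδX, hb, hi]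
    rw [Subgroup.mem_subgroupOf] at hy
    push_cast at hy
    rw [← hδdef] at hy
    set u := (b : G) * δ * (b : G)⁻¹ with hu
    obtain ⟨j, hj⟩ := Subgroup.mem_zpowers_iff.1 hy
    have hju : u = δ ^ i * r ^ j := by rw [hj, mul_inv_cancel_left]
    have hcomm : Commute (δ ^ i) (r ^ j) := ((show Commute δ r from hδr).zpow_left i).zpow_right j
    have h7 : (r ^ j) ^ 7 = 1 := by
      have e : u ^ 7 = 1 := by
        rw [hu, conj_pow, ← hδo, pow_orderOf_eq_one, mul_one, mul_inv_cancel]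
      rwa [hju, hcomm.mul_pow, ← zpow_natCast (δ ^ i), ← zpow_mul, mul_comm i, zpow_mul, zpow_natCast,
        ← hδo, pow_orderOf_eq_one, one_zpow, one_mul, hδo] at e
    rw [hju, T.zpow_one (Subgroup.mem_zpowers_iff.2 ⟨j, rfl⟩) (by norm_num) h7, mul_one]
  obtain ⟨f', hf6, hNf', h3f⟩ := seven_norm hδo
  have h3 : 3 ∣ f' := by
    refine h3f b (conj_mem_normalizer_iff fun x hx => ?_) (fun e => hnne ?_) ?_
    · obtain ⟨k, rfl⟩ := Subgroup.mem_zpowers_iff.1 hx
      rw [← conj_zpow, hbδ, ← zpow_mul]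
      exact Subgroup.mem_zpowers_iff.2 ⟨_, rfl⟩
    · rw [← hb, ← hδX, ← QuotientGroup.mk_mul, ← QuotientGroup.mk_mul]
      exact congrArg _ (Subtype.ext e)
    · have : ((b ^ 3 : CR r) : XR r) = 1 := by
        rw [QuotientGroup.mk_pow, hb, ← hno, pow_orderOf_eq_one]
      rw [XR_eq_one] at this
      obtain ⟨k, hk⟩ := Subgroup.mem_zpowers_iff.1 this
      push_cast at hk
      rw [← hk]
      exact ((show Commute δ r from hδr).zpow_right k).symm.eq
  set D := Subgroup.centralizer ({δ} : Set G) with hD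
  have hrD : r ∈ D := mem_C.2 hδr.symm
  have h21 : 21 ∣ Nat.card D := Nat.Coprime.mul_dvd_of_dvd_of_dvd (by norm_num : Nat.Coprime 3 7)
    (by rw [← T.ord]; exact Subgroup.orderOf_dvd_natCard D hrD)
    (by rw [← hδo]; exact Subgroup.orderOf_dvd_natCard D (mem_C.2 rfl))
  have h9 : 9 ∣ Nat.card D := by
    have hidx' := h.seven_index hδo
    have hmul := (Subgroup.normalizer (Subgroup.zpowers δ : Set G)).card_mul_index
    rw [hNf', h.card_G] at hmul
    obtain ⟨k, hk⟩ := h21
    have hk9 : k ∣ 9 := by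
      have := h.seven_cent_dvd hδo
      rw [← hD, hk, show 7 * 27 = 21 * 9 from rfl] at this
      exact Nat.dvd_of_mul_dvd_mul_left (by norm_num) this
    rw [hk] at hmul ⊢
    obtain ⟨e, rfl⟩ := h3
    have he : e ∣ 2 := Nat.dvd_of_mul_dvd_mul_left (by norm_num : 0 < 3) hf6
    have hk' : k = 1 ∨ k = 3 ∨ k = 9 := by
      have := Nat.le_of_dvd (by norm_num) hk9
      interval_cases k <;> simp_all
    rcases (Nat.dvd_prime Nat.prime_two).1 he with rfl | rfl <;> rcases hk' with rfl | rfl | rfl <;> omega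
  obtain ⟨B, hB, hle⟩ := Sylow.exists_subgroup_card_pow_succ (p := 3) (n := 1) (G := D) (by simpa using h9)
    (H := Subgroup.zpowers (⟨r, hrD⟩ : D)) (by rw [Nat.card_zpowers, Subgroup.orderOf_mk, T.ord, pow_one])
  have hBr : B.map D.subtype ≤ Subgroup.zpowers r := by
    rintro _ ⟨y, hy, rfl⟩
    have hyr : (y : G) * r = r * y := congrArg Subtype.val (congrArg Subtype.val
      (IsPGroup.commutative_of_card_eq_prime_sq hB ⟨y, hy⟩ ⟨_, hle (Subgroup.mem_zpowers _)⟩))
    have hy9 : (⟨(y : G), mem_C.2 hyr⟩ : CR r) ^ 9 = 1 := by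
      refine Subtype.ext ?_
      have h1 := pow_card_eq_one' (x := (⟨y, hy⟩ : B))
      rw [hB, show 3 ^ (1 + 1) = 9 from rfl] at h1
      have h2 := congrArg (fun u : B => ((u : D) : G)) h1
      simpa using h2
    show (y : G) ∈ Subgroup.zpowers r
    refine (XR_eq_one (⟨(y : G), mem_C.2 hyr⟩ : CR r)).1 ?_
    refine orderOf_eq_one_iff.1 (Nat.eq_one_of_dvd_one (?_ : _ ∣ Nat.gcd 9 7))
    refine Nat.dvd_gcd (orderOf_dvd_of_pow_eq_one (by rw [← QuotientGroup.mk_pow, hy9, QuotientGroup.mk_one])) ?_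
    rw [← hC7]
    refine Subgroup.orderOf_dvd_natCard C (mem_C.2 ?_)
    rw [← hδX, ← QuotientGroup.mk_mul, ← QuotientGroup.mk_mul]
    exact congrArg _ (Subtype.ext (mem_C.1 y.2))
  have := Subgroup.card_le_of_le hBr
  rw [← Nat.card_congr (Subgroup.equivMapOfInjective _ _ D.subtype_injective).toEquiv, hB, Nat.card_zpowers,
    T.ord] at this
  norm_num at this

theorem card_X : Nat.card (XR r) = 360 := T.X_cases.resolve_left T.X_ne_168

theorem card_cent : Nat.card (CR r) = 1080 := by rw [T.card_CR, T.card_X]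

end TD

end Cfsg.Agent.HallJanko
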