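import Cfsg.Agent.HallJanko.Primes

/-!
An element of order 3 in the centraliser of the central involution, and the normalisers of cyclic subgroups of order 7.
-/

set_option autoImplicit false

namespace Cfsg.Agent.HallJanko

open DihedralGroup

namespace M

/-- The dihedral subgroup fixed by an element of order three. -/
def δfun : DihedralGroup 4 → M
  | .r i => (e 3 * e 4) ^ i.val
  | .sr i => e 3 * (e 3 * e 4) ^ i.val

theorem δfun_mul : ∀ x y : DihedralGroup 4, δfun (x * y) = δfun x * δfun y := by decide +kernel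

/-- The same map as a homomorphism. -/
def δ : DihedralGroup 4 →* M := MonoidHom.mk' δfun δfun_mul

theorem δ_inj : Function.Injective δ := by
  refine (injective_iff_map_eq_one δ).2 ?_
  show ∀ x, δfun x = 1 → x = 1
  decide +kernel

theorem δ_center : δfun (DihedralGroup.r 2) = zM := by decide +kernel

theorem δ_sr : ∀ i : ZMod 4, δfun (DihedralGroup.sr i) * δfun (DihedralGroup.sr i) = 1 ∧
    δfun (DihedralGroup.sr i) ≠ 1 ∧ δfun (DihedralGroup.sr i) ≠ zM := by decide +kernel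

theorem τσ_three : τσ 3 = 3 := by decide +kernel

theorem τσ_cent : ∀ σ : Equiv.Perm (Fin 5), Equiv.Perm.sign σ = 1 → σ * τσ = τσ * σ →
    ∃ j : Fin 3, σ = τσ ^ j.val := by decide +kernel

theorem τσ_inv_conj : ∃ σ : Equiv.Perm (Fin 5), Equiv.Perm.sign σ = 1 ∧ σ * τσ * σ⁻¹ = τσ⁻¹ := by
  decide +kernel

theorem τσ_powers : ∀ i : Fin 3, τσ ^ i.val = τσ⁻¹ → i = 2 := by decide +kernel

end M

variable {G : Type*} [Group G] [Finite G] {z : G} {Q : Subgroup G} {F : Frame z Q} {h : HJ z Q}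

/-- The data of an element of order three centralising two anticommuting involutions of `Q`. -/
structure TD (F : Frame z Q) (h : HJ z Q) (r : G) : Prop where
  hrz : r * z = z * r
  ord : orderOf r = 3
  π_eq : F.π h r = M.τσ
  fix3 : r * F.ι (M.e 3) = F.ι (M.e 3) * r
  fix4 : r * F.ι (M.e 4) = F.ι (M.e 4) * r

theorem HJ.exists_TD (h : HJ z Q) : ∃ (F : Frame z Q) (r : G), TD F h r := by
  obtain ⟨t, ht, -⟩ := h.exists_outer
  obtain ⟨F, A⟩ := h.exists_adapted ht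
  obtain ⟨r, hrz, hr3, hrs, hrπ⟩ := A.exists_r
  refine ⟨F, r, hrz, orderOf_eq_prime hr3 fun e => ?_, hrπ, ?_, hrs⟩
  · rw [e, F.π_one h] at hrπ
    exact absurd hrπ (by decide +kernel)
  · obtain ⟨a, ha⟩ := F.π_spec h hrz 3
    rw [hrπ, M.τσ_three, map_mul, F.ι_zp] at ha
    refine mul_inv_eq_iff_eq_mul.1 ?_
    rcases z2_cases a with rfl | rfl
    · rwa [pw_zero, one_mul] at ha
    · exfalso
      rw [pw_one] at ha
      set e3 := F.ι (M.e 3)
      have h3 : r ^ 3 * e3 * (r ^ 3)⁻¹ = z * e3 := by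
        have hcz : ∀ x : G, r * (z * x) * r⁻¹ = z * (r * x * r⁻¹) := fun x => by
          rw [← mul_assoc r, hrz]; group
        calc r ^ 3 * e3 * (r ^ 3)⁻¹ = r * (r * (r * e3 * r⁻¹) * r⁻¹) * r⁻¹ := by rw [pow_three]; group
          _ = z * z * (z * e3) := by rw [ha, hcz, ha, hcz, hcz, ha]; group
          _ = z * e3 := by rw [h.zsq, one_mul]
      rw [hr3, one_mul, inv_one, mul_one] at h3
      exact h.zne (right_eq_mul.1 h3)

namespace TD

variable {r : G} (T : TD F h r)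
include T

theorem r3 : r ^ 3 = 1 := orderOf_dvd_iff_pow_eq_one.1 T.ord.dvd

theorem δ_comm (x : DihedralGroup 4) : r * F.ι (M.δ x) = F.ι (M.δ x) * r := by
  have hp : ∀ n : ℕ, Commute r (F.ι ((M.e 3 * M.e 4) ^ n)) := fun n => by
    rw [map_pow, map_mul]
    exact ((show Commute r _ from T.fix3).mul_right T.fix4).pow_right n
  cases x with
  | r i => exact (hp i.val).eq
  | sr i =>
    show r * F.ι (M.e 3 * (M.e 3 * M.e 4) ^ i.val) = F.ι (M.e 3 * (M.e 3 * M.e 4) ^ i.val) * r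
    rw [map_mul]
    exact ((show Commute r _ from T.fix3).mul_right (hp i.val)).eq

theorem cent_Q {q : G} (hq : q ∈ Q) (hqr : q * r = r * q) : ∃ x, q = F.ι (M.δ x) := by
  haveI : Fact (Nat.Prime 3) := ⟨Nat.prime_three⟩
  set D := (F.ι.comp M.δ).range
  have hD8 : Nat.card D = 8 := by
    rw [← Nat.card_congr (MonoidHom.ofInjective (show Function.Injective (F.ι.comp M.δ) from
      F.ι_inj.comp M.δ_inj)).toEquiv, DihedralGroup.nat_card]
  have hle : D ≤ Q ⊓ Subgroup.centralizer ({r} : Set G) := by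
    rintro _ ⟨x, rfl⟩
    exact ⟨F.ι_mem h _, mem_C.2 (T.δ_comm x).symm⟩
  have hmod := fixed_modEq Q T.r3 (fun x hx => h.normal r T.hrz x hx)
  rw [h.card] at hmod
  have hd := Subgroup.card_dvd_of_le (inf_le_left : Q ⊓ Subgroup.centralizer ({r} : Set G) ≤ Q)
  rw [h.card] at hd
  have h8 := Subgroup.card_le_of_le hle
  rw [hD8] at h8
  obtain ⟨k, hk, hkc⟩ := (Nat.dvd_prime_pow Nat.prime_two (m := 5)).1 (hd.trans (by norm_num))
  rw [hkc, Nat.ModEq] at hmod
  have hk3 : k = 3 := by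
    rw [hkc] at h8
    interval_cases k <;> first | omega | (exfalso; norm_num at hmod; done) | skip
    exfalso
    have hall : Q ⊓ Subgroup.centralizer ({r} : Set G) = Q :=
      Subgroup.eq_of_le_of_card_ge inf_le_left (by rw [hkc, h.card]; norm_num)
    rcases h.cQ r (fun x hx => mem_C.1 (hall.ge hx).2) with e | e
    · have := T.ord; rw [e, orderOf_one] at this; omega
    · have := T.ord; rw [e, h.hz] at this; omega
  have hall := Subgroup.eq_of_le_of_card_ge hle (by rw [hD8, hkc, hk3]; norm_num)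
  obtain ⟨x, hx⟩ : q ∈ D := hall.ge ⟨hq, mem_C.2 hqr⟩
  exact ⟨x, hx.symm⟩

theorem cent_C {c : G} (hc : c * z = z * c) (hcr : c * r = r * c) :
    ∃ x, ∃ j : ℕ, c = F.ι (M.δ x) * r ^ j := by
  obtain ⟨j, hj⟩ := M.τσ_cent _ (F.π_sign h hc)
    (by rw [← T.π_eq, ← F.π_mul h hc T.hrz, ← F.π_mul h T.hrz hc, hcr])
  have hjz : r ^ j.val * z = z * r ^ j.val := ((show Commute r z from T.hrz).pow_left _).eq
  have hjz' := h.commute_inv hjz
  have hq : c * (r ^ j.val)⁻¹ ∈ Q := (F.π_eq_one_iff h ((show Commute c z from hc).mul_left hjz').eq).1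
    (by rw [F.π_mul h hc hjz', F.π_inv h hjz, F.π_pow h T.hrz, T.π_eq, hj, mul_inv_cancel])
  obtain ⟨x, hx⟩ := T.cent_Q hq
    (((show Commute c r from hcr).mul_left ((Commute.refl r).pow_left _).inv_left).eq)
  exact ⟨x, j, mul_inv_eq_iff_eq_mul.1 hx⟩

/-- Inside any subgroup of `C(z)` two subgroups of order three are conjugate. -/
theorem conj_in {H : Subgroup G} (hH : ∀ x ∈ H, x * z = z * x) {a b : G} (ha : a ∈ H) (hb : b ∈ H)
    (hao : orderOf a = 3) (hbo : orderOf b = 3) :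
    ∃ c ∈ H, c * a * c⁻¹ ∈ Subgroup.zpowers b := by
  haveI : Fact (Nat.Prime 3) := ⟨Nat.prime_three⟩
  obtain ⟨S, hS⟩ := (IsPGroup.of_card (n := 1) (by rw [Nat.card_zpowers, ← Subgroup.orderOf_coe]; simpa using hbo) :
    IsPGroup 3 (Subgroup.zpowers (⟨b, hb⟩ : H))).exists_le_sylow
  have hSe : Subgroup.zpowers (⟨b, hb⟩ : H) = (S : Subgroup H) := by
    refine Subgroup.eq_of_le_of_card_ge hS ?_
    rw [Nat.card_zpowers, Subgroup.orderOf_mk, hbo]
    obtain ⟨n, hn⟩ := IsPGroup.iff_card.1 S.2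
    have hd : 3 ^ n ∣ 1920 := by
      rw [← hn, ← h.cardC]
      exact (Subgroup.card_subgroup_dvd_card _).trans (Subgroup.card_dvd_of_le fun x hx => mem_C.2 (hH x hx))
    rw [hn]
    rcases Nat.lt_or_ge n 2 with h2 | h2
    · calc 3 ^ n ≤ 3 ^ 1 := Nat.pow_le_pow_right (by norm_num) (by omega)
        _ = 3 := by norm_num
    · exact absurd ((pow_dvd_pow 3 h2).trans hd) (by norm_num)
  obtain ⟨c, hc⟩ := exists_conj_mem S (a := (⟨a, ha⟩ : H)) (n := 1) (by rw [Subgroup.orderOf_mk, hao, pow_one])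
  rw [← hSe] at hc
  obtain ⟨i, hi⟩ := Subgroup.mem_zpowers_iff.1 hc
  refine ⟨c, c.2, Subgroup.mem_zpowers_iff.2 ⟨i, ?_⟩⟩
  have := congrArg Subtype.val hi
  push_cast at this
  exact this

theorem cases_zpowers {y : G} (hy : y ∈ Subgroup.zpowers r) (hy1 : y ≠ 1) : y = r ∨ y = r⁻¹ := by
  obtain ⟨n, rfl⟩ := (Submonoid.mem_powers_iff _ _).1 (mem_powers_iff_mem_zpowers.2 hy)
  rw [← pow_mod_orderOf r n, T.ord] at hy1 ⊢
  have := Nat.mod_lt n (show 3 > 0 by norm_num)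
  interval_cases hn : n % 3
  · exact absurd (pow_zero r) hy1
  · exact Or.inl (pow_one r)
  · exact Or.inr (eq_inv_of_mul_eq_one_left (by rw [← pow_succ]; exact T.r3))

theorem exists_inverter : ∃ i : G, i * z = z * i ∧ i * r * i⁻¹ = r⁻¹ := by
  obtain ⟨σ, hσ, hσi⟩ := M.τσ_inv_conj
  obtain ⟨c0, hc0, hc0π⟩ := F.π_surj h hσ
  set H := ((Subgroup.zpowers M.τσ).comap (F.ρ h)).map (Subgroup.centralizer ({z} : Set G)).subtype with hHdef
  have hmemH : ∀ x : G, x ∈ H ↔ x * z = z * x ∧ F.π h x ∈ Subgroup.zpowers M.τσ := by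
    intro x
    constructor
    · rintro ⟨y, hy, rfl⟩
      exact ⟨mem_C.1 y.2, by show F.π h (y : G) ∈ _; rw [F.π_eq_ρ h (mem_C.1 y.2)]; exact hy⟩
    · rintro ⟨hx, hπ⟩
      rw [F.π_eq_ρ h hx] at hπ
      exact ⟨⟨x, mem_C.2 hx⟩, hπ, rfl⟩
  have ha : (c0 * r * c0⁻¹) * z = z * (c0 * r * c0⁻¹) :=
    (((show Commute c0 z from hc0).mul_left T.hrz).mul_left (h.commute_inv hc0)).eq
  have haπ : F.π h (c0 * r * c0⁻¹) = M.τσ⁻¹ := by rw [F.π_conj h hc0 T.hrz, hc0π, T.π_eq, hσi]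
  obtain ⟨c1, hc1, hc1r⟩ := T.conj_in (H := H) (fun x hx => ((hmemH x).1 hx).1)
    ((hmemH _).2 ⟨ha, by rw [haπ]; exact inv_mem (Subgroup.mem_zpowers _)⟩)
    ((hmemH _).2 ⟨T.hrz, by rw [T.π_eq]; exact Subgroup.mem_zpowers _⟩)
    (by rw [Invol.orderOf_conj, T.ord]) T.ord
  obtain ⟨hc1z, hc1π⟩ := (hmemH c1).1 hc1
  have hiz : c1 * c0 * z = z * (c1 * c0) := ((show Commute c1 z from hc1z).mul_left hc0).eq
  refine ⟨c1 * c0, hiz, ?_⟩
  rw [show c1 * c0 * r * (c1 * c0)⁻¹ = c1 * (c0 * r * c0⁻¹) * c1⁻¹ by group]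
  rcases T.cases_zpowers hc1r (fun e => by
    have e' := congrArg orderOf e
    rw [Invol.orderOf_conj, Invol.orderOf_conj, T.ord, orderOf_one] at e'
    omega) with e | e
  · exfalso
    have e' := congrArg (F.π h) e
    rw [F.π_conj h hc1z ha, haπ, T.π_eq] at e'
    obtain ⟨i, hi⟩ := Subgroup.mem_zpowers_iff.1 hc1π
    rw [← hi, show M.τσ ^ i * M.τσ⁻¹ * (M.τσ ^ i)⁻¹ = M.τσ⁻¹ by group] at e'
    exact absurd e' (by decide +kernel)
  · exact e

theorem fuse {s : G} (hs : s ∈ Q) (hso : orderOf s = 2) (hsz : s ≠ z) (hsr : r * s = s * r) :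
    ∃ g : G, g * r = r * g ∧ g * s * g⁻¹ = z := by
  have hs_z := h.le s hs
  obtain ⟨g0, hg0⟩ := isConj_iff.1 (h.isConj_of_mem hs hso)
  set y := g0⁻¹ * z * g0 with hy
  have hyz : y * z = z * y := by
    calc g0⁻¹ * z * g0 * z = g0⁻¹ * (z * (g0 * z * g0⁻¹)) * g0 := by group
      _ = g0⁻¹ * ((g0 * z * g0⁻¹) * z) * g0 := by rw [hg0, hs_z]
      _ = z * (g0⁻¹ * z * g0) := by group
  have hyo : orderOf y = 2 := by
    have := Invol.orderOf_conj g0⁻¹ z
    rwa [inv_inv, h.hz] at this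
  have hyQ : y ∈ Q := (h.dich hyo hyz).1 (isConj_iff.2 ⟨g0⁻¹, by rw [hy]; group⟩)
  have hyne : y ≠ z := fun e => hsz (by
    calc s = g0 * z * g0⁻¹ := hg0.symm
      _ = g0 * y * g0⁻¹ := by rw [e]
      _ = z := by rw [hy]; group)
  have hflip : ∀ u ∈ Q, orderOf u = 2 → u ≠ z → ∃ q ∈ Q, q * u * q⁻¹ = z * u := by
    intro u hu huo huz
    obtain ⟨i, a, rfl⟩ := F.exists_eq h hu huo huz
    obtain ⟨q, hq⟩ := M.exists_flip i
    refine ⟨F.ι q, F.ι_mem h q, ?_⟩
    rw [F.conj_zp h (F.ι_comm h q), ← map_inv, ← map_mul, ← map_mul, hq, map_mul, map_mul, F.ι_zM,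
      F.ι_zp, ← mul_assoc, ← mul_assoc, pw_comm rfl]
  obtain ⟨q, hqQ, hq⟩ := hflip y hyQ hyo hyne
  obtain ⟨q2, hq2Q, hq2⟩ := hflip s hs hso hsz
  set hh := g0 * q * g0⁻¹ with hhdef
  have hhs : hh * s * hh⁻¹ = s := by
    rw [hhdef, ← hg0]
    calc g0 * q * g0⁻¹ * (g0 * z * g0⁻¹) * (g0 * q * g0⁻¹)⁻¹ = g0 * (q * z) * q⁻¹ * g0⁻¹ := by group
      _ = g0 * z * g0⁻¹ := by rw [h.le q hqQ]; group
  have hhz : hh * z * hh⁻¹ = z * s := by
    rw [hhdef]
    calc g0 * q * g0⁻¹ * z * (g0 * q * g0⁻¹)⁻¹ = g0 * (q * y * q⁻¹) * g0⁻¹ := by rw [hy]; group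
      _ = g0 * z * g0⁻¹ * (g0 * y * g0⁻¹) := by rw [hq]; group
      _ = s * z := by rw [hg0, hy]; group
      _ = z * s := hs_z
  set k := hh * q2 with hkdef
  have hkz : k * z * k⁻¹ = z * s := by
    rw [hkdef, show hh * q2 * z * (hh * q2)⁻¹ = hh * (q2 * z * q2⁻¹) * hh⁻¹ by group, h.le q2 hq2Q,
      mul_inv_cancel_right, hhz]
  have hks : k * s * k⁻¹ = z := by
    rw [hkdef, show hh * q2 * s * (hh * q2)⁻¹ = hh * (q2 * s * q2⁻¹) * hh⁻¹ by group, hq2,
      show hh * (z * s) * hh⁻¹ = (hh * z * hh⁻¹) * (hh * s * hh⁻¹) by group, hhz, hhs, mul_assoc,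
      Invol.mul_self_eq_one hso, mul_one]
  set H := Subgroup.centralizer ({z} : Set G) ⊓ Subgroup.centralizer ({s} : Set G)
  have hr' : k * r * k⁻¹ ∈ H := by
    have h1 : k * r * k⁻¹ * z = z * (k * r * k⁻¹) := by
      rw [← hks]
      calc k * r * k⁻¹ * (k * s * k⁻¹) = k * (r * s) * k⁻¹ := by group
        _ = k * (s * r) * k⁻¹ := by rw [hsr]
        _ = _ := by group
    have h2 : k * r * k⁻¹ * (z * s) = z * s * (k * r * k⁻¹) := by
      rw [← hkz]
      calc k * r * k⁻¹ * (k * z * k⁻¹) = k * (r * z) * k⁻¹ := by group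
        _ = k * (z * r) * k⁻¹ := by rw [T.hrz]
        _ = _ := by group
    refine ⟨mem_C.2 h1, mem_C.2 (mul_left_cancel (a := z) ?_)⟩
    calc z * (k * r * k⁻¹ * s) = k * r * k⁻¹ * (z * s) := by rw [← mul_assoc, ← h1, mul_assoc]
      _ = z * (s * (k * r * k⁻¹)) := by rw [h2, mul_assoc]
  obtain ⟨c, hc, hcr⟩ := T.conj_in (H := H) (fun x hx => mem_C.1 hx.1) hr' ⟨mem_C.2 T.hrz, mem_C.2 hsr⟩
    (by rw [Invol.orderOf_conj, T.ord]) T.ord
  have hcks : c * k * s * (c * k)⁻¹ = z := by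
    rw [show c * k * s * (c * k)⁻¹ = c * (k * s * k⁻¹) * c⁻¹ by group, hks, mem_C.1 hc.1, mul_inv_cancel_right]
  rcases T.cases_zpowers hcr (fun e => by
    have e' := congrArg orderOf e
    rw [Invol.orderOf_conj, Invol.orderOf_conj, T.ord, orderOf_one] at e'
    omega) with e | e
  · refine ⟨c * k, mul_inv_eq_iff_eq_mul.1 ?_, hcks⟩
    rw [show c * k * r * (c * k)⁻¹ = c * (k * r * k⁻¹) * c⁻¹ by group, e]
  · obtain ⟨i, hiz, hir⟩ := T.exists_inverter
    refine ⟨i * (c * k), mul_inv_eq_iff_eq_mul.1 ?_, ?_⟩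
    · rw [show i * (c * k) * r * (i * (c * k))⁻¹ = i * (c * (k * r * k⁻¹) * c⁻¹) * i⁻¹ by group, e,
        show i * r⁻¹ * i⁻¹ = (i * r * i⁻¹)⁻¹ by group, hir, inv_inv]
    · rw [show i * (c * k) * s * (i * (c * k))⁻¹ = i * (c * k * s * (c * k)⁻¹) * i⁻¹ by group, hcks, hiz,
        mul_inv_cancel_right]

end TD

/-- The normaliser of a cyclic subgroup of order 7. -/
theorem seven_norm {δ : G} (hδ : orderOf δ = 7) :
    ∃ f, f ∣ 6 ∧
      Nat.card (Subgroup.normalizer (Subgroup.zpowers δ : Set G)) =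
        f * Nat.card (Subgroup.centralizer ({δ} : Set G)) ∧
      ∀ n ∈ Subgroup.normalizer (Subgroup.zpowers δ : Set G),
        n * δ ≠ δ * n → n ^ 3 * δ = δ * n ^ 3 → 3 ∣ f := by
  haveI : Fact (Nat.Prime 3) := ⟨Nat.prime_three⟩
  set W := Subgroup.zpowers δ with hW
  set N := Subgroup.normalizer (W : Set G) with hN
  set φ := W.normalizerMonoidHom with hφ
  have hcz : Subgroup.centralizer (W : Set G) = Subgroup.centralizer ({δ} : Set G) := by
    refine le_antisymm (fun a ha => mem_C.2 (Subgroup.mem_centralizer_iff.1 ha δ (Subgroup.mem_zpowers δ)).symm)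
      fun a ha => Subgroup.mem_centralizer_iff.2 fun b hb => ?_
    obtain ⟨i, rfl⟩ := Subgroup.mem_zpowers_iff.1 hb
    exact (((show Commute a δ from mem_C.1 ha).zpow_right i).eq).symm
  have hle : Subgroup.centralizer (W : Set G) ≤ N := fun a ha => conj_mem_normalizer_iff fun b hb => by
    rw [← Subgroup.mem_centralizer_iff.1 ha b hb, mul_inv_cancel_right]; exact hb
  have hker : φ.ker = (Subgroup.centralizer (W : Set G)).subgroupOf N := W.normalizerMonoidHom_ker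
  have hW7 : Nat.card W = 7 := by rw [hW, Nat.card_zpowers, hδ]
  refine ⟨Nat.card φ.range, ?_, ?_, ?_⟩
  · have h1 := Subgroup.card_subgroup_dvd_card φ.range
    rwa [IsCyclic.card_mulAut, hW7, Nat.totient_prime (by norm_num : Nat.Prime 7)] at h1
  · rw [Subgroup.card_eq_card_quotient_mul_card_subgroup φ.ker,
      Nat.card_congr (QuotientGroup.quotientKerEquivRange φ).toEquiv, hker,
      Nat.card_congr (Subgroup.subgroupOfEquivOfLe hle).toEquiv, hcz]
  · intro n hn hne h3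
    have hmem : ∀ m : G, ∀ hm : m ∈ N, φ ⟨m, hm⟩ = 1 ↔ m * δ = δ * m := by
      intro m hm
      rw [← MonoidHom.mem_ker, hker, Subgroup.mem_subgroupOf, hcz]
      exact mem_C
    have ho : orderOf (φ ⟨n, hn⟩) = 3 := by
      refine orderOf_eq_prime ?_ fun e => hne ((hmem n hn).1 e)
      rw [← map_pow]
      exact (hmem (n ^ 3) (pow_mem hn 3)).2 h3
    have := Subgroup.orderOf_dvd_natCard φ.range (MonoidHom.mem_range.2 ⟨⟨n, hn⟩, rfl⟩ : φ ⟨n, hn⟩ ∈ φ.range)
    rwa [ho] at this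

namespace HJ

/-- The order of the centraliser of an element of order 7 divides `7 * 27`. -/
theorem seven_cent_dvd (h : HJ z Q) {δ : G} (hδ : orderOf δ = 7) :
    Nat.card (Subgroup.centralizer ({δ} : Set G)) ∣ 7 * 27 := by
  set C := Subgroup.centralizer ({δ} : Set G)
  have hd : Nat.card C ∣ 2 ^ 7 * (5 ^ 2 * (7 * 27)) := by
    have := Subgroup.card_subgroup_dvd_card C
    rwa [h.card_G] at this
  have hδC : ∀ a : C, 7 ∣ Nat.card (Subgroup.centralizer ({(a : G)} : Set G)) := fun a => by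
    rw [← hδ]
    exact Subgroup.orderOf_dvd_natCard _ (mem_C.2 (mem_C.1 a.2).symm)
  have h2 : ¬ 2 ∣ Nat.card C := fun e => by
    haveI : Fact (Nat.Prime 2) := ⟨Nat.prime_two⟩
    obtain ⟨a, ha⟩ := exists_prime_orderOf_dvd_card' 2 e
    have := hδC a
    rcases h.involution_cent (by rw [← ha, Subgroup.orderOf_coe]) with e' | e' <;> rw [e'] at this <;>
      norm_num at this
  have h5 : ¬ 5 ∣ Nat.card C := fun e => by
    haveI : Fact (Nat.Prime 5) := ⟨by norm_num⟩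
    obtain ⟨a, ha⟩ := exists_prime_orderOf_dvd_card' 5 e
    exact (h.five_cent_bound (by rw [← ha, Subgroup.orderOf_coe])).1 (hδC a)
  have h2' : Nat.Coprime (Nat.card C) (2 ^ 7) := ((Nat.prime_two.coprime_iff_not_dvd.2 h2).symm).pow_right 7
  have h5' : Nat.Coprime (Nat.card C) (5 ^ 2) :=
    (((by norm_num : Nat.Prime 5).coprime_iff_not_dvd.2 h5).symm).pow_right 2
  exact h5'.dvd_of_dvd_mul_left (h2'.dvd_of_dvd_mul_left hd)

theorem seven_index (h : HJ z Q) {δ : G} (hδ : orderOf δ = 7) :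
    Subgroup.index (Subgroup.normalizer (Subgroup.zpowers δ : Set G)) % 7 = 1 := by
  haveI : Fact (Nat.Prime 7) := ⟨by norm_num⟩
  obtain ⟨P, hP⟩ := (IsPGroup.of_card (n := 1) (by rw [Nat.card_zpowers, hδ, pow_one]) :
    IsPGroup 7 (Subgroup.zpowers δ)).exists_le_sylow
  have he : Subgroup.zpowers δ = (P : Subgroup G) := by
    refine Subgroup.eq_of_le_of_card_ge hP ?_
    rw [Nat.card_zpowers, hδ, P.card_eq_multiplicity, h.card_G, show 604800 = 7 ^ 1 * 86400 from rfl,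
      Nat.factorization_mul (by norm_num) (by norm_num), Finsupp.add_apply,
      Nat.Prime.factorization_pow (by norm_num : Nat.Prime 7), Finsupp.single_eq_same,
      Nat.factorization_eq_zero_of_not_dvd (by norm_num : ¬ 7 ∣ 86400)]
    norm_num
  have := card_sylow_modEq_one 7 G
  rw [Sylow.card_eq_index_normalizer P] at this
  rw [he]
  exact this

end HJ

end Cfsg.Agent.HallJanko
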