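import Cfsg.Agent.HallJanko.Three
import Cfsg.Agent.FusSys.EssentialCube
import Cfsg.Agent.LargeExtra.SingularSubgroup
import Cfsg.Agent.Fusion.Extraspecial

/-!
The Sylow subgroup for the prime three and the two classes of elements of order three.
-/

set_option autoImplicit false

namespace Cfsg.Agent.HallJanko

variable {G : Type*} [Group G] [Finite G] {z : G} {Q : Subgroup G}

namespace HJ

theorem three_card_sylow (h : HJ z Q) (P : Sylow 3 G) : Nat.card (P : Subgroup G) = 27 := by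
  haveI : Fact (Nat.Prime 3) := ⟨Nat.prime_three⟩
  rw [P.card_eq_multiplicity, h.card_G, show 604800 = 3 ^ 3 * 22400 from rfl,
    Nat.factorization_mul (by norm_num) (by norm_num), Finsupp.add_apply,
    Nat.Prime.factorization_pow (Nat.prime_three), Finsupp.single_eq_same,
    Nat.factorization_eq_zero_of_not_dvd (by norm_num : ¬ 3 ∣ 22400)]
  norm_num

/-- An element of order three in the simple part of the centraliser of an involution not conjugate to `z`. -/
theorem exists_three (h : HJ z Q) :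
    ∃ w : G, orderOf w = 3 ∧
      ¬ 27 ∣ Nat.card (Subgroup.centralizer ({w} : Set G)) ∧
      ¬ 7 ∣ Nat.card (Subgroup.centralizer ({w} : Set G)) ∧
      ∀ c u : G, orderOf c = 3 → orderOf u = 2 → c * u = u * c → ¬ IsConj z u → IsConj c w := by
  haveI : Fact (Nat.Prime 3) := ⟨Nat.prime_three⟩
  obtain ⟨t, ht, htz⟩ := h.exists_outer
  obtain ⟨s, g, K, d, c⟩ := h.exists_split_all ht
  obtain ⟨⟨w, hwK⟩, hwo⟩ := exists_prime_orderOf_dvd_card' (G := K) 3 (by rw [(h.card_all d c).1]; norm_num)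
  rw [Subgroup.orderOf_mk] at hwo
  obtain ⟨h27, h7⟩ := c.w_facts d h hwK hwo
  refine ⟨w, hwo, h27, h7, fun x u hx hu hxu hzu => ?_⟩
  obtain ⟨g₀, hg₀⟩ := isConj_iff.1 (h.isConj_of_not hu ht.ord hzu htz)
  set x' := g₀ * x * g₀⁻¹ with hx'
  have hx't : x' * t = t * x' := by
    rw [← hg₀]
    calc g₀ * x * g₀⁻¹ * (g₀ * u * g₀⁻¹) = g₀ * (x * u) * g₀⁻¹ := by group
      _ = g₀ * (u * x) * g₀⁻¹ := by rw [hxu]
      _ = _ := by rw [hx']; group
  have hx'o : orderOf x' = 3 := by rw [hx', Invol.orderOf_conj, hx]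
  obtain ⟨f, hf, k, hk, hfk⟩ := c.L_eq d hx't
  have hfkc : Commute k f := (c.F_cent d h hf hk).symm
  have h3 : (k * f) ^ 3 = 1 := by rw [← hfk, ← hx'o, pow_orderOf_eq_one]
  have hf1 : f = 1 := by
    refine c.inf _ hf ?_
    rw [hfkc.mul_pow, pow_three f, d.E_sq hf.1, mul_one] at h3
    rw [show f = (k ^ 3)⁻¹ from eq_inv_of_mul_eq_one_right h3]
    exact inv_mem (pow_mem hk 3)
  rw [hf1, mul_one] at hfk
  obtain ⟨a, -, ha⟩ := c.K_three d h (hfk ▸ hk : x' ∈ K) hwK hx'o hwo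
  exact (isConj_iff.2 ⟨g₀, rfl⟩ : IsConj x x').trans (isConj_iff.2 ⟨a, ha⟩)

end HJ

variable {F : Frame z Q} {h : HJ z Q} {r : G}

/-- A Sylow subgroup inside the centraliser of `r`. -/
structure TP (T : TD F h r) (P : Sylow 3 G) : Prop where
  le : (P : Subgroup G) ≤ CR r
  mem : r ∈ (P : Subgroup G)

theorem TD.exists_TP (T : TD F h r) : ∃ P : Sylow 3 G, TP T P := by
  haveI : Fact (Nat.Prime 3) := ⟨Nat.prime_three⟩
  obtain ⟨B, hB⟩ := Sylow.exists_subgroup_card_pow_prime 3 (n := 3) (G := CR r)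
    (by rw [T.card_cent]; norm_num)
  have hB' : Nat.card (B.map (CR r).subtype) = 3 ^ 3 := by
    rw [← Nat.card_congr (Subgroup.equivMapOfInjective _ _ (CR r).subtype_injective).toEquiv, hB]
  obtain ⟨P, hP⟩ := (IsPGroup.of_card hB' : IsPGroup 3 (B.map (CR r).subtype)).exists_le_sylow
  have hBP : B.map (CR r).subtype = (P : Subgroup G) :=
    Subgroup.eq_of_le_of_card_ge hP (by rw [hB', h.three_card_sylow P]; norm_num)
  have hle : (P : Subgroup G) ≤ CR r := hBP ▸ Subgroup.map_subtype_le B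
  refine ⟨P, hle, ?_⟩
  have hRn : Subgroup.zpowers r ≤ Subgroup.normalizer ((P : Subgroup G) : Set G) :=
    Subgroup.zpowers_le.2 (conj_mem_normalizer_iff fun x hx => by
      rw [← (mem_C.1 (hle hx)), mul_inv_cancel_right]; exact hx)
  have hp : IsPGroup 3 (Subgroup.zpowers r) :=
    IsPGroup.of_card (n := 1) (by rw [Nat.card_zpowers, T.ord, pow_one])
  have := hp.inf_normalizer_sylow P
  have hmem : r ∈ Subgroup.zpowers r ⊓ Subgroup.normalizer ((P : Subgroup G) : Set G) :=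
    ⟨Subgroup.mem_zpowers r, hRn (Subgroup.mem_zpowers r)⟩
  exact ((this.le hmem) : r ∈ Subgroup.zpowers r ⊓ (P : Subgroup G)).2

namespace TP

variable {T : TD F h r} {P : Sylow 3 G} (p : TP T P)
include p

theorem not_comm : ¬ IsMulCommutative ↥(P : Subgroup G) := fun hc => by
  haveI : Fact (Nat.Prime 3) := ⟨Nat.prime_three⟩
  obtain ⟨w, hwo, h27, -, -⟩ := h.exists_three
  obtain ⟨g, hg⟩ := exists_conj_mem P (n := 1) (by rw [hwo, pow_one])
  refine h27 ?_
  rw [← card_cent_conj (isConj_iff.2 ⟨g, rfl⟩ : IsConj w (g * w * g⁻¹)), ← h.three_card_sylow P]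
  exact Subgroup.card_dvd_of_le fun x hx => mem_C.2
    (congrArg Subtype.val (hc.1.1 ⟨x, hx⟩ ⟨_, hg⟩))

theorem es : Cfsg.IsExtraspecial 3 ↥(P : Subgroup G) := by
  haveI : Fact (Nat.Prime 3) := ⟨Nat.prime_three⟩
  exact FusSys.extraspecial_of_cube (by rw [h.three_card_sylow P]; norm_num) p.not_comm

theorem center_eq : Subgroup.center ↥(P : Subgroup G) = Subgroup.zpowers ⟨r, p.mem⟩ := by
  refine (Subgroup.eq_of_le_of_card_ge (Subgroup.zpowers_le.2 (Subgroup.mem_center_iff.2 fun a =>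
    Subtype.ext (mem_C.1 (p.le a.2)))) ?_).symm
  rw [p.es.2, Nat.card_zpowers, Subgroup.orderOf_mk, T.ord]

theorem central {c : G} (hc : c ∈ (P : Subgroup G)) (hall : ∀ a ∈ (P : Subgroup G), a * c = c * a) :
    c ∈ Subgroup.zpowers r := by
  have : (⟨c, hc⟩ : (P : Subgroup G)) ∈ Subgroup.center ↥(P : Subgroup G) :=
    Subgroup.mem_center_iff.2 fun a => Subtype.ext (hall a a.2)
  rw [p.center_eq, Subgroup.mem_zpowers_iff] at this
  obtain ⟨i, hi⟩ := this
  exact Subgroup.mem_zpowers_iff.2 ⟨i, by simpa using congrArg Subtype.val hi⟩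

theorem comm_mem {a b : G} (ha : a ∈ (P : Subgroup G)) (hb : b ∈ (P : Subgroup G)) :
    a * b * a⁻¹ * b⁻¹ ∈ Subgroup.zpowers r := by
  haveI : Fact (Nat.Prime 3) := ⟨Nat.prime_three⟩
  have := Fusion.es_commutator_mem p.es (⟨a, ha⟩ : (P : Subgroup G)) ⟨b, hb⟩
  rw [p.center_eq, Subgroup.mem_zpowers_iff] at this
  obtain ⟨i, hi⟩ := this
  exact Subgroup.mem_zpowers_iff.2 ⟨i, by simpa [commutatorElement_def] using congrArg Subtype.val hi⟩

theorem coset {c a : G} (hc : c ∈ (P : Subgroup G)) (hcR : c ∉ Subgroup.zpowers r)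
    (ha : a ∈ Subgroup.zpowers r) : IsConj c (c * a) := by
  obtain ⟨q, hq, hqc⟩ : ∃ q ∈ (P : Subgroup G), q * c ≠ c * q := by
    by_contra hno
    simp only [not_exists, not_and, ne_eq, not_not] at hno
    exact hcR (p.central hc hno)
  have he := p.comm_mem hq hc
  set e := q * c * q⁻¹ * c⁻¹ with hedef
  have hec : ∀ x ∈ Subgroup.zpowers r, x * c = c * x := fun x hx => by
    obtain ⟨i, rfl⟩ := Subgroup.mem_zpowers_iff.1 hx
    exact ((show Commute r c from (mem_C.1 (p.le hc)).symm).zpow_left i).eq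
  have heq : ∀ x ∈ Subgroup.zpowers r, q * x = x * q := fun x hx => by
    obtain ⟨i, rfl⟩ := Subgroup.mem_zpowers_iff.1 hx
    exact ((show Commute q r from mem_C.1 (p.le hq)).zpow_right i).eq
  have he1 : e ≠ 1 := fun e1 => hqc (mul_inv_eq_iff_eq_mul.1 (mul_inv_eq_one.1 e1))
  have h1 : q * c * q⁻¹ = c * e := by rw [← hec e he, hedef]; group
  have h2 : q⁻¹ * c * q = c * e⁻¹ := by
    calc q⁻¹ * c * q = q⁻¹ * (q * c * q⁻¹ * e⁻¹) * q := by rw [h1, mul_inv_cancel_right]
      _ = c * (q⁻¹ * (e⁻¹ * q)) := by group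
      _ = c * e⁻¹ := by rw [← heq _ (inv_mem he), inv_mul_cancel_left]
  by_cases ha1 : a = 1
  · rw [ha1, mul_one]
  rcases T.cases_zpowers he he1 with e1 | e1 <;> rcases T.cases_zpowers ha ha1 with a1 | a1
  · exact isConj_iff.2 ⟨q, by rw [h1, e1, a1]⟩
  · exact isConj_iff.2 ⟨q⁻¹, by rw [inv_inv, h2, e1, a1]⟩
  · exact isConj_iff.2 ⟨q⁻¹, by rw [inv_inv, h2, e1, a1, inv_inv]⟩
  · exact isConj_iff.2 ⟨q, by rw [h1, e1, a1]⟩

theorem five_free : ¬ 5 ∣ Nat.card ↥(Subgroup.normalizer ((P : Subgroup G) : Set G) ⊓ CR r) := fun hd => by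
  haveI : Fact (Nat.Prime 5) := ⟨by norm_num⟩
  obtain ⟨⟨e, heN, heY⟩, heo⟩ := exists_prime_orderOf_dvd_card' 5 hd
  replace heo : orderOf e = 5 := by rw [← heo, ← Subgroup.orderOf_coe]
  have hmod := fixed_modEq (P : Subgroup G) (p := 5) (by rw [← heo, pow_orderOf_eq_one])
    fun x hx => (Subgroup.mem_normalizer_iff.1 heN x).1 hx
  have hd' := Subgroup.card_dvd_of_le
    (inf_le_left : (P : Subgroup G) ⊓ Subgroup.centralizer ({e} : Set G) ≤ (P : Subgroup G))
  rw [h.three_card_sylow P] at hmod hd'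
  obtain ⟨k, hk, hkc⟩ := (Nat.dvd_prime_pow Nat.prime_three (m := 3)).1 (hd'.trans (by norm_num))
  rw [hkc, Nat.ModEq] at hmod
  have hk3 : k = 3 := by interval_cases k <;> first | rfl | norm_num at hmod
  refine (h.five_cent_bound heo).2 ?_
  have := Subgroup.card_dvd_of_le
    (inf_le_right : (P : Subgroup G) ⊓ Subgroup.centralizer ({e} : Set G) ≤ Subgroup.centralizer ({e} : Set G))
  rwa [hkc, hk3] at this

theorem card_norm_cent :
    Nat.card ↥(Subgroup.normalizer ((P : Subgroup G) : Set G) ⊓ CR r) = 108 := by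
  haveI : Fact (Nat.Prime 3) := ⟨Nat.prime_three⟩
  set N := Subgroup.normalizer ((P : Subgroup G) : Set G) with hN
  have hPNC : (P : Subgroup G) ≤ N ⊓ CR r := le_inf Subgroup.le_normalizer p.le
  obtain ⟨m, hm⟩ : 27 ∣ Nat.card ↥(N ⊓ CR r) := h.three_card_sylow P ▸ Subgroup.card_dvd_of_le hPNC
  have hm8 : m ∣ 8 := by
    have h1 := Subgroup.card_dvd_of_le (inf_le_right : N ⊓ CR r ≤ CR r)
    rw [T.card_cent, hm, show 1080 = 27 * (8 * 5) from rfl] at h1
    refine Nat.Coprime.dvd_of_dvd_mul_right ?_ (Nat.dvd_of_mul_dvd_mul_left (by norm_num) h1)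
    refine ((by norm_num : Nat.Prime 5).coprime_iff_not_dvd.2 fun e => p.five_free ?_).symm
    rw [← hN, hm]
    exact e.mul_left 27
  set Y := CR r with hY
  have hcardN : Nat.card (Subgroup.normalizer (((P.subtype p.le : Sylow 3 Y) : Subgroup Y) : Set Y)) = 27 * m := by
    rw [Sylow.coe_subtype, ← Subgroup.subgroupOf_normalizer_eq p.le, ← hm, ← Subgroup.inf_subgroupOf_right,
      Nat.card_congr (Subgroup.subgroupOfEquivOfLe inf_le_right).toEquiv]
  have hidx : 27 * m * (Subgroup.normalizer (((P.subtype p.le : Sylow 3 Y) : Subgroup Y) : Set Y)).index = 1080 := by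
    rw [← hcardN, Subgroup.card_mul_index, T.card_cent]
  have hmod := card_sylow_modEq_one 3 Y
  rw [Sylow.card_eq_index_normalizer (P.subtype p.le), Nat.ModEq] at hmod
  replace hmod : (Subgroup.normalizer (((P.subtype p.le : Sylow 3 Y) : Subgroup Y) : Set Y)).index % 3 =
    1 % 3 := hmod
  have hm14 : m = 1 ∨ m = 4 := by
    obtain ⟨k, hk, rfl⟩ := (Nat.dvd_prime_pow Nat.prime_two (m := 3)).1 (hm8.trans (by norm_num))
    interval_cases k <;> norm_num at hidx hmod ⊢ <;> omega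
  rcases hm14 with rfl | rfl
  swap
  · exact hm.trans (by norm_num)
  exfalso
  have hNP : N ⊓ CR r = (P : Subgroup G) :=
    (Subgroup.eq_of_le_of_card_ge hPNC (by rw [hm, h.three_card_sylow P])).symm
  set S₀ := (P.subtype p.le).mapSurjective (QuotientGroup.mk'_surjective (RR r)) with hS₀
  have hS₀mem : ∀ a : Y, (a : XR r) ∈ (S₀ : Subgroup (XR r)) ↔ (a : G) ∈ (P : Subgroup G) := by
    intro a
    rw [hS₀, Sylow.coe_mapSurjective, Sylow.coe_subtype]
    constructor
    · rintro ⟨b, hb, hba⟩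
      rw [QuotientGroup.mk'_apply, QuotientGroup.eq, Subgroup.mem_subgroupOf] at hba
      have := mul_mem (Subgroup.mem_subgroupOf.1 hb) (Subgroup.zpowers_le.2 p.mem hba)
      push_cast at this
      rwa [mul_inv_cancel_left] at this
    · exact fun ha => ⟨a, ha, rfl⟩
  have hcomm : Subgroup.normalizer ((S₀ : Subgroup (XR r)) : Set (XR r)) ≤
      Subgroup.centralizer ((S₀ : Subgroup (XR r)) : Set (XR r)) := by
    intro x hx
    induction x using QuotientGroup.induction_on with | _ a => ?_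
    have haP : (a : G) ∈ (P : Subgroup G) := by
      rw [← hNP]
      refine ⟨conj_mem_normalizer_iff fun b hb => ?_, a.2⟩
      have := (Subgroup.mem_normalizer_iff.1 hx _).1 ((hS₀mem ⟨b, p.le hb⟩).2 hb)
      rw [← QuotientGroup.mk_inv, ← QuotientGroup.mk_mul, ← QuotientGroup.mk_mul] at this
      exact (hS₀mem _).1 this
    refine Subgroup.mem_centralizer_iff.2 fun y hy => ?_
    induction y using QuotientGroup.induction_on with | _ b => ?_
    have hbP : (b : G) ∈ (P : Subgroup G) := (hS₀mem b).1 hy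
    rw [← QuotientGroup.mk_mul, ← QuotientGroup.mk_mul, QuotientGroup.eq, Subgroup.mem_subgroupOf]
    push_cast
    have := p.comm_mem (inv_mem haP) (inv_mem hbP)
    rwa [inv_inv, inv_inv, show (a : G)⁻¹ * (b : G)⁻¹ * a * b = ((b : G) * a)⁻¹ * (a * b) by group] at this
  obtain ⟨K, hK, hKi⟩ := burnside_index S₀ hcomm
  have hodd : ¬ 2 ∣ K.index := fun e => by
    obtain ⟨n, hn⟩ := IsPGroup.iff_card.1 S₀.2
    rw [hKi, hn] at e
    exact absurd (Nat.prime_two.dvd_of_dvd_pow e) (by norm_num)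
  have h1 := hKi
  rw [T.odd_index_top hK hodd, Subgroup.index_top] at h1
  have hle : (P : Subgroup G) ≤ Subgroup.zpowers r := fun b hb => by
    have := (hS₀mem ⟨b, p.le hb⟩).2 hb
    rw [Subgroup.eq_bot_of_card_eq _ h1.symm, Subgroup.mem_bot, XR_eq_one] at this
    exact this
  have := Subgroup.card_le_of_le hle
  rw [h.three_card_sylow P, Nat.card_zpowers, T.ord] at this
  norm_num at this

theorem exists_inverting : ∃ a ∈ Subgroup.normalizer ((P : Subgroup G) : Set G), a * r * a⁻¹ = r⁻¹ := by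
  haveI : Fact (Nat.Prime 3) := ⟨Nat.prime_three⟩
  obtain ⟨i, -, hir⟩ := T.exists_inverter
  have hiY : ∀ x : G, x * r = r * x → i * x * i⁻¹ * r = r * (i * x * i⁻¹) := by
    intro x hx
    have hx' : Commute x r⁻¹ := (show Commute x r from hx).inv_right
    have e : i * r⁻¹ * i⁻¹ = r := by rw [show i * r⁻¹ * i⁻¹ = (i * r * i⁻¹)⁻¹ by group, hir, inv_inv]
    calc i * x * i⁻¹ * r = i * x * i⁻¹ * (i * r⁻¹ * i⁻¹) := by rw [e]
      _ = i * (x * r⁻¹) * i⁻¹ := by group
      _ = i * (r⁻¹ * x) * i⁻¹ := by rw [hx'.eq]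
      _ = (i * r⁻¹ * i⁻¹) * (i * x * i⁻¹) := by group
      _ = r * (i * x * i⁻¹) := by rw [e]
  set P' := (P : Subgroup G).map (MulAut.conj i).toMonoidHom with hP'
  have hP'Y : P' ≤ CR r := by
    rintro _ ⟨x, hx, rfl⟩
    exact mem_C.2 (hiY x (mem_C.1 (p.le hx)))
  have hp' : IsPGroup 3 (P'.subgroupOf (CR r)) :=
    ((P.2.map _).comap_of_injective _ (CR r).subtype_injective)
  obtain ⟨S, hS⟩ := hp'.exists_le_sylow
  obtain ⟨y, hy⟩ := MulAction.exists_smul_eq (CR r) S (P.subtype p.le)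
  refine ⟨(y : G) * i, conj_mem_normalizer_iff fun x hx => ?_, ?_⟩
  · have hxP' : i * x * i⁻¹ ∈ P' := Subgroup.mem_map.2 ⟨x, hx, rfl⟩
    have hmem : (MulAut.conj y) ⟨i * x * i⁻¹, hP'Y hxP'⟩ ∈ ((P.subtype p.le : Sylow 3 (CR r)) : Subgroup (CR r)) := by
      rw [← hy]
      exact Subgroup.mem_map.2 ⟨_, hS (Subgroup.mem_subgroupOf.2 hxP'), rfl⟩
    rw [Sylow.coe_subtype, Subgroup.mem_subgroupOf] at hmem
    have hmem' : (y : G) * (i * x * i⁻¹) * (y : G)⁻¹ ∈ (P : Subgroup G) := by simpa using hmem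
    rwa [show (y : G) * i * x * ((y : G) * i)⁻¹ = (y : G) * (i * x * i⁻¹) * (y : G)⁻¹ by group]
  · rw [show (y : G) * i * r * ((y : G) * i)⁻¹ = (y : G) * (i * r * i⁻¹) * (y : G)⁻¹ by group, hir,
      ((show Commute (y : G) r from mem_C.1 y.2).inv_right).eq, mul_inv_cancel_right]

theorem norm_r {n : G} (hn : n ∈ Subgroup.normalizer ((P : Subgroup G) : Set G)) :
    n * r * n⁻¹ = r ∨ n * r * n⁻¹ = r⁻¹ := by
  refine T.cases_zpowers (p.central ((Subgroup.mem_normalizer_iff.1 hn r).1 p.mem) fun a ha => ?_)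
    fun e => ?_
  · have ha' := (Subgroup.mem_normalizer_iff''.1 hn a).1 ha
    have := (mem_C.1 (p.le ha'))
    calc a * (n * r * n⁻¹) = n * ((n⁻¹ * a * n) * r) * n⁻¹ := by group
      _ = n * (r * (n⁻¹ * a * n)) * n⁻¹ := by rw [this]
      _ = _ := by group
  · rw [conj_eq_one_iff] at e
    have := T.ord
    rw [e, orderOf_one] at this
    omega

theorem card_norm : Nat.card (Subgroup.normalizer ((P : Subgroup G) : Set G)) = 216 := by
  obtain ⟨a, ha, har⟩ := p.exists_inverting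
  set N := Subgroup.normalizer ((P : Subgroup G) : Set G) with hN
  have hr : r⁻¹ ≠ r := fun e => by
    have h2 : r ^ 2 = 1 := by rw [pow_two]; exact inv_eq_iff_mul_eq_one.1 e
    have := orderOf_dvd_of_pow_eq_one h2
    rw [T.ord] at this
    norm_num at this
  let v : ↥(N ⊓ CR r) × Fin 2 → N := fun x =>
    ⟨(x.1 : G) * (if x.2 = 0 then 1 else a), mul_mem x.1.2.1 (by split <;> [exact one_mem _; exact ha])⟩
  have hconj : ∀ x : ↥(N ⊓ CR r) × Fin 2,
      (v x : G) * r * (v x : G)⁻¹ = if x.2 = 0 then r else r⁻¹ := by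
    rintro ⟨x, k⟩
    have hx : Commute (x : G) r := mem_C.1 x.2.2
    show (x : G) * (if k = 0 then 1 else a) * r * ((x : G) * (if k = 0 then 1 else a))⁻¹ = if k = 0 then r else r⁻¹
    split
    · rw [mul_one, hx.eq, mul_inv_cancel_right]
    · rw [show (x : G) * a * r * ((x : G) * a)⁻¹ = (x : G) * (a * r * a⁻¹) * (x : G)⁻¹ by group, har,
        hx.inv_right.eq, mul_inv_cancel_right]
  have hv : Function.Bijective v := by
    constructor
    · rintro ⟨x, k⟩ ⟨y, l⟩ e
      have e' := hconj (x, k)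
      rw [e, hconj] at e'
      simp only at e'
      have hkl : k = l := by
        fin_cases k <;> fin_cases l <;>
          first | rfl | (exfalso; exact hr (by simpa using e')) | (exfalso; exact hr (by simpa using e'.symm))
      subst hkl
      exact congrArg (fun q => (q, k))
        (Subtype.ext (mul_right_cancel (congrArg Subtype.val e : (x : G) * _ = (y : G) * _)))
    · rintro ⟨n, hn⟩
      rcases p.norm_r hn with e | e
      · exact ⟨(⟨n, hn, mem_C.2 (mul_inv_eq_iff_eq_mul.1 e)⟩, 0), Subtype.ext (mul_one n)⟩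
      · refine ⟨(⟨n * a⁻¹, (mul_mem hn (inv_mem ha) : n * a⁻¹ ∈ N), mem_C.2 (mul_inv_eq_iff_eq_mul.1 ?_)⟩, 1),
          Subtype.ext (inv_mul_cancel_right n a)⟩
        have e2 : a⁻¹ * r * a = r⁻¹ := by
          have := congrArg (fun u => a⁻¹ * u⁻¹ * a) har
          simp only [inv_inv] at this
          rw [← this]; group
        rw [show n * a⁻¹ * r * (n * a⁻¹)⁻¹ = n * (a⁻¹ * r * a) * n⁻¹ by group, e2,
          show n * r⁻¹ * n⁻¹ = (n * r * n⁻¹)⁻¹ by group, e, inv_inv]
  rw [← Nat.card_eq_of_bijective v hv, Nat.card_prod, p.card_norm_cent, Nat.card_fin]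

theorem cent_inv_three {c u w : G} (hc : orderOf c = 3) (hu : orderOf u = 2) (hcu : c * u = u * c)
    (hw : ∀ c u : G, orderOf c = 3 → orderOf u = 2 → c * u = u * c → ¬ IsConj z u → IsConj c w) :
    IsConj c r ∨ IsConj c w := by
  by_cases hz : IsConj z u
  swap
  · exact Or.inr (hw c u hc hu hcu hz)
  refine Or.inl ?_
  obtain ⟨g, hg⟩ := isConj_iff.1 hz.symm
  set c' := g * c * g⁻¹ with hc'
  have hc'z : c' * z = z * c' := by
    rw [← hg]
    calc g * c * g⁻¹ * (g * u * g⁻¹) = g * (c * u) * g⁻¹ := by group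
      _ = g * (u * c) * g⁻¹ := by rw [hcu]
      _ = _ := by rw [hc']; group
  obtain ⟨a, -, ha⟩ := T.conj_in (H := Subgroup.centralizer ({z} : Set G)) (fun x hx => mem_C.1 hx)
    (mem_C.2 hc'z) (mem_C.2 T.hrz) (by rw [hc', Invol.orderOf_conj, hc]) T.ord
  have h1 : IsConj c (a * c' * a⁻¹) :=
    (isConj_iff.2 ⟨g, rfl⟩ : IsConj c c').trans (isConj_iff.2 ⟨a, rfl⟩)
  rcases T.cases_zpowers ha (fun e => by
    rw [conj_eq_one_iff, hc', conj_eq_one_iff] at e
    rw [e, orderOf_one] at hc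
    omega) with e | e
  · rwa [e] at h1
  · rw [e] at h1
    obtain ⟨i, -, hi⟩ := T.exists_inverter
    exact h1.trans (IsConj.symm (isConj_iff.2 ⟨i, hi⟩))

/-- Elements of order three outside the centre of the Sylow subgroup. -/
theorem outer_cases {c w : G} (hc : c ∈ (P : Subgroup G)) (hcR : c ∉ Subgroup.zpowers r)
    (hco : orderOf c = 3) (hwo : orderOf w = 3)
    (h27 : ¬ 27 ∣ Nat.card (Subgroup.centralizer ({w} : Set G)))
    (hw : ∀ c u : G, orderOf c = 3 → orderOf u = 2 → c * u = u * c → ¬ IsConj z u → IsConj c w) :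
    IsConj c r ∨ IsConj c w := by
  classical
  haveI : Fact (Nat.Prime 2) := ⟨Nat.prime_two⟩
  haveI : Fact (Nat.Prime 3) := ⟨Nat.prime_three⟩
  set N := Subgroup.normalizer ((P : Subgroup G) : Set G) with hN
  have hPn : ∀ n ∈ N, ∀ a ∈ (P : Subgroup G), n * a * n⁻¹ ∈ (P : Subgroup G) := fun n hn a ha =>
    (Subgroup.mem_normalizer_iff.1 hn a).1 ha
  have hRn : ∀ n ∈ N, ∀ a ∈ Subgroup.zpowers r, n * a * n⁻¹ ∈ Subgroup.zpowers r := by
    intro n hn a ha
    obtain ⟨i, rfl⟩ := Subgroup.mem_zpowers_iff.1 ha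
    rw [← conj_zpow]
    rcases p.norm_r hn with e | e <;> rw [e]
    · exact zpow_mem (Subgroup.mem_zpowers r) i
    · exact zpow_mem (inv_mem (Subgroup.mem_zpowers r)) i
  by_cases hex : ∃ u ∈ N, orderOf u = 2 ∧ c⁻¹ * (u * c * u⁻¹) ∈ Subgroup.zpowers r
  · obtain ⟨u, hu, huo, huc⟩ := hex
    set a := c⁻¹ * (u * c * u⁻¹) with hadef
    have huc' : u * c * u⁻¹ = c * a := by rw [hadef, mul_inv_cancel_left]
    obtain ⟨b, hb, hfix⟩ : ∃ b ∈ Subgroup.zpowers r, u * (c * b) * u⁻¹ = c * b := by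
      rcases p.norm_r hu with e | e
      · refine ⟨1, one_mem _, ?_⟩
        have hua : u * a * u⁻¹ = a := by
          obtain ⟨i, hi⟩ := Subgroup.mem_zpowers_iff.1 huc
          rw [← hi, ← conj_zpow, e]
        have huu := Invol.mul_self_eq_one huo
        have haa : a * a = 1 := by
          refine mul_left_cancel (a := c) ?_
          calc c * (a * a) = u * c * u⁻¹ * (u * a * u⁻¹) := by rw [hua, huc']; exact (mul_assoc c a a).symm
            _ = u * (c * a) * u⁻¹ := by group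
            _ = (u * u) * c * (u * u)⁻¹ := by rw [← huc']; group
            _ = c * 1 := by rw [huu]; group
        rw [mul_one, huc', T.zpow_one huc (n := 2) (by norm_num) (by rw [pow_two]; exact haa), mul_one]
      · refine ⟨a * a, mul_mem huc huc, ?_⟩
        have hua : u * a * u⁻¹ = a⁻¹ := by
          obtain ⟨i, hi⟩ := Subgroup.mem_zpowers_iff.1 huc
          rw [← hi, ← conj_zpow, e, inv_zpow]
        have ha3 : a ^ 3 = 1 := by
          obtain ⟨i, hi⟩ := Subgroup.mem_zpowers_iff.1 huc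
          rw [← hi, ← zpow_natCast, ← zpow_mul, mul_comm, zpow_mul, zpow_natCast, T.r3, one_zpow]
        calc u * (c * (a * a)) * u⁻¹ = (u * c * u⁻¹) * (u * a * u⁻¹) * (u * a * u⁻¹) := by group
          _ = c * a⁻¹ := by rw [huc', hua, mul_inv_cancel_right]
          _ = c * (a * a) := by
            rw [inv_eq_of_mul_eq_one_right (show a * (a * a) = 1 by rw [← ha3, pow_three])]
    have hcb := p.coset hc hcR hb
    rcases p.cent_inv_three (c := c * b) (by
        obtain ⟨q, hq⟩ := isConj_iff.1 hcb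
        rw [← hq, Invol.orderOf_conj, hco]) huo
      (mul_inv_eq_iff_eq_mul.1 hfix).symm hw with e | e
    · exact Or.inl (hcb.trans e)
    · exact Or.inr (hcb.trans e)
  -- otherwise a Sylow 2-subgroup of the normaliser is regular on the noncentral cosets
  obtain ⟨S, hS⟩ := Sylow.exists_subgroup_card_pow_prime 2 (n := 3) (G := N) (by rw [p.card_norm]; norm_num)
  set R' := (Subgroup.zpowers r).subgroupOf (P : Subgroup G) with hR'
  haveI hR'n : R'.Normal := ⟨fun a ha q => by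
    rw [hR', Subgroup.mem_subgroupOf] at ha ⊢
    push_cast
    exact hRn _ (Subgroup.le_normalizer q.2) _ ha⟩
  have hne : ∀ n : N, (((⟨(n : G) * c * (n : G)⁻¹, hPn _ n.2 c hc⟩ : (P : Subgroup G))) : (P : Subgroup G) ⧸ R') ≠ 1 := by
    intro n e
    rw [QuotientGroup.eq_one_iff, hR', Subgroup.mem_subgroupOf] at e
    have := hRn _ (inv_mem n.2) _ e
    rw [show (n : G)⁻¹ * ((n : G) * c * (n : G)⁻¹) * ((n : G)⁻¹)⁻¹ = c by group] at this
    exact hcR this
  let v : S → {x : (P : Subgroup G) ⧸ R' // x ≠ 1} := fun s =>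
    ⟨((⟨((s : N) : G) * c * ((s : N) : G)⁻¹, hPn _ (s : N).2 c hc⟩ : (P : Subgroup G)) : (P : Subgroup G) ⧸ R'),
      hne (s : N)⟩
  have hcard : Nat.card {x : (P : Subgroup G) ⧸ R' // x ≠ 1} = 8 := by
    have h9 : Nat.card ((P : Subgroup G) ⧸ R') = 9 := by
      have := Subgroup.card_eq_card_quotient_mul_card_subgroup R'
      rw [h.three_card_sylow P, hR',
        Nat.card_congr (Subgroup.subgroupOfEquivOfLe (Subgroup.zpowers_le.2 p.mem)).toEquiv,
        Nat.card_zpowers, T.ord] at this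
      rw [hR']
      omega
    haveI : Fintype ((P : Subgroup G) ⧸ R') := Fintype.ofFinite _
    rw [Nat.card_eq_fintype_card, Fintype.card_subtype_compl, Fintype.card_subtype_eq, ← Nat.card_eq_fintype_card, h9]
  have hinj : Function.Injective v := by
    intro s s' e
    have e1 := congrArg Subtype.val e
    rw [QuotientGroup.eq, hR', Subgroup.mem_subgroupOf] at e1
    push_cast at e1
    set x := ((s : N) : G) with hx
    set y := ((s' : N) : G) with hy
    set n := x⁻¹ * y with hn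
    have hnN : n ∈ N := mul_mem (inv_mem (s : N).2) (s' : N).2
    have hnfix : c⁻¹ * (n * c * n⁻¹) ∈ Subgroup.zpowers r := by
      have := hRn _ (inv_mem (s : N).2) _ e1
      rwa [← hx, inv_inv, show x⁻¹ * ((x * c * x⁻¹)⁻¹ * (y * c * y⁻¹)) * x = c⁻¹ * (x⁻¹ * y * c * (x⁻¹ * y)⁻¹) by group,
        ← hn] at this
    have hpow : ∀ k : ℕ, c⁻¹ * (n ^ k * c * (n ^ k)⁻¹) ∈ Subgroup.zpowers r := by
      intro k
      induction k with
      | zero => simp
      | succ k ih =>
        have h1 := hRn n hnN _ ih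
        have h2 := mul_mem hnfix h1
        rwa [show c⁻¹ * (n * c * n⁻¹) * (n * (c⁻¹ * (n ^ k * c * (n ^ k)⁻¹)) * n⁻¹)
          = c⁻¹ * ((n * n ^ k) * c * (n * n ^ k)⁻¹) by group, ← pow_succ'] at h2
    by_contra hne'
    have hn1 : n ≠ 1 := fun e' => hne' (Subtype.ext (Subtype.ext (inv_mul_eq_one.1 e')))
    have hn8 : orderOf n ∣ 2 ^ 3 := by
      refine orderOf_dvd_of_pow_eq_one ?_
      have h1 := pow_card_eq_one' (x := s⁻¹ * s')
      rw [hS] at h1
      have h2 := congrArg (fun u : S => ((u : N) : G)) h1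
      simpa using h2
    obtain ⟨k, -, hk⟩ := (Nat.dvd_prime_pow Nat.prime_two).1 hn8
    rcases k with _ | k
    · exact hn1 (orderOf_eq_one_iff.1 (hk.trans (pow_zero 2)))
    · exact hex ⟨n ^ (2 ^ k), pow_mem hnN _, by
        rw [orderOf_pow_of_dvd (by positivity) (hk ▸ pow_dvd_pow 2 (Nat.le_succ k)), hk,
          Nat.pow_div (Nat.le_succ k) two_pos]
        simp, hpow _⟩
  have hb : Function.Bijective v := (Nat.bijective_iff_injective_and_card v).2
    ⟨hinj, by rw [hS, hcard]; norm_num⟩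
  obtain ⟨g, hg⟩ := exists_conj_mem P (n := 1) (by rw [hwo, pow_one])
  set w' := g * w * g⁻¹ with hw'
  have hwR : w' ∉ Subgroup.zpowers r := fun hm => by
    refine h27 ?_
    rw [← card_cent_conj (isConj_iff.2 ⟨g, rfl⟩ : IsConj w w')]
    refine (show 27 ∣ Nat.card (CR r) by rw [T.card_cent]; norm_num).trans (Subgroup.card_dvd_of_le ?_)
    obtain ⟨i, hi⟩ := Subgroup.mem_zpowers_iff.1 hm
    intro x hx
    rw [← hi]
    exact mem_C.2 ((show Commute x r from mem_C.1 hx).zpow_right i).eq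
  obtain ⟨s, hs⟩ := hb.2 ⟨((⟨w', hg⟩ : (P : Subgroup G)) : (P : Subgroup G) ⧸ R'), fun e => hwR (by
    rw [QuotientGroup.eq_one_iff, hR', Subgroup.mem_subgroupOf] at e
    exact e)⟩
  have e1 := congrArg Subtype.val hs
  rw [QuotientGroup.eq, hR', Subgroup.mem_subgroupOf] at e1
  push_cast at e1
  refine Or.inr (((isConj_iff.2 ⟨((s : N) : G), rfl⟩ : IsConj c _).trans ?_).trans
    (isConj_iff.2 ⟨g, rfl⟩ : IsConj w w').symm)
  have := p.coset (hPn _ (s : N).2 c hc) (fun hm => hne (s : N) (by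
    rw [QuotientGroup.eq_one_iff, hR', Subgroup.mem_subgroupOf]; exact hm)) e1
  rwa [mul_inv_cancel_left] at this

end TP

namespace HJ

theorem three_classes (h : HJ z Q) : ∃ a b : G, orderOf a = 3 ∧ orderOf b = 3 ∧ ¬ IsConj a b ∧
    ¬ 7 ∣ Nat.card (Subgroup.centralizer ({a} : Set G)) ∧
    ¬ 7 ∣ Nat.card (Subgroup.centralizer ({b} : Set G)) ∧
    ∀ c : G, orderOf c = 3 → IsConj c a ∨ IsConj c b := by
  haveI : Fact (Nat.Prime 3) := ⟨Nat.prime_three⟩
  obtain ⟨F, r, T⟩ := h.exists_TD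
  obtain ⟨P, p⟩ := T.exists_TP
  obtain ⟨w, hwo, h27, h7, hw⟩ := h.exists_three
  refine ⟨r, w, T.ord, hwo, fun e => h27 ?_, ?_, h7, fun c hc => ?_⟩
  · rw [card_cent_conj e, show Nat.card (Subgroup.centralizer ({r} : Set G)) = 1080 from T.card_cent]
    norm_num
  · rw [show Nat.card (Subgroup.centralizer ({r} : Set G)) = 1080 from T.card_cent]
    norm_num
  obtain ⟨g, hg⟩ := exists_conj_mem P (n := 1) (by rw [hc, pow_one])
  have hcc : IsConj c (g * c * g⁻¹) := isConj_iff.2 ⟨g, rfl⟩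
  suffices IsConj (g * c * g⁻¹) r ∨ IsConj (g * c * g⁻¹) w from this.imp hcc.trans hcc.trans
  have ho : orderOf (g * c * g⁻¹) = 3 := by rw [Invol.orderOf_conj, hc]
  by_cases hR : g * c * g⁻¹ ∈ Subgroup.zpowers r
  · refine Or.inl ?_
    rcases T.cases_zpowers hR (fun e => by rw [e, orderOf_one] at ho; omega) with e | e
    · rw [e]
    · obtain ⟨i, -, hi⟩ := T.exists_inverter
      rw [e]
      exact (isConj_iff.2 ⟨i, hi⟩ : IsConj r r⁻¹).symm
  · exact p.outer_cases hg hR ho hwo h27 hw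

theorem sylow_three (h : HJ z Q) (P : Sylow 3 G) :
    Cfsg.IsExtraspecial 3 ↥(P : Subgroup G) ∧ Nat.card (P : Subgroup G) = 27 ∧
      Nat.card (Subgroup.normalizer ((P : Subgroup G) : Set G)) = 216 := by
  haveI : Fact (Nat.Prime 3) := ⟨Nat.prime_three⟩
  obtain ⟨F, r, T⟩ := h.exists_TD
  obtain ⟨P₀, p⟩ := T.exists_TP
  refine ⟨?_, h.three_card_sylow P, ?_⟩
  · exact LargeExtra.extraspecial_congr (P₀.equiv P) p.es
  · have e1 := Sylow.card_eq_index_normalizer P
    have e2 := Sylow.card_eq_index_normalizer P₀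
    have i1 := (Subgroup.normalizer ((P : Subgroup G) : Set G)).card_mul_index
    have i2 := (Subgroup.normalizer ((P₀ : Subgroup G) : Set G)).card_mul_index
    have hidx : (Subgroup.normalizer ((P : Subgroup G) : Set G)).index =
        (Subgroup.normalizer ((P₀ : Subgroup G) : Set G)).index := e1.symm.trans e2
    rw [hidx, ← i2] at i1
    rw [← p.card_norm]
    exact Nat.eq_of_mul_eq_mul_right (Nat.pos_of_ne_zero Subgroup.index_ne_zero_of_finite) i1

end HJ

end Cfsg.Agent.HallJanko
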